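import Groth.Agent.BunMod.K822.Nine
import Groth.Agent.Krr.H487.LocBasisPull
import Groth.Agent.ASBun.K792.SecBC
import Groth.Agent.LoccohB.HHmap

/-!
# Modules on a retracted thickening, seen on the base

`q : Y ⟶ X` affine, `i : X ⟶ Y` with `i ≫ q = 𝟙`, base change of `Spec A → Spec k` and `a : A → k` (surjective).
* `red q i h ρ : q_* M ⟶ E` attached to `ρ : i^* M ⟶ E`; `appS_red`, `red_natural`;
* `epi_red`, `exists_red_eq_zero`: `q_* M ⟶ i^* M` is onto and its kernel is generated by the kernel of `a`.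
-/

set_option autoImplicit false

universe u

open CategoryTheory CategoryTheory.Limits AlgebraicGeometry TopologicalSpace Opposite

namespace K822.Eps

open Groth.Agent.Sga67.Sec Groth.Agent.Krr.H487.LocBasisPull
open Groth.Agent.LoccohB.HHmap (smulHom smulHom_comp smulHom_app)

section Alg

open TensorProduct

variable {A B M N : Type*} [CommRing A] [CommRing B] [Algebra A B] [AddCommGroup M] [Module A M]
  [AddCommGroup N] [Module A N] [Module B N] [IsScalarTower A B N]

theorem mem_ker_smul (hS : Function.Surjective (algebraMap A B)) {f : M →ₗ[A] N}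
    (hf : IsBaseChange B f) {m : M} (hm : f m = 0) :
    m ∈ RingHom.ker (algebraMap A B) • (⊤ : Submodule A M) := by
  have h1 : (1 : B) ⊗ₜ[A] m = 0 := by
    apply hf.equiv.injective
    rw [hf.equiv_tmul, hm, smul_zero, map_zero]
  have hex : Function.Exact (RingHom.ker (algebraMap A B)).subtype (Algebra.linearMap A B) := by
    rw [LinearMap.exact_iff]
    ext x
    rw [Submodule.range_subtype]
    rfl
  have h2 := rTensor_exact M hex hS
  have h3 : (Algebra.linearMap A B).rTensor M ((1 : A) ⊗ₜ m) = 0 := by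
    rw [LinearMap.rTensor_tmul, Algebra.linearMap_apply, map_one, h1]
  obtain ⟨y, hy⟩ := (h2 _).1 h3
  have key : ∀ y : RingHom.ker (algebraMap A B) ⊗[A] M,
      TensorProduct.lid A M ((RingHom.ker (algebraMap A B)).subtype.rTensor M y) ∈
        RingHom.ker (algebraMap A B) • (⊤ : Submodule A M) := by
    intro y
    induction y using TensorProduct.induction_on with
    | zero => rw [map_zero, map_zero]; exact zero_mem _
    | tmul r m =>
      rw [LinearMap.rTensor_tmul, TensorProduct.lid_tmul]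
      exact Submodule.smul_mem_smul r.2 trivial
    | add x y hx hy => rw [map_add, map_add]; exact add_mem hx hy
  have h4 := key y
  rw [hy, TensorProduct.lid_tmul, one_smul] at h4
  exact h4

theorem exists_sum_smul (hS : Function.Surjective (algebraMap A B)) {n : ℕ} {t : Fin n → A}
    (ht : RingHom.ker (algebraMap A B) = Ideal.span (Set.range t)) {f : M →ₗ[A] N}
    (hf : IsBaseChange B f) {m : M} (hm : f m = 0) : ∃ c : Fin n → M, m = ∑ j, t j • c j := by
  have h := mem_ker_smul hS hf hm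
  rw [ht] at h
  refine Submodule.smul_induction_on h ?_ ?_
  · intro r hr x _
    obtain ⟨b, rfl⟩ := (Ideal.mem_span_range_iff_exists_fun).1 hr
    refine ⟨fun j => b j • x, ?_⟩
    rw [Finset.sum_smul]
    refine Finset.sum_congr rfl fun j _ => ?_
    rw [smul_smul, mul_comm]
  · rintro x y ⟨c, hc⟩ ⟨d, hd⟩
    refine ⟨fun j => c j + d j, ?_⟩
    rw [hc, hd, ← Finset.sum_add_distrib]
    simp only [smul_add]

theorem surjective_of_isBaseChange (hS : Function.Surjective (algebraMap A B)) {f : M →ₗ[A] N}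
    (hf : IsBaseChange B f) : Function.Surjective f := by
  intro n
  obtain ⟨z, rfl⟩ := hf.equiv.surjective n
  induction z using TensorProduct.induction_on with
  | zero => exact ⟨0, by rw [map_zero, map_zero]⟩
  | tmul b m =>
    obtain ⟨c, rfl⟩ := hS b
    exact ⟨c • m, by rw [map_smul, hf.equiv_tmul, algebraMap_smul]⟩
  | add x y hx hy =>
    obtain ⟨a, ha⟩ := hx
    obtain ⟨b, hb⟩ := hy
    exact ⟨a + b, by rw [map_add, map_add, ha, hb]⟩

end Alg

section Ext

variable {X Y : Scheme.{u}} (f : Y ⟶ X)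

/-- Morphisms out of a pull-back are determined by the pulled back sections. -/
theorem pull_ext {M : X.Modules} {N : Y.Modules} {φ ψ : (Scheme.Modules.pullback f).obj M ⟶ N}
    (h : ∀ (U : X.Opens) (s : Sec M U), appS φ (f ⁻¹ᵁ U) (pbS f M s) = appS ψ (f ⁻¹ᵁ U) (pbS f M s)) : φ = ψ := by
  apply ((Scheme.Modules.pullbackPushforwardAdjunction f).homEquiv _ _).injective
  apply hom_ext
  intro U s
  rw [Adjunction.homEquiv_unit, Adjunction.homEquiv_unit]
  exact h U s

/-- Pull-back of multiplication by a function. -/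
theorem pullback_map_smulHom (M : X.Modules) (r : Γ(X, ⊤)) :
    (Scheme.Modules.pullback f).map (smulHom M r) = smulHom ((Scheme.Modules.pullback f).obj M) (f.appTop r) := by
  apply pull_ext
  intro U s
  rw [appS_pbS]
  change pbS f M (resO X (le_top : U ≤ ⊤) r • s) = resO Y (le_top : f ⁻¹ᵁ U ≤ ⊤) (f.appTop r) • pbS f M s
  rw [pbS_smul]
  congr 1
  exact (ConcreteCategory.congr_hom (f.naturality (homOfLE (le_top : U ≤ ⊤)).op) r)

end Ext

section Red

variable {X Y : Scheme.{u}} (q : Y ⟶ X) (i : X ⟶ Y) (h : i ≫ q = 𝟙 X)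

include h in
theorem preimage_eq (U : X.Opens) : i ⁻¹ᵁ (q ⁻¹ᵁ U) = U := by
  rw [← Scheme.Hom.comp_preimage, h]
  rfl

/-- The reduction `q_* M ⟶ E` attached to `ρ : i^* M ⟶ E`. -/
noncomputable def red {M : Y.Modules} {E : X.Modules} (ρ : (Scheme.Modules.pullback i).obj M ⟶ E) :
    (Scheme.Modules.pushforward q).obj M ⟶ E :=
  (Scheme.Modules.pushforward q).map
      ((Scheme.Modules.pullbackPushforwardAdjunction i).unit.app M ≫ (Scheme.Modules.pushforward i).map ρ) ≫
    (Scheme.Modules.pushforwardComp i q).hom.app E ≫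
      (Scheme.Modules.pushforwardCongr h).hom.app E ≫ (Scheme.Modules.pushforwardId X).hom.app E

theorem appS_red {M : Y.Modules} {E : X.Modules} (ρ : (Scheme.Modules.pullback i).obj M ⟶ E) (U : X.Opens)
    (s : Sec M (q ⁻¹ᵁ U)) : appS (red q i h ρ) U s =
      res E (preimage_eq q i h U).ge (appS ρ (i ⁻¹ᵁ (q ⁻¹ᵁ U)) (pbS i M s)) := rfl

theorem red_natural {M M' : Y.Modules} {E E' : X.Modules} {ρ : (Scheme.Modules.pullback i).obj M ⟶ E}
    {ρ' : (Scheme.Modules.pullback i).obj M' ⟶ E'} (φ : M ⟶ M') (ψ : E ⟶ E')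
    (hφ : ρ ≫ ψ = (Scheme.Modules.pullback i).map φ ≫ ρ') :
    red q i h ρ ≫ ψ = (Scheme.Modules.pushforward q).map φ ≫ red q i h ρ' := by
  apply hom_ext
  intro U s
  have h1 : appS ((Scheme.Modules.pushforward q).map φ ≫ red q i h ρ') U s =
      appS (red q i h ρ') U (appS φ (q ⁻¹ᵁ U) s) := rfl
  have h2 : appS (red q i h ρ ≫ ψ) U s = appS ψ U (appS (red q i h ρ) U s) := rfl
  rw [h1, h2, appS_red, appS_red, appS_res, ← appS_comp, hφ, appS_comp, appS_pbS]

end Red

section Exact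

variable {k A : Type u} [CommRing k] [CommRing A] {a : A →+* k} {X Y : Scheme.{u}}
  {x : X ⟶ Spec (CommRingCat.of k)} {y : Y ⟶ Spec (CommRingCat.of A)}

/-- Elements of the base ring as functions. -/
noncomputable abbrev fn (y : Y ⟶ Spec (CommRingCat.of A)) : A →+* Γ(Y, ⊤) := Coh.toGlobal y

theorem appS_smulHom (M : Y.Modules) (r : Γ(Y, ⊤)) (V : Y.Opens) (s : Sec M V) :
    appS (smulHom M r) V s = resO Y (le_top : V ≤ ⊤) r • s := rfl

/-- Sections of `i^* M` over the preimage of an affine open come from `M`. -/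
theorem pbS_surjective {i : X ⟶ Y} (ha : Function.Surjective a) (sq : IsPullback i x y (Spec.map (CommRingCat.ofHom a)))
    {M : Y.Modules} (hM : Coh.IsQCoh M) {V : Y.Opens} (hV : IsAffineOpen V)
    (s : Sec ((Scheme.Modules.pullback i).obj M) (i ⁻¹ᵁ V)) : ∃ t : Sec M V, pbS i M t = s := by
  let _ : X.Over (Spec (CommRingCat.of k)) := ⟨x⟩
  let _ : Y.Over (Spec (CommRingCat.of A)) := ⟨y⟩
  let _ : Algebra A k := a.toAlgebra
  let _ : Module A (K792.SecBC.SecM k ((Scheme.Modules.pullback i).obj M) (i ⁻¹ᵁ V)) := K792.SecBC.modA _ _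
  have := K792.SecBC.isScalarTower_modA (A := A) (B := k) ((Scheme.Modules.pullback i).obj M) (i ⁻¹ᵁ V)
  have hbc := K792.SecBC.isBaseChange_psL (A := A) (B := k) i sq M hM hV
  obtain ⟨t, ht⟩ := surjective_of_isBaseChange ha hbc s
  refine ⟨t, ?_⟩
  rw [← ht, K792.SecBC.psL_apply, K792.SecBC.ps_eq]
  rfl

/-- Sections of `M` vanishing in `i^* M`. -/
theorem exists_of_pbS_eq_zero {i : X ⟶ Y} (ha : Function.Surjective a)
    (sq : IsPullback i x y (Spec.map (CommRingCat.ofHom a))) {n : ℕ} {t : Fin n → A}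
    (ht : RingHom.ker a = Ideal.span (Set.range t))
    {M : Y.Modules} (hM : Coh.IsQCoh M) {V : Y.Opens} (hV : IsAffineOpen V) (s : Sec M V)
    (hs : pbS i M s = 0) : ∃ c : Fin n → Sec M V, s = ∑ j, appS (smulHom M (fn y (t j))) V (c j) := by
  let _ : X.Over (Spec (CommRingCat.of k)) := ⟨x⟩
  let _ : Y.Over (Spec (CommRingCat.of A)) := ⟨y⟩
  let _ : Algebra A k := a.toAlgebra
  let _ : Module A (K792.SecBC.SecM k ((Scheme.Modules.pullback i).obj M) (i ⁻¹ᵁ V)) := K792.SecBC.modA _ _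
  have := K792.SecBC.isScalarTower_modA (A := A) (B := k) ((Scheme.Modules.pullback i).obj M) (i ⁻¹ᵁ V)
  have hbc := K792.SecBC.isBaseChange_psL (A := A) (B := k) i sq M hM hV
  have h0 : K792.SecBC.psL (A := A) (B := k) i sq M V s = 0 := by
    rw [K792.SecBC.psL_apply, K792.SecBC.ps_eq]
    exact hs
  obtain ⟨c, hc⟩ := exists_sum_smul ha (t := t) ht hbc h0
  exact ⟨c, hc⟩

theorem fn_comp_hom {i : X ⟶ Y} (sq : IsPullback i x y (Spec.map (CommRingCat.ofHom a))) :
    (i.appTop).hom.comp (fn y) = (fn x).comp a := by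
  have h2 := Scheme.ΓSpecIso_inv_naturality (CommRingCat.ofHom a)
  have h1 : (Scheme.ΓSpecIso (CommRingCat.of A)).inv ≫ y.appTop ≫ i.appTop =
      CommRingCat.ofHom a ≫ (Scheme.ΓSpecIso (CommRingCat.of k)).inv ≫ x.appTop := by
    rw [← Scheme.Hom.comp_appTop, sq.w, Scheme.Hom.comp_appTop, ← Category.assoc, ← h2, Category.assoc]
  ext r
  exact congr($h1 r)

variable (q : Y ⟶ X) (i : X ⟶ Y) (h : i ≫ q = 𝟙 X) (ha : Function.Surjective a)
  (sq : IsPullback i x y (Spec.map (CommRingCat.ofHom a)))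

theorem res_injective_of_eq {E : X.Modules} {U V : X.Opens} (e : V = U) (s : Sec E U)
    (hs : res E e.le s = 0) : s = 0 := by
  subst e
  rwa [res_self] at hs

include ha sq in
theorem epi_red [IsAffineHom q] {M : Y.Modules} (hM : Coh.IsQCoh M) {E : X.Modules}
    (ρ : (Scheme.Modules.pullback i).obj M ⟶ E) [IsIso ρ] : Epi (red q i h ρ) := by
  apply epi_of_locally_surjective
  intro U s z hz
  obtain ⟨V, ⟨hV, hVU⟩, hzV⟩ : ∃ V : X.Opens, (IsAffineOpen V ∧ V ≤ U) ∧ z ∈ V := by
    obtain ⟨_, ⟨V, hV, rfl⟩, hzV, hVU⟩ := X.isBasis_affineOpens.exists_subset_of_mem_open hz U.isOpen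
    exact ⟨V, ⟨hV, hVU⟩, hzV⟩
  refine ⟨V, hVU, hzV, ?_⟩
  let s' : Sec E (i ⁻¹ᵁ (q ⁻¹ᵁ V)) := res E ((preimage_eq q i h V).le.trans hVU) s
  obtain ⟨t, ht⟩ := pbS_surjective ha sq hM (hV.preimage q) (appS (inv ρ) _ s')
  refine ⟨t, ?_⟩
  rw [appS_red, ht, ← appS_comp, IsIso.inv_hom_id, appS_id, res_res]

include ha sq in
theorem exists_red_eq_zero [IsAffineHom q] {n : ℕ} {t : Fin n → A}
    (ht : RingHom.ker a = Ideal.span (Set.range t)) {M : Y.Modules} (hM : Coh.IsQCoh M) {E : X.Modules}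
    (ρ : (Scheme.Modules.pullback i).obj M ⟶ E) [IsIso ρ] {U : X.Opens} (hU : IsAffineOpen U)
    (s : Sec M (q ⁻¹ᵁ U)) (hs : appS (red q i h ρ) U s = 0) :
    ∃ c : Fin n → Sec M (q ⁻¹ᵁ U), s = ∑ j, appS (smulHom M (fn y (t j))) (q ⁻¹ᵁ U) (c j) := by
  refine exists_of_pbS_eq_zero ha sq ht hM (hU.preimage q) s ?_
  rw [appS_red] at hs
  have h1 := res_injective_of_eq (preimage_eq q i h U).symm _ hs
  have h2 : appS (inv ρ) (i ⁻¹ᵁ (q ⁻¹ᵁ U)) (appS ρ (i ⁻¹ᵁ (q ⁻¹ᵁ U)) (pbS i M s)) = 0 := by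
    rw [h1, map_zero]
  rwa [← appS_comp, IsIso.hom_inv_id, appS_id] at h2

include sq in
/-- `red` kills the kernel of `a`. -/
theorem smul_red {M : Y.Modules} {E : X.Modules} (ρ : (Scheme.Modules.pullback i).obj M ⟶ E) (b : A) :
    (Scheme.Modules.pushforward q).map (smulHom M (fn y b)) ≫ red q i h ρ = red q i h ρ ≫ smulHom E (fn x (a b)) := by
  refine (red_natural q i h (smulHom M (fn y b)) (smulHom E (fn x (a b))) ?_).symm
  rw [← smulHom_comp, pullback_map_smulHom]
  congr 2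
  exact (congr($(fn_comp_hom sq) b)).symm

end Exact

end K822.Eps
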