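import Groth.Agent.BunMod.K822.Vers

/-!
# Rigidity from the matrix

If a tangent vector `v` over `t` moves the kernel of the matrix `d(t)` into its image, then the connecting map
`H⁰(F_t ⊗ A) → H¹(F_t ⊗ A)` of the extension realized by `v` is zero.
* `rig_gen`, `rig_cst`: generic forms; `rig_real`: on `X_T`, the extension realized by `v` (`K822.Onto.Real`);
* `rig` (P4a): the extension whose class is the class `K822.XAdd.cls` of `v`.
-/

set_option autoImplicit false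

universe w u

open CategoryTheory CategoryTheory.Limits AlgebraicGeometry TopologicalSpace Opposite MonoidalCategory

namespace K822.Rig

open scoped Groth.Agent.Dcoh.MonCat
open Groth.Agent.Dcoh Groth.Agent.Dcoh.MonPull
open Groth.Agent.Sga67.Sec Groth.Agent.Krr.H487.LocBasisPull Groth.Agent.Fga.RigGrp
open K140.BM K822.Eps K822.EMod K822.Nine K822.Tr K822.Tens K822.XTD K822.OntoX K822.Onto K822.XAdd
open Functor.LaxMonoidal Functor.OplaxMonoidal

section gen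

variable {k : Type u} [Field k] {X Y Z W : Scheme.{u}} (D : DT k X Y) (v : Y ⟶ Z) {z : X ⟶ Z} (h : D.i ≫ v = z)

variable {K P Q : Z.Modules} {a : K ⟶ P} {b : P ⟶ Q} {w : a ≫ b = 0}

theorem appS_sum {ι κ : Type*} [Fintype ι] [Fintype κ] (e : ι → Sec P ⊤) (f : κ → Sec Q ⊤) (d : κ → ι → Γ(Z, ⊤))
    (hd : ∀ j, appS b ⊤ (e j) = ∑ l, d l j • f l) (m : κ → ι → k)
    (hm : ∀ l j, (z.appTop (d l j) : Γ(X, ⊤)) = fn D.x (m l j)) (x : ι → k) :
    appS ((Scheme.Modules.pullback z).map b) ⊤ (∑ j, fn D.x (x j) • gs z P (e j)) =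
      ∑ l, fn D.x (∑ j, m l j * x j) • gs z Q (f l) := by
  rw [map_sum]
  have h5 : ∀ j, appS ((Scheme.Modules.pullback z).map b) ⊤ (fn D.x (x j) • gs z P (e j)) =
      ∑ l, fn D.x (m l j * x j) • gs z Q (f l) := by
    intro j
    rw [map_smul, appS_gs, hd, map_sum, Finset.smul_sum]
    refine Finset.sum_congr rfl fun l _ => ?_
    rw [gs_smul, hm, smul_smul, map_mul, mul_comm]
  rw [Finset.sum_congr rfl fun j _ => h5 j, Finset.sum_comm]
  refine Finset.sum_congr rfl fun l _ => ?_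
  rw [← Finset.sum_smul, ← map_sum]

theorem rig_aux (hK : Coh.IsQCoh K) (hP : Coh.IsQCoh P) (hQ : Coh.IsQCoh Q)
    (fK : D.EFlat ((Scheme.Modules.pullback v).obj K)) (fP : D.EFlat ((Scheme.Modules.pullback v).obj P))
    (hex : (ShortComplex.mk a b w).Exact) [Epi b]
    {wz : (Scheme.Modules.pullback z).map a ≫ (Scheme.Modules.pullback z).map b = 0}
    (hz : (ShortComplex.mk ((Scheme.Modules.pullback z).map a) ((Scheme.Modules.pullback z).map b) wz).ShortExact)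
    {ι κ : Type*} [Fintype ι] [Fintype κ] (e : ι → Sec P ⊤) (f : κ → Sec Q ⊤) (d : κ → ι → Γ(Z, ⊤))
    (hd : ∀ j, appS b ⊤ (e j) = ∑ l, d l j • f l) (c : κ → ι → DualNumber k)
    (hc : ∀ l j, (v.appTop (d l j) : Γ(Y, ⊤)) = fn D.y (c l j)) (s : ι → k) (hs : ∀ l, ∑ j, (c l j).fst * s j = 0)
    (σ : Sec ((Scheme.Modules.pullback z).obj K) ⊤)
    (hσ : appS ((Scheme.Modules.pullback z).map a) ⊤ σ = ∑ j, fn D.x (s j) • gs z P (e j)) (c' : ι → k)
    (hc' : ∀ l, ∑ j, (c l j).snd * s j = ∑ j, (c l j).fst * c' j) : dl (sv D v h hK fK).shortExact σ = 0 := by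
  have h1 := link_point D v h hK hP hQ fK fP hex hz e f d hd c hc s hs σ hσ
  have h2 : ∑ l, fn D.x (∑ j, (c l j).snd * s j) • gs z Q (f l) =
      appS ((Scheme.Modules.pullback z).map b) ⊤ (∑ j, fn D.x (c' j) • gs z P (e j)) := by
    rw [appS_sum D e f d hd (fun l j => (c l j).fst) (fun l j => appTop_z D v h (hc l j)) c']
    exact Finset.sum_congr rfl fun l _ => by rw [hc']
  rw [h2] at h1
  have h3 : dl hz (appS ((Scheme.Modules.pullback z).map b) ⊤ (∑ j, fn D.x (c' j) • gs z P (e j))) = 0 := dl_map hz _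
  rw [h3, add_zero] at h1
  exact h1

/-- Rigidity from the matrix for the extension realized by `v`. -/
theorem rig_gen (pr : Z ⟶ W) (hp : v ≫ pr = D.q ≫ z ≫ pr) {E : Z.Modules} {N : W.Modules}
    {P Q : Z.Modules} {a : E ⊗ (Scheme.Modules.pullback pr).obj N ⟶ P} {b : P ⟶ Q} {w : a ≫ b = 0}
    (hE : FlatMod.IsFinLocFree E) (hN : FlatMod.IsFinLocFree N) (hP : FlatMod.IsFinLocFree P) (hQ : Coh.IsQCoh Q)
    (hex : (ShortComplex.mk a b w).Exact) [Epi b]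
    {wz : (Scheme.Modules.pullback z).map a ≫ (Scheme.Modules.pullback z).map b = 0}
    (hz : (ShortComplex.mk ((Scheme.Modules.pullback z).map a) ((Scheme.Modules.pullback z).map b) wz).ShortExact)
    {ι κ : Type*} [Fintype ι] [Fintype κ] (e : ι → Sec P ⊤) (f : κ → Sec Q ⊤) (d : κ → ι → Γ(Z, ⊤))
    (hd : ∀ j, appS b ⊤ (e j) = ∑ l, d l j • f l)
    (he : ∀ p : Sec ((Scheme.Modules.pullback z).obj P) ⊤, ∃ c : ι → k, p = ∑ j, fn D.x (c j) • gs z P (e j))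
    (hf : ∀ x : κ → k, ∑ l, fn D.x (x l) • gs z Q (f l) = 0 → x = 0)
    (m : κ → ι → k) (hm : ∀ l j, (z.appTop (d l j) : Γ(X, ⊤)) = fn D.x (m l j))
    (c : κ → ι → DualNumber k) (hcm : ∀ l j, (c l j).fst = m l j)
    (hc : ∀ l j, (v.appTop (d l j) : Γ(Y, ⊤)) = fn D.y (c l j))
    (hrig : ∀ s : ι → k, (∀ l, ∑ j, m l j * s j = 0) → ∃ c' : ι → k, ∀ l, ∑ j, (c l j).snd * s j = ∑ j, m l j * c' j)
    {G : X.Modules} {f₀ : (Scheme.Modules.pullback z).obj E ⟶ G} {g₀ : G ⟶ (Scheme.Modules.pullback z).obj E}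
    {w₀ : f₀ ≫ g₀ = 0} (hS : (ShortComplex.mk f₀ g₀ w₀).ShortExact) (hR : Real D v h E (g₀ ≫ f₀) g₀)
    (hSN : ((ShortComplex.mk f₀ g₀ w₀).map (DCoh.tensorRightMod
      ((Scheme.Modules.pullback z).obj ((Scheme.Modules.pullback pr).obj N)))).ShortExact)
    (x : Coh.HH X ((DCoh.tensorRightMod ((Scheme.Modules.pullback z).obj
          ((Scheme.Modules.pullback pr).obj N))).obj ((Scheme.Modules.pullback z).obj E)) 0) :
    Groth.Agent.CohqB.HSeqMod.δ hSN 0 x = 0 := by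
  have hq : ∀ {F : Z.Modules}, FlatMod.IsFinLocFree F → Coh.IsQCoh F := fun hF =>
    Groth.Agent.Ega2.QCohLocal.isQCoh_of_isFinLocFree hF
  have hv : ∀ {F : Z.Modules}, FlatMod.IsFinLocFree F → D.EFlat ((Scheme.Modules.pullback v).obj F) := fun hF =>
    D.eFlat_of_isFinLocFree (Groth.Agent.PerfC.PullRestrict.isFinLocFree_pullback v hF)
  have hN' := Groth.Agent.PerfC.PullRestrict.isFinLocFree_pullback pr hN
  have hK : FlatMod.IsFinLocFree (E ⊗ (Scheme.Modules.pullback pr).obj N) :=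
    Groth.Agent.Sga67.LocBasis.isFinLocFree_tensorMod hE hN'
  have H := sv D v h (hq hE) (hv hE)
  have hNz := Groth.Agent.PerfC.PullRestrict.isFinLocFree_pullback z hN'
  have hT0 := shortExact_tensor hNz H.shortExact
  obtain ⟨hT, -⟩ := δ_tw (whisk_zero H.j_π _) hT0
  obtain ⟨hS', hS''⟩ := δ_tw (whisk_zero w₀ _) hSN
  have hμ : IsIso (μ (Scheme.Modules.pullback z) E ((Scheme.Modules.pullback pr).obj N)) := inferInstance
  obtain ⟨σ, rfl⟩ := (c0 ((Scheme.Modules.pullback z).obj E ⊗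
    (Scheme.Modules.pullback z).obj ((Scheme.Modules.pullback pr).obj N))).surjective x
  obtain ⟨s, hs⟩ := he (appS ((Scheme.Modules.pullback z).map a) ⊤ (appS (μ (Scheme.Modules.pullback z) E _) ⊤ σ))
  have hms : ∀ l, ∑ j, m l j * s j = 0 := by
    have h1 := appS_sum D e f d hd m hm s
    rw [← hs, ← appS_comp, wz] at h1
    have h2 : appS (0 : (Scheme.Modules.pullback z).obj (E ⊗ (Scheme.Modules.pullback pr).obj N) ⟶
      (Scheme.Modules.pullback z).obj Q) ⊤ (appS (μ (Scheme.Modules.pullback z) E _) ⊤ σ) = 0 := appS_zero _ _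
    rw [h2] at h1
    exact fun l => congrFun (hf _ h1.symm) l
  obtain ⟨c', hc'⟩ := hrig s hms
  have h1 := dl_real D v h (Tht.tht_rd D v h pr hp N) H (sv D v h (hq hK) (hv hK)) hT hS.epi_g hR hS' σ
  have h2 := rig_aux D v h (hq hK) (hq hP) hQ (hv hK) (hv hP) hex hz e f d hd c hc s (fun l => by
    simpa only [hcm] using hms l) _ hs c' (fun l => by simpa only [hcm] using hc' l)
  rw [h2, hS''] at h1
  have h3 := congrArg (Groth.Agent.CohqB.HSeqMod.hmap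
    (inv (μ (Scheme.Modules.pullback z) E ((Scheme.Modules.pullback pr).obj N))) 1) h1.symm
  rw [← Groth.Agent.CohqB.HSeqMod.hmap_comp_apply, IsIso.hom_inv_id, Groth.Agent.CohqB.HSeqMod.hmap_id_apply,
    map_zero] at h3
  exact h3

end gen

section cst

variable {k : Type u} [Field k] {X Y Z W : Scheme.{u}} (D : DT k X Y) (v : Y ⟶ Z) {z : X ⟶ Z} (h : D.i ≫ v = z)
  (pr : Z ⟶ W) [IsIso (z ≫ pr)] {E : Z.Modules} {A B C : W.Modules} {f₁ : A ⟶ B} {g₁ : B ⟶ C} {w₁ : f₁ ≫ g₁ = 0}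

/-- `rig_gen` for `E ⊗ (A → B → C)`, the complex being constant. -/
theorem rig_cst (hp : v ≫ pr = D.q ≫ z ≫ pr) (hS : (ShortComplex.mk f₁ g₁ w₁).ShortExact)
    (hE : FlatMod.IsFinLocFree E) (hA : FlatMod.IsFinLocFree A) (hB : FlatMod.IsFinLocFree B)
    {ι κ : Type*} [Fintype ι] [Fintype κ] (e : ι → Sec (E ⊗ (Scheme.Modules.pullback pr).obj B) ⊤)
    (f : κ → Sec (E ⊗ (Scheme.Modules.pullback pr).obj C) ⊤) (d : κ → ι → Γ(Z, ⊤))
    (hd : ∀ j, appS (E ◁ (Scheme.Modules.pullback pr).map g₁) ⊤ (e j) = ∑ l, d l j • f l)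
    (he : ∀ p : Sec ((Scheme.Modules.pullback z).obj (E ⊗ (Scheme.Modules.pullback pr).obj B)) ⊤,
      ∃ c : ι → k, p = ∑ j, fn D.x (c j) • gs z (E ⊗ (Scheme.Modules.pullback pr).obj B) (e j))
    (hf : ∀ x : κ → k, ∑ l, fn D.x (x l) • gs z (E ⊗ (Scheme.Modules.pullback pr).obj C) (f l) = 0 → x = 0)
    (m : κ → ι → k) (hm : ∀ l j, (z.appTop (d l j) : Γ(X, ⊤)) = fn D.x (m l j))
    (c : κ → ι → DualNumber k) (hcm : ∀ l j, (c l j).fst = m l j)
    (hc : ∀ l j, (v.appTop (d l j) : Γ(Y, ⊤)) = fn D.y (c l j))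
    (hrig : ∀ s : ι → k, (∀ l, ∑ j, m l j * s j = 0) → ∃ c' : ι → k, ∀ l, ∑ j, (c l j).snd * s j = ∑ j, m l j * c' j)
    {G : X.Modules} {f₀ : (Scheme.Modules.pullback z).obj E ⟶ G} {g₀ : G ⟶ (Scheme.Modules.pullback z).obj E}
    {w₀ : f₀ ≫ g₀ = 0} (hS₀ : (ShortComplex.mk f₀ g₀ w₀).ShortExact) (hR : Real D v h E (g₀ ≫ f₀) g₀)
    (hSN : ((ShortComplex.mk f₀ g₀ w₀).map (DCoh.tensorRightMod
      ((Scheme.Modules.pullback z).obj ((Scheme.Modules.pullback pr).obj A)))).ShortExact)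
    (x : Coh.HH X ((DCoh.tensorRightMod ((Scheme.Modules.pullback z).obj
          ((Scheme.Modules.pullback pr).obj A))).obj ((Scheme.Modules.pullback z).obj E)) 0) :
    Groth.Agent.CohqB.HSeqMod.δ hSN 0 x = 0 := by
  have hq : ∀ {S : Scheme.{u}} {F : S.Modules}, FlatMod.IsFinLocFree F → Coh.IsQCoh F := fun hF =>
    Groth.Agent.Ega2.QCohLocal.isQCoh_of_isFinLocFree hF
  have hg1 : Epi g₁ := hS.epi_g
  have hf1 : Mono f₁ := hS.mono_f
  have hpA := Groth.Agent.PerfC.PullRestrict.isFinLocFree_pullback pr hA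
  have hpB := Groth.Agent.PerfC.PullRestrict.isFinLocFree_pullback pr hB
  have hEA : FlatMod.IsFinLocFree (E ⊗ (Scheme.Modules.pullback pr).obj A) :=
    Groth.Agent.Sga67.LocBasis.isFinLocFree_tensorMod hE hpA
  have hEB : FlatMod.IsFinLocFree (E ⊗ (Scheme.Modules.pullback pr).obj B) :=
    Groth.Agent.Sga67.LocBasis.isFinLocFree_tensorMod hE hpB
  have w2 : (Scheme.Modules.pullback pr).map f₁ ≫ (Scheme.Modules.pullback pr).map g₁ = 0 := by
    rw [← Functor.map_comp, w₁, Functor.map_zero]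
  have ex2 := exact_pull pr hS.exact w2
  have ep2 : Epi ((Scheme.Modules.pullback pr).map g₁) := inferInstance
  have w3 := wl_zero E w2
  have ex3 := exact_wl E ex2 w3
  have ep3 := epi_wl E ((Scheme.Modules.pullback pr).map g₁)
  have w4 : (Scheme.Modules.pullback z).map (E ◁ (Scheme.Modules.pullback pr).map f₁) ≫
      (Scheme.Modules.pullback z).map (E ◁ (Scheme.Modules.pullback pr).map g₁) = 0 := by
    rw [← Functor.map_comp, w3, Functor.map_zero]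
  have ex4 := exact_pull z ex3 w4
  have hz : (ShortComplex.mk _ _ w4).ShortExact :=
    { exact := ex4
      mono_f := mono_pull_wl z pr hE f₁
      epi_g := inferInstanceAs (Epi ((Scheme.Modules.pullback z).map (E ◁ (Scheme.Modules.pullback pr).map g₁))) }
  exact rig_gen D v h pr hp hE hA hEB (isQCoh_of_exact (hq hEA) (hq hEB) ex3) ex3 hz e f d hd he hf m hm c hcm hc hrig
    hS₀ hR hSN x

end cst

section XT

variable {k : Type u} [Field k] {X : Scheme.{u}} [X.Over (Spec (CommRingCat.of k))] {T : Over (B0 k)} {t : T0 k ⟶ T}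

/-- Rigidity from the matrix, for an extension realized by the tangent vector `v`. -/
theorem rig_real {F : (PicF.XT (st k X) T).Modules} {A B C : X.Modules} {f₁ : A ⟶ B} {g₁ : B ⟶ C} {w₁ : f₁ ≫ g₁ = 0}
    (hS : (ShortComplex.mk f₁ g₁ w₁).ShortExact)
    (hF : FlatMod.IsFinLocFree F) (hA : FlatMod.IsFinLocFree A) (hB : FlatMod.IsFinLocFree B)
    {ι κ : Type*} [Fintype ι] [Fintype κ] (e : ι → Sec (F ⊗ cst k T B) ⊤)
    (f : κ → Sec (F ⊗ cst k T C) ⊤) (d : κ → ι → Γ(T.left, ⊤))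
    (hd : ∀ j, appS (F ◁ (Scheme.Modules.pullback (pX X T)).map g₁) ⊤ (e j) = ∑ l, fT k X T (d l j) • f l)
    (he : ∀ p : Sec (pl k X t (F ⊗ cst k T B)) ⊤,
      ∃ c : ι → k, p = ∑ j, fn (dt k X).x (c j) • gs (PicF.XTmap (st k X) t) (F ⊗ cst k T B) (e j))
    (hf : ∀ x : κ → k, ∑ l, fn (dt k X).x (x l) • gs (PicF.XTmap (st k X) t) (F ⊗ cst k T C) (f l) = 0 → x = 0)
    (v : Te k ⟶ T) (hv : iT k ≫ v = t)
    (hrig : ∀ s : ι → k, (∀ l, ∑ j, ev0 t (d l j) * s j = 0) →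
      ∃ c : ι → k, ∀ l, ∑ j, (evE v (d l j)).snd * s j = ∑ j, ev0 t (d l j) * c j)
    {G : (PicF.XT (st k X) (T0 k)).Modules} {f₀ : pl k X t F ⟶ G} {g₀ : G ⟶ pl k X t F} {w₀ : f₀ ≫ g₀ = 0}
    (h₀ : (ShortComplex.mk f₀ g₀ w₀).ShortExact)
    (hR : Real (dt k X) (PicF.XTmap (st k X) v) (di_v hv) F (g₀ ≫ f₀) g₀)
    (hN : ((ShortComplex.mk f₀ g₀ w₀).map (DCoh.tensorRightMod (pl k X t (cst k T A)))).ShortExact)
    (σ : Coh.HH _ ((DCoh.tensorRightMod (pl k X t (cst k T A))).obj (pl k X t F)) 0) :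
    Groth.Agent.CohqB.HSeqMod.δ hN 0 σ = 0 := by
  have i1 := isIso_pX (X := X) t
  exact rig_cst (dt k X) (PicF.XTmap (st k X) v) (di_v hv) (pX X T) pX_v hS hF hA hB e f
    (fun l j => fT k X T (d l j)) hd he hf (fun l j => ev0 t (d l j)) (fun l j => appTop_ev0 t (d l j))
    (fun l j => evE v (d l j)) (fun l j => by rw [evE_fst, hv]) (fun l j => appTop_evE v (d l j)) hrig h₀ hR hN σ

/-- (P4a) Rigidity from the matrix, for an extension whose class is the class of the tangent vector `v`. -/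
theorem rig [HasExt.{w} (PicF.XT (st k X) (T0 k)).Modules]
    {F : (PicF.XT (st k X) T).Modules} {A B C : X.Modules} {f₁ : A ⟶ B} {g₁ : B ⟶ C} {w₁ : f₁ ≫ g₁ = 0}
    (hS : (ShortComplex.mk f₁ g₁ w₁).ShortExact)
    (hF : FlatMod.IsFinLocFree F) (hA : FlatMod.IsFinLocFree A) (hB : FlatMod.IsFinLocFree B)
    {ι κ : Type*} [Fintype ι] [Fintype κ] (e : ι → Sec (F ⊗ cst k T B) ⊤)
    (f : κ → Sec (F ⊗ cst k T C) ⊤) (d : κ → ι → Γ(T.left, ⊤))
    (hd : ∀ j, appS (F ◁ (Scheme.Modules.pullback (pX X T)).map g₁) ⊤ (e j) = ∑ l, fT k X T (d l j) • f l)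
    (he : ∀ p : Sec (pl k X t (F ⊗ cst k T B)) ⊤,
      ∃ c : ι → k, p = ∑ j, fn (dt k X).x (c j) • gs (PicF.XTmap (st k X) t) (F ⊗ cst k T B) (e j))
    (hf : ∀ x : κ → k, ∑ l, fn (dt k X).x (x l) • gs (PicF.XTmap (st k X) t) (F ⊗ cst k T C) (f l) = 0 → x = 0)
    (v : Te k ⟶ T) (hv : iT k ≫ v = t)
    (hrig : ∀ s : ι → k, (∀ l, ∑ j, ev0 t (d l j) * s j = 0) →
      ∃ c : ι → k, ∀ l, ∑ j, (evE v (d l j)).snd * s j = ∑ j, ev0 t (d l j) * c j)
    {G : (PicF.XT (st k X) (T0 k)).Modules} {f₀ : pl k X t F ⟶ G} {g₀ : G ⟶ pl k X t F} {w₀ : f₀ ≫ g₀ = 0}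
    (h₀ : (ShortComplex.mk f₀ g₀ w₀).ShortExact)
    (hN : ((ShortComplex.mk f₀ g₀ w₀).map (K774.D1.tw (pl k X t (cst k T A)))).ShortExact)
    (hcl : (h₀.extClass : Abelian.Ext.{w} _ _ 1) = cls.{w} hv hF)
    (σ : Coh.HH _ ((K774.D1.tw (pl k X t (cst k T A))).obj (pl k X t F)) 0) :
    Groth.Agent.CohqB.HSeqMod.δ hN 0 σ = 0 :=
  rig_real hS hF hA hB e f d hd he hf v hv hrig h₀ (K822.Vers.real_of_cls.{w} hv hF h₀ hcl.symm) hN σ

end XT

end K822.Rig
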