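import Groth.Agent.BunMod.K822.Fam
import Groth.Agent.CohqB.QC6
import Groth.Agent.ASBun.K792.HomBC
import Groth.Agent.Krr.H487.KerRank

/-!
# The module on `Y = X ×_k k[ε]` attached to an extension

`π : G ⟶ E`, `e : G ⟶ G` an `ε`-module (`IsEM`) on `X`, `G` quasi-coherent: `ES D e = coker (ε - q^* e : q^* G ⟶ q^* G)`.
* `al : G ≅ q_* ES`, `al_eq : e ≫ al = al ≫ ε`;
* `rho : i^* ES ⟶ E`, an isomorphism, `al_red : al ≫ red rho = π`;
* `isQCoh`, `eFlat`, `isFinLocFreeOfRank`;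
* `ext_eq`: the class of `ES` is the class of `(G, e, π)`.
-/

set_option autoImplicit false

universe w u

open CategoryTheory CategoryTheory.Limits AlgebraicGeometry TopologicalSpace Opposite

namespace K822.DT

open Groth.Agent.Sga67.Sec Groth.Agent.Krr.H487.LocBasisPull Groth.Agent.Sga67.LocBasis
open Groth.Agent.LoccohB.HHmap (smulHom smulHom_comp smulHom_app)
open K822.Eps K822.EMod

variable {k : Type u} [Field k] {X Y : Scheme.{u}} (D : DT k X Y)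

theorem decomp_aux {k : Type u} [Field k] {X Y : Scheme.{u}} [X.Over (Spec (CommRingCat.of k))]
    [Y.Over (Spec (CommRingCat.of (DualNumber k)))] (q : Y ⟶ X)
    (sq : IsPullback q (Y ↘ Spec (CommRingCat.of (DualNumber k))) (X ↘ Spec (CommRingCat.of k))
      (Spec.map (CommRingCat.ofHom (algebraMap k (DualNumber k)))))
    {G : X.Modules} (hG : Coh.IsQCoh G) {U : X.Opens} (hU : IsAffineOpen U) :
    Function.Bijective (fun ab : Γ(G, U) × Γ(G, U) =>
      K792.SecBC.ps q G U ab.1 + K792.SecBC.sc (DualNumber k) Y (q ⁻¹ᵁ U) DualNumber.eps •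
        K792.SecBC.ps q G U ab.2) := by
  have h1 := K792.HomBC.eU_bijective (A := k) (B := DualNumber k) q sq (K682.DualDat.basis k) G hG hU
  let eqv : Γ(G, U) × Γ(G, U) ≃ (Fin 2 →₀ Γ(G, U)) :=
    (finTwoArrowEquiv Γ(G, U)).symm.trans Finsupp.equivFunOnFinite.symm
  have h2 := h1.comp eqv.bijective
  have h4 : (fun ab : Γ(G, U) × Γ(G, U) =>
      K792.SecBC.ps q G U ab.1 + K792.SecBC.sc (DualNumber k) Y (q ⁻¹ᵁ U) DualNumber.eps •
        K792.SecBC.ps q G U ab.2) = K792.HomBC.eU q (K682.DualDat.basis k) G U ∘ eqv := by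
    funext ab
    obtain ⟨a, b⟩ := ab
    have h3 : eqv (a, b) = Finsupp.single (0 : Fin 2) a + Finsupp.single (1 : Fin 2) b := by
      ext i
      fin_cases i
      · change a = _
        simp
      · change b = _
        simp
    rw [Function.comp_apply, h3, map_add, K792.HomBC.eU_single, K792.HomBC.eU_single, K682.DualDat.basis_zero,
      K682.DualDat.basis_one, map_one, one_smul]
  rw [h4]
  exact h2

/-- Sections of `q^* G` over the preimage of an affine open. -/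
theorem decomp_pull {G : X.Modules} (hG : Coh.IsQCoh G) {U : X.Opens} (hU : IsAffineOpen U) :
    Function.Bijective (fun ab : Sec G U × Sec G U =>
      (pbS D.q G ab.1 + appS (D.eM ((Scheme.Modules.pullback D.q).obj G)) (D.q ⁻¹ᵁ U) (pbS D.q G ab.2) :
        Sec ((Scheme.Modules.pullback D.q).obj G) (D.q ⁻¹ᵁ U))) := by
  have h := @decomp_aux k _ X Y ⟨D.x⟩ ⟨D.y⟩ D.q D.sq G hG U hU
  simp only [K792.SecBC.ps_eq] at h
  exact h

section

variable {G E : X.Modules} {e : G ⟶ G} {π : G ⟶ E}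

/-- `q^*`. -/
noncomputable abbrev Q (G : X.Modules) : Y.Modules := (Scheme.Modules.pullback D.q).obj G

/-- `ε - q^* e`. -/
noncomputable def de (e : G ⟶ G) : D.Q G ⟶ D.Q G := D.eM (D.Q G) - (Scheme.Modules.pullback D.q).map e

/-- The module attached to `(G, e)`. -/
noncomputable def ES (e : G ⟶ G) : Y.Modules := cokernel (D.de e)

/-- The projection. -/
noncomputable def ta (e : G ⟶ G) : D.Q G ⟶ D.ES e := cokernel.π (D.de e)

instance (e : G ⟶ G) : Epi (D.ta e) := inferInstanceAs (Epi (cokernel.π _))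

theorem de_ta (e : G ⟶ G) : D.de e ≫ D.ta e = 0 := cokernel.condition _

theorem exact_ta (e : G ⟶ G) : (ShortComplex.mk (D.de e) (D.ta e) (D.de_ta e)).Exact :=
  ShortComplex.exact_cokernel _

theorem eM_ta (e : G ⟶ G) : D.eM (D.Q G) ≫ D.ta e = (Scheme.Modules.pullback D.q).map e ≫ D.ta e := by
  have h := D.de_ta e
  rw [de, Preadditive.sub_comp, sub_eq_zero] at h
  exact h

/-- `G ⟶ q_* ES`. -/
noncomputable def al (e : G ⟶ G) : G ⟶ (Scheme.Modules.pushforward D.q).obj (D.ES e) :=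
  (Scheme.Modules.pullbackPushforwardAdjunction D.q).homEquiv _ _ (D.ta e)

theorem appS_al (e : G ⟶ G) (U : X.Opens) (s : Sec G U) :
    @Eq (Sec (D.ES e) (D.q ⁻¹ᵁ U)) (appS (D.al e) U s) (appS (D.ta e) (D.q ⁻¹ᵁ U) (pbS D.q G s)) := by
  rw [al, Adjunction.homEquiv_unit]
  rfl

theorem appS_eM_ta (e : G ⟶ G) (U : X.Opens) (s : Sec G U) :
    appS (D.ta e) (D.q ⁻¹ᵁ U) (appS (D.eM (D.Q G)) (D.q ⁻¹ᵁ U) (pbS D.q G s)) =
      appS (D.ta e) (D.q ⁻¹ᵁ U) (pbS D.q G (appS e U s)) := by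
  rw [← appS_comp, D.eM_ta, appS_comp, appS_pbS]

theorem eM_ta' (e : G ⟶ G) : D.eM (D.Q G) ≫ D.ta e = D.ta e ≫ D.eM (D.ES e) := smulHom_comp _ _

theorem al_eq (e : G ⟶ G) : e ≫ D.al e = D.al e ≫ D.eq (D.ES e) := by
  apply hom_ext
  intro U s
  have h1 : appS (e ≫ D.al e) U s = appS (D.al e) U (appS e U s) := rfl
  have h2 : @Eq (Sec (D.ES e) (D.q ⁻¹ᵁ U)) (appS (D.al e ≫ D.eq (D.ES e)) U s)
    (appS (D.eM (D.ES e)) (D.q ⁻¹ᵁ U) (appS (D.al e) U s)) := rfl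
  rw [h1]
  refine (D.appS_al e U _).trans (Eq.trans ?_ h2.symm)
  rw [D.appS_al e U s, ← appS_comp (D.ta e), ← D.eM_ta', appS_comp, D.appS_eM_ta]

theorem epi_al (hG : Coh.IsQCoh G) (e : G ⟶ G) : Epi (D.al e) := by
  apply epi_of_locally_surjective
  intro U s z hz
  have hz' : D.i z ∈ D.q ⁻¹ᵁ U := by
    change (D.i ≫ D.q) z ∈ U
    rw [D.iq]
    exact hz
  obtain ⟨W, hW, hzW, t, ht⟩ := locally_surjective_of_epi (D.ta e) (U := D.q ⁻¹ᵁ U) s (D.i z) hz'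
  have hzW' : z ∈ D.i ⁻¹ᵁ W := hzW
  obtain ⟨_, ⟨V, hV, rfl⟩, hzV, hVW⟩ := X.isBasis_affineOpens.exists_subset_of_mem_open hzW' (D.i ⁻¹ᵁ W).isOpen
  have hVU : V ≤ U := by
    intro z' h
    have h1 : D.i z' ∈ D.q ⁻¹ᵁ U := hW (hVW h)
    change (D.i ≫ D.q) z' ∈ U at h1
    rwa [D.iq] at h1
  have hqV : D.q ⁻¹ᵁ V ≤ W := by
    rw [← D.preimage_q_i W]
    exact D.q.preimage_mono hVW
  obtain ⟨⟨a, b⟩, hab⟩ := (D.decomp_pull hG hV).2 (res _ hqV t)
  refine ⟨V, hVU, hzV, a + appS e V b, ?_⟩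
  refine (D.appS_al e V _).trans ?_
  have h2 : appS (D.ta e) (D.q ⁻¹ᵁ V) (pbS D.q G (a + appS e V b)) =
      appS (D.ta e) (D.q ⁻¹ᵁ V) (res _ hqV t) := by
    rw [← hab]
    simp only
    rw [map_add, map_add, map_add, D.appS_eM_ta]
  rw [h2, appS_res, ht, res_res]
  rfl

theorem mono_al (hG : Coh.IsQCoh G) (e : G ⟶ G) (he : e ≫ e = 0) : Mono (D.al e) := by
  apply Groth.Agent.Sga67.Sec.mono_of_locally_injective
  intro z U hz
  refine ⟨U, le_rfl, hz, ?_⟩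
  intro s hs
  apply eq_of_locally
  intro z' hz2
  have hz' : D.i z' ∈ D.q ⁻¹ᵁ U := by
    change (D.i ≫ D.q) z' ∈ U
    rw [D.iq]
    exact hz2
  have hs' : appS (D.ta e) (D.q ⁻¹ᵁ U) (pbS D.q G s) = 0 := (D.appS_al e U s).symm.trans hs
  obtain ⟨W, hW, hzW, t, ht⟩ := exists_locally_of_exact (D.exact_ta e) (U := D.q ⁻¹ᵁ U) (pbS D.q G s) hs' (D.i z') hz'
  have hzW' : z' ∈ D.i ⁻¹ᵁ W := hzW
  obtain ⟨_, ⟨V, hV, rfl⟩, hzV, hVW⟩ := X.isBasis_affineOpens.exists_subset_of_mem_open hzW' (D.i ⁻¹ᵁ W).isOpen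
  have hVU : V ≤ U := by
    intro z' h
    have h1 : D.i z' ∈ D.q ⁻¹ᵁ U := hW (hVW h)
    change (D.i ≫ D.q) z' ∈ U at h1
    rwa [D.iq] at h1
  have hqV : D.q ⁻¹ᵁ V ≤ W := by
    rw [← D.preimage_q_i W]
    exact D.q.preimage_mono hVW
  obtain ⟨⟨a, b⟩, hab⟩ := (D.decomp_pull hG hV).2 (res _ hqV t)
  simp only at hab
  refine ⟨V, hVU, hzV, ?_⟩
  have h3 : appS (D.de e) (D.q ⁻¹ᵁ V) (res _ hqV t) = pbS D.q G (res G hVU s) := by
    have ht' : appS (D.de e) W t = res _ hW (pbS D.q G s) := ht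
    rw [appS_res, ht', res_res, res_pbS]
  have h4 : appS (D.de e) (D.q ⁻¹ᵁ V) (res _ hqV t) =
      pbS D.q G (-(appS e V a)) + appS (D.eM (D.Q G)) (D.q ⁻¹ᵁ V) (pbS D.q G (a - appS e V b)) := by
    have h5 : appS (D.eM (D.Q G)) (D.q ⁻¹ᵁ V) (appS (D.eM (D.Q G)) (D.q ⁻¹ᵁ V) (pbS D.q G b)) = 0 := by
      rw [← appS_comp, D.eM_eM, appS_zero]
    have h6 : appS ((Scheme.Modules.pullback D.q).map e) (D.q ⁻¹ᵁ V)
        (appS (D.eM (D.Q G)) (D.q ⁻¹ᵁ V) (pbS D.q G b)) =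
        appS (D.eM (D.Q G)) (D.q ⁻¹ᵁ V) (pbS D.q G (appS e V b)) := by
      rw [← appS_comp, smulHom_comp, appS_comp, appS_pbS]
    rw [← hab, de, appS_sub, map_add, map_add, h5, h6, appS_pbS, map_neg, map_sub, map_sub]
    abel
  have h7 : (fun ab : Sec G V × Sec G V =>
      (pbS D.q G ab.1 + appS (D.eM ((Scheme.Modules.pullback D.q).obj G)) (D.q ⁻¹ᵁ V) (pbS D.q G ab.2) :
        Sec ((Scheme.Modules.pullback D.q).obj G) (D.q ⁻¹ᵁ V))) (res G hVU s, 0) =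
      (fun ab : Sec G V × Sec G V =>
      (pbS D.q G ab.1 + appS (D.eM ((Scheme.Modules.pullback D.q).obj G)) (D.q ⁻¹ᵁ V) (pbS D.q G ab.2) :
        Sec ((Scheme.Modules.pullback D.q).obj G) (D.q ⁻¹ᵁ V))) (-(appS e V a), a - appS e V b) := by
    simp only
    rw [map_zero, map_zero, add_zero, ← h3, h4]
  have h8 := (D.decomp_pull hG hV).1 h7
  have h9 : res G hVU s = -(appS e V a) := congrArg Prod.fst h8
  have h10 : (0 : Sec G V) = a - appS e V b := congrArg Prod.snd h8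
  have h11 : a = appS e V b := (sub_eq_zero.1 h10.symm)
  rw [h9, h11, ← appS_comp, he, appS_zero, neg_zero, map_zero]

theorem isIso_al (hG : Coh.IsQCoh G) (e : G ⟶ G) (he : e ≫ e = 0) : IsIso (D.al e) := by
  have := D.epi_al hG e
  have := D.mono_al hG e he
  exact isIso_of_mono_of_epi _

theorem isQCoh_ES (hG : Coh.IsQCoh G) (e : G ⟶ G) : Coh.IsQCoh (D.ES e) :=
  Groth.Agent.CohqB.QC6.isQCoh_cokernel _ (Groth.Agent.VarietyB.PullSec.isQCoh_pullback _ _ hG)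
    (Groth.Agent.VarietyB.PullSec.isQCoh_pullback _ _ hG)

/-- `q_* i_* E ≅ E`. -/
noncomputable def ka (E : X.Modules) :
    (Scheme.Modules.pushforward D.q).obj ((Scheme.Modules.pushforward D.i).obj E) ≅ E :=
  (Scheme.Modules.pushforwardComp D.i D.q).app E ≪≫ (Scheme.Modules.pushforwardCongr D.iq).app E ≪≫
    (Scheme.Modules.pushforwardId X).app E

theorem appS_ka_inv (E : X.Modules) (U : X.Opens) (s : Sec E U) :
    @Eq (Sec E (D.i ⁻¹ᵁ (D.q ⁻¹ᵁ U))) (appS (D.ka E).inv U s) (res E (preimage_eq D.q D.i D.iq U).le s) := rfl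

theorem eM_push (E : X.Modules) : D.eM ((Scheme.Modules.pushforward D.i).obj E) = 0 := by
  apply hom_ext
  intro V s
  have h1 : @Eq (Sec E (D.i ⁻¹ᵁ V)) (appS (D.eM ((Scheme.Modules.pushforward D.i).obj E)) V s)
    ((D.i.app V (resO Y (le_top : V ≤ ⊤) D.ep) : Γ(X, D.i ⁻¹ᵁ V)) • (show Sec E (D.i ⁻¹ᵁ V) from s)) := rfl
  have h2 : (D.i.app V (resO Y (le_top : V ≤ ⊤) D.ep) : Γ(X, D.i ⁻¹ᵁ V)) = 0 := by
    have h3 := ConcreteCategory.congr_hom (D.i.naturality (homOfLE (le_top : V ≤ ⊤)).op) D.ep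
    have h4 : (D.i.app V (resO Y (le_top : V ≤ ⊤) D.ep) : Γ(X, D.i ⁻¹ᵁ V)) =
      X.presheaf.map ((Opens.map D.i.base).map (homOfLE (le_top : V ≤ ⊤))).op (D.i.appTop D.ep) := h3
    rw [h4, D.appTop_i_ep]
    exact map_zero _
  rw [h2, zero_smul] at h1
  exact h1

/-- `q^* G ⟶ i_* E`. -/
noncomputable def be (π : G ⟶ E) : D.Q G ⟶ (Scheme.Modules.pushforward D.i).obj E :=
  ((Scheme.Modules.pullbackPushforwardAdjunction D.q).homEquiv _ _).symm (π ≫ (D.ka E).inv)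

theorem appS_be (π : G ⟶ E) (U : X.Opens) (s : Sec G U) :
    @Eq (Sec E (D.i ⁻¹ᵁ (D.q ⁻¹ᵁ U))) (appS (D.be π) (D.q ⁻¹ᵁ U) (pbS D.q G s))
      (res E (preimage_eq D.q D.i D.iq U).le (appS π U s)) :=
  adj_pbS D.q (π ≫ (D.ka E).inv) s

theorem de_be (π : G ⟶ E) (h : e ≫ π = 0) : D.de e ≫ D.be π = 0 := by
  have h1 : D.eM (D.Q G) ≫ D.be π = 0 := 
    (smulHom_comp _ _).trans ((congrArg (D.be π ≫ ·) (D.eM_push E)).trans comp_zero)
  have h2 : (Scheme.Modules.pullback D.q).map e ≫ D.be π = 0 := by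
    apply pull_ext
    intro U s
    rw [appS_comp, appS_pbS]
    refine (D.appS_be π U (appS e U s)).trans ?_
    rw [← appS_comp, h, appS_zero, map_zero]
    rfl
  rw [de, Preadditive.sub_comp, h1, h2, sub_zero]

/-- `ES ⟶ i_* E`. -/
noncomputable def rho0 (π : G ⟶ E) (h : e ≫ π = 0) : D.ES e ⟶ (Scheme.Modules.pushforward D.i).obj E :=
  cokernel.desc (D.de e) (D.be π) (D.de_be π h)

theorem ta_rho0 (π : G ⟶ E) (h : e ≫ π = 0) : D.ta e ≫ D.rho0 π h = D.be π := cokernel.π_desc _ _ _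

/-- `i^* ES ⟶ E`. -/
noncomputable def rho (π : G ⟶ E) (h : e ≫ π = 0) : (Scheme.Modules.pullback D.i).obj (D.ES e) ⟶ E :=
  adj D.i (D.rho0 π h)

theorem al_red (π : G ⟶ E) (h : e ≫ π = 0) : D.al e ≫ red D.q D.i D.iq (D.rho π h) = π := by
  apply hom_ext
  intro U s
  rw [appS_comp, appS_red]
  have h1 := D.appS_al e U s
  have h2 : @Eq (Sec E (D.i ⁻¹ᵁ (D.q ⁻¹ᵁ U)))
      (appS (D.rho π h) (D.i ⁻¹ᵁ (D.q ⁻¹ᵁ U)) (pbS D.i (D.ES e) (U := D.q ⁻¹ᵁ U) (appS (D.al e) U s)))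
      (appS (D.rho0 π h) (D.q ⁻¹ᵁ U) (appS (D.al e) U s)) := adj_pbS D.i (D.rho0 π h) _
  rw [h2, h1, ← appS_comp, D.ta_rho0, D.appS_be, res_res, res_self]

theorem isIso_rho (hG : Coh.IsQCoh G) (H : IsEM e π) : IsIso (D.rho π H.w) := by
  have := D.isIso_al hG e H.ee
  have hπ := H.epi
  have h1 := D.exact_red (D.isQCoh_ES hG e) (𝟙 ((Scheme.Modules.pullback D.i).obj (D.ES e)))
  have h2 := D.epi_red' (D.isQCoh_ES hG e) (𝟙 ((Scheme.Modules.pullback D.i).obj (D.ES e)))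
  have h3 : (ShortComplex.mk (D.eq (D.ES e)) (red D.q D.i D.iq (D.rho π H.w)) (D.eq_red _)).Exact :=
    exact_congr H.exact_π (asIso (D.al e)) (asIso (D.al e)) (Iso.refl E) (D.al_eq e)
      ((Category.comp_id _).trans (D.al_red π H.w).symm)
  have h4 : Epi (red D.q D.i D.iq (D.rho π H.w)) := by
    have : Epi (D.al e ≫ red D.q D.i D.iq (D.rho π H.w)) := by rw [D.al_red]; exact hπ
    exact epi_of_epi (D.al e) _
  refine isIso_of_exact h1 h3 (D.rho π H.w) ?_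
  have h5 := red_natural D.q D.i D.iq (ρ := 𝟙 ((Scheme.Modules.pullback D.i).obj (D.ES e))) (ρ' := D.rho π H.w)
    (𝟙 (D.ES e)) (D.rho π H.w) (by rw [Category.id_comp, (Scheme.Modules.pullback D.i).map_id, Category.id_comp])
  rw [h5, (Scheme.Modules.pushforward D.q).map_id, Category.id_comp]

theorem eFlat_ES (hG : Coh.IsQCoh G) (H : IsEM e π) : D.EFlat (D.ES e) := by
  have := D.isIso_al hG e H.ee
  apply D.exact_of_push (w' := D.eq_eq _)
  exact exact_congr H.exact_e (asIso (D.al e)) (asIso (D.al e)) (asIso (D.al e)) (D.al_eq e) (D.al_eq e)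

theorem isEM_ES (hG : Coh.IsQCoh G) (H : IsEM e π) :
    IsEM (D.eq (D.ES e)) (red D.q D.i D.iq (D.rho π H.w)) :=
  have := D.isIso_rho hG H
  D.isEM (D.isQCoh_ES hG e) (D.eFlat_ES hG H) (D.rho π H.w)

/-- The class of `ES`. -/
theorem ext_ES [HasExt.{w} X.Modules] (hG : Coh.IsQCoh G) (H : IsEM e π) :
    ((D.isEM_ES hG H).ext : Abelian.Ext.{w} E E 1) = H.ext :=
  (H.ext_eq (D.isEM_ES hG H) (D.al_eq e) (D.al_red π H.w).symm).symm

/-- A local basis of `E` lifts to a local basis of `ES`. -/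
theorem isLocBasis_ES (hG : Coh.IsQCoh G) (H : IsEM e π) {U : X.Opens} {n : ℕ} {b : Fin n → Sec E U}
    (hb : IsLocBasis b) (g : Fin n → Sec G U) (hg : ∀ i, appS π U (g i) = b i) :
    IsLocBasis (M := D.ES e) (U := D.q ⁻¹ᵁ U) (fun i => appS (D.ta e) (D.q ⁻¹ᵁ U) (pbS D.q G (g i))) := by
  have hal := D.isIso_al hG e H.ee
  have hm := H.mono_j
  intro W hW
  obtain ⟨W', rfl⟩ : ∃ W', W = D.q ⁻¹ᵁ W' := ⟨D.i ⁻¹ᵁ W, (D.preimage_q_i W).symm⟩
  have hWU : W' ≤ U := fun z hz => D.of_mem_preimage_i (hW (D.mem_preimage_i hz))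
  -- the value of `comb`
  have hbij : Function.Bijective (fun c : (Fin n → Γ(X, W')) × (Fin n → Γ(X, W')) =>
      ((fun i => D.q.app W' (c.1 i) + D.q.app W' (c.2 i) * resO Y (le_top : D.q ⁻¹ᵁ W' ≤ ⊤) D.ep :
        Fin n → Γ(Y, D.q ⁻¹ᵁ W')))) := by
    have h0 := D.dat.bij W'
    constructor
    · rintro ⟨c, d⟩ ⟨c', d'⟩ h
      have h1 : ∀ i, (c i, d i) = (c' i, d' i) := fun i => h0.1 (congrFun h i)
      exact Prod.ext (funext fun i => congrArg Prod.fst (h1 i)) (funext fun i => congrArg Prod.snd (h1 i))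
    · intro f
      choose g hg using fun i => h0.2 (f i)
      exact ⟨(fun i => (g i).1, fun i => (g i).2), funext fun i => hg i⟩
  have hal2 : Function.Bijective (appS (D.al e) W') :=
    ⟨injective_of_mono (D.al e) W', fun t => ⟨appS (inv (D.al e)) W' t, by
      rw [← appS_comp, IsIso.inv_hom_id, appS_id]⟩⟩
  let F : (Fin n → Γ(X, W')) × (Fin n → Γ(X, W')) → Sec G W' := fun c =>
    comb g hWU c.1 + appS H.j W' (comb b hWU c.2)
  have hF : Function.Bijective F := by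
    have hπg : ∀ c : Fin n → Γ(X, W'), appS π W' (comb g hWU c) = comb b hWU c := by
      intro c
      rw [comb_apply, comb_apply, map_sum]
      refine Finset.sum_congr rfl fun i _ => ?_
      rw [map_smul, appS_res, hg]
    have hπj : ∀ t : Sec E W', appS π W' (appS H.j W' t) = 0 := by
      intro t
      rw [← appS_comp, H.j_π, appS_zero]
    constructor
    · rintro ⟨c, d⟩ ⟨c', d'⟩ h
      have h' : comb g hWU c + appS H.j W' (comb b hWU d) = comb g hWU c' + appS H.j W' (comb b hWU d') := h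
      have h1 := congrArg (appS π W') h'
      rw [map_add, map_add, hπg, hπg, hπj, hπj, add_zero, add_zero] at h1
      have h2 := (hb W' hWU).1 h1
      rw [h2] at h'
      have h3 := injective_of_mono H.j W' (add_left_cancel h')
      rw [h2, (hb W' hWU).1 h3]
    · intro t
      obtain ⟨c, hc⟩ := (hb W' hWU).2 (appS π W' t)
      have h1 : appS π W' (t - comb g hWU c) = 0 := by rw [map_sub, hπg, hc, sub_self]
      obtain ⟨u, hu⟩ := exists_of_appS_eq_zero H.shortExact.exact (t - comb g hWU c) h1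
      obtain ⟨d, hd⟩ := (hb W' hWU).2 u
      refine ⟨(c, d), ?_⟩
      change comb g hWU c + appS H.j W' (comb b hWU d) = t
      have hu' : appS H.j W' u = t - comb g hWU c := hu
      rw [hd, hu', add_sub_cancel]
  have key : comb (M := D.ES e) (U := D.q ⁻¹ᵁ U) (fun i => appS (D.ta e) (D.q ⁻¹ᵁ U) (pbS D.q G (g i))) hW ∘
      (fun c : (Fin n → Γ(X, W')) × (Fin n → Γ(X, W')) =>
      ((fun i => D.q.app W' (c.1 i) + D.q.app W' (c.2 i) * resO Y (le_top : D.q ⁻¹ᵁ W' ≤ ⊤) D.ep :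
        Fin n → Γ(Y, D.q ⁻¹ᵁ W')))) = (appS (D.al e) W' : Sec G W' → Sec (D.ES e) (D.q ⁻¹ᵁ W')) ∘ F := by
    funext c
    obtain ⟨c, d⟩ := c
    rw [Function.comp_apply, Function.comp_apply]
    have h1 : @Eq (Sec (D.ES e) (D.q ⁻¹ᵁ W')) (appS (D.al e) W' (F (c, d)))
      (appS (D.ta e) (D.q ⁻¹ᵁ W') (pbS D.q G (F (c, d)))) := D.appS_al e W' _
    refine Eq.trans ?_ h1.symm
    have h2 : F (c, d) = comb g hWU c + appS e W' (comb g hWU d) := by
      change comb g hWU c + appS H.j W' (comb b hWU d) = _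
      have h3 : comb b hWU d = appS π W' (comb g hWU d) := by
        rw [comb_apply, comb_apply, map_sum]
        refine Finset.sum_congr rfl fun i _ => ?_
        rw [map_smul, appS_res, hg]
      rw [h3, ← appS_comp, H.π_j]
    have h5 : ∀ c : Fin n → Γ(X, W'), appS (D.ta e) (D.q ⁻¹ᵁ W') (pbS D.q G (comb g hWU c)) =
        ∑ i, (D.q.app W' (c i) : Γ(Y, D.q ⁻¹ᵁ W')) •
          res (D.ES e) hW (appS (D.ta e) (D.q ⁻¹ᵁ U) (pbS D.q G (g i))) := by
      intro c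
      rw [comb_apply, map_sum, map_sum]
      refine Finset.sum_congr rfl fun i _ => ?_
      rw [pbS_smul, map_smul, ← res_pbS D.q G hWU hW, appS_res]
    rw [h2, map_add, map_add, ← D.appS_eM_ta, h5, ← appS_comp (D.eM (D.Q G)), D.eM_ta', appS_comp, h5, comb_apply,
      appS_smulHom, Finset.smul_sum, ← Finset.sum_add_distrib]
    refine Finset.sum_congr rfl fun i _ => ?_
    rw [add_smul, mul_comm, mul_smul]
  have h6 := (hal2.comp hF)
  rw [← key] at h6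
  exact (Function.Bijective.of_comp_iff _ hbij).1 h6

/-- `ES` is finite locally free of rank `n` if `E` is. -/
theorem isFinLocFreeOfRank_ES (hG : Coh.IsQCoh G) (H : IsEM e π) {n : ℕ} (hE : FlatMod.IsFinLocFreeOfRank n E) :
    FlatMod.IsFinLocFreeOfRank n (D.ES e) := by
  rw [Groth.Agent.Krr.H487.KerRank.isFinLocFreeOfRank_iff] at hE ⊢
  intro y
  obtain ⟨U, hU, b, hb⟩ := hE (D.q y)
  have hπ := H.epi
  choose V hV hyV t ht using fun i => locally_surjective_of_epi π (b i) (D.q y) hU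
  obtain ⟨W, hWU, hyW, hWV⟩ : ∃ W : X.Opens, W ≤ U ∧ D.q y ∈ W ∧ ∀ i, W ≤ V i := by
    let W₀ : X.Opens := ⟨⋂ i, ((V i : X.Opens) : Set X), isOpen_iInter_of_finite fun i => (V i).isOpen⟩
    have hW₀ : ∀ i, W₀ ≤ V i := fun i z hz => Set.mem_iInter.1 hz i
    exact ⟨U ⊓ W₀, inf_le_left, ⟨hU, Set.mem_iInter.2 hyV⟩, fun i => inf_le_right.trans (hW₀ i)⟩
  refine ⟨D.q ⁻¹ᵁ W, hyW, _, D.isLocBasis_ES hG H (hb.restrict hWU) (fun i => res G (hWV i) (t i)) ?_⟩
  intro i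
  rw [appS_res, ht, res_res]

end

end K822.DT
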