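import Groth.Agent.BunMod.K822.Tr
import Groth.Agent.BunMod.K822.FromExt
import Groth.Agent.BunMod.K140.Defs
import Groth.Agent.Fga.RigGrp

/-!
# First order points of a test scheme

`T0 k = Spec k`, `Te k = Spec k[ε]` over `Spec k`, `iT : T0 ⟶ Te`, `qT : Te ⟶ T0`; `dt k X : DT k X_(T0) X_(Te)`.
For `v : Te k ⟶ T` over `z : T0 k ⟶ T` (`iT ≫ v = z`) and `F` on `X_T`: `rv hv F : i^* v^* F ≅ z^* F`, natural in `F`.
-/

set_option autoImplicit false

universe w u

open CategoryTheory CategoryTheory.Limits AlgebraicGeometry TopologicalSpace Opposite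

namespace K822.XTD

open Groth.Agent.Sga67.Sec Groth.Agent.Krr.H487.LocBasisPull Groth.Agent.Fga.RigGrp
open K140.BM K822.Eps K822.EMod K822.Nine

/-- `Spec k`. -/
noncomputable abbrev T0 (k : Type u) [Field k] : Over (B0 k) := Over.mk (𝟙 (B0 k))

/-- `Spec k[ε]`. -/
noncomputable abbrev Te (k : Type u) [Field k] : Over (B0 k) :=
  Over.mk (Spec.map (CommRingCat.ofHom (algebraMap k (DualNumber k))))

/-- `Spec k[ε] ⟶ Spec k`. -/
noncomputable def qT (k : Type u) [Field k] : Te k ⟶ T0 k :=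
  Over.homMk (Spec.map (CommRingCat.ofHom (algebraMap k (DualNumber k)))) (Category.comp_id _)

/-- The closed point of `Spec k[ε]`. -/
noncomputable def iT (k : Type u) [Field k] : T0 k ⟶ Te k :=
  Over.homMk (Spec.map (CommRingCat.ofHom (TrivSqZeroExt.fstHom k k k).toRingHom)) (by
    change Spec.map _ ≫ Spec.map _ = 𝟙 _
    rw [← Spec.map_comp, ← CommRingCat.ofHom_comp]
    have h : (TrivSqZeroExt.fstHom k k k).toRingHom.comp (algebraMap k (DualNumber k)) = RingHom.id k := rfl
    rw [h]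
    exact Spec.map_id _)

theorem iT_qT (k : Type u) [Field k] : iT k ≫ qT k = 𝟙 (T0 k) := by
  apply Over.OverMorphism.ext
  exact (Over.w (iT k))

variable {k : Type u} [Field k] {X : Scheme.{u}} [X.Over (Spec (CommRingCat.of k))]

/-- The cartesian square of `X_{T'} ⟶ X_T`. -/
theorem isPullback_XTmap {T T' : Over (B0 k)} (g : T' ⟶ T) :
    IsPullback (PicF.XTmap (st k X) g) (PicF.XTproj (st k X) T') (PicF.XTproj (st k X) T) g.left := by
  refine IsPullback.of_right ?_ (XTmap_XTproj (st k X) g) (IsPullback.of_hasPullback (st k X) T.hom)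
  rw [XTmap_fst, Over.w]
  exact IsPullback.of_hasPullback (st k X) T'.hom

variable (k X) in
/-- `X_(Spec k[ε])` is the thickening of `X_(Spec k)` by `k[ε]`. -/
noncomputable def dt : DT k (PicF.XT (st k X) (T0 k)) (PicF.XT (st k X) (Te k)) where
  x := PicF.XTproj (st k X) (T0 k)
  y := PicF.XTproj (st k X) (Te k)
  q := PicF.XTmap (st k X) (qT k)
  i := PicF.XTmap (st k X) (iT k)
  sq := isPullback_XTmap (qT k)
  iq := by rw [← XTmap_comp, iT_qT, XTmap_id]
  iy := XTmap_XTproj (st k X) (iT k)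

section Point

variable {T : Over (B0 k)} {z : T0 k ⟶ T} {v : Te k ⟶ T} (hv : iT k ≫ v = z)

include hv in
theorem di_v : (dt k X).i ≫ PicF.XTmap (st k X) v = PicF.XTmap (st k X) z := by
  change PicF.XTmap (st k X) (iT k) ≫ PicF.XTmap (st k X) v = PicF.XTmap (st k X) z
  rw [← XTmap_comp, hv]

/-- `i^* v^* F ≅ z^* F`. -/
noncomputable def rv (F : (PicF.XT (st k X) T).Modules) :
    (Scheme.Modules.pullback (dt k X).i).obj (pl k X v F) ≅ pl k X z F :=
  Tr.tr (dt k X).i (PicF.XTmap (st k X) v) (di_v hv) F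

theorem rv_natural {F F' : (PicF.XT (st k X) T).Modules} (φ : F ⟶ F') :
    (rv hv F).hom ≫ (Scheme.Modules.pullback (PicF.XTmap (st k X) z)).map φ =
      (Scheme.Modules.pullback (dt k X).i).map ((Scheme.Modules.pullback (PicF.XTmap (st k X) v)).map φ) ≫
        (rv hv F').hom :=
  Tr.tr_natural (dt k X).i (PicF.XTmap (st k X) v) (di_v hv) φ

end Point

end K822.XTD
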