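import Groth.Agent.BunMod.K822.OntoCst
import Groth.Agent.BunMod.K822.XTD

/-!
# The point theorem for families on `X_T`

`ev0 z`, `evE v`: values of functions on `T` at `z : T0 k ⟶ T`, `v : Te k ⟶ T`.
`onto`: `0 → A → B → C → 0` exact on `X`, `A`, `B` finite locally free, `E` finite locally free on `X_T`, `e`, `f` sections of
`E ⊗ B_T`, `E ⊗ C_T` whose pull-backs to `z` are a basis / linearly independent, `d` the matrix of
`E ⊗ B_T ⟶ E ⊗ C_T`.  If extensions with given `δ_{⊗A}(σ) = β` are admissible and admissible deformations of `z^* E` come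
from `k[ε]`-points `v` over `z`, then for `s ≠ 0` with `d(z) s = 0` and every `t` there are `v`, `c` with
`snd (d(v)) s = t + d(z) c`.
-/

set_option autoImplicit false

universe w u

open CategoryTheory CategoryTheory.Limits AlgebraicGeometry TopologicalSpace Opposite MonoidalCategory

namespace K822.OntoX

open scoped Groth.Agent.Dcoh.MonCat
open Groth.Agent.Sga67.Sec Groth.Agent.Krr.H487.LocBasisPull Groth.Agent.Fga.RigGrp
open K140.BM K822.Eps K822.EMod K822.Nine K822.Tr K822.XTD K822.Onto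

section ev

variable {k : Type u} [Field k] {T : Over (B0 k)}

/-- The value of a function at a `k`-point. -/
noncomputable def ev0 (z : T0 k ⟶ T) : Γ(T.left, ⊤) →+* k :=
  ((Scheme.ΓSpecIso (CommRingCat.of k)).hom.hom).comp z.left.appTop.hom

/-- The value of a function at a `k[ε]`-point. -/
noncomputable def evE (v : Te k ⟶ T) : Γ(T.left, ⊤) →+* DualNumber k :=
  ((Scheme.ΓSpecIso (CommRingCat.of (DualNumber k))).hom.hom).comp v.left.appTop.hom

theorem evE_fst (v : Te k ⟶ T) (r : Γ(T.left, ⊤)) : (evE v r).fst = ev0 (iT k ≫ v) r := by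
  have h1 := Scheme.ΓSpecIso_naturality (CommRingCat.ofHom (TrivSqZeroExt.fstHom k k k).toRingHom)
  have h2 := congr($h1 (v.left.appTop r))
  have h3 : ((Scheme.ΓSpecIso (CommRingCat.of k)).hom ((Spec.map (CommRingCat.ofHom
      (TrivSqZeroExt.fstHom k k k).toRingHom)).appTop (v.left.appTop r))) = ev0 (iT k ≫ v) r := by
    change _ = (Scheme.ΓSpecIso (CommRingCat.of k)).hom ((iT k ≫ v).left.appTop r)
    rw [Over.comp_left, Scheme.Hom.comp_appTop]
    rfl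
  exact (h2.symm.trans h3)

variable {X : Scheme.{u}} [X.Over (Spec (CommRingCat.of k))]

theorem appTop_XTmap {T' : Over (B0 k)} (g : T' ⟶ T) (r : Γ(T.left, ⊤)) :
    ((PicF.XTmap (st k X) g).appTop (fT k X T r) : Γ(PicF.XT (st k X) T', ⊤)) = fT k X T' (g.left.appTop r) := by
  have h1 : (PicF.XTproj (st k X) T).appTop ≫ (PicF.XTmap (st k X) g).appTop =
      g.left.appTop ≫ (PicF.XTproj (st k X) T').appTop := by
    rw [← Scheme.Hom.comp_appTop, ← Scheme.Hom.comp_appTop, XTmap_XTproj]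
  exact congr($h1 r)

theorem appTop_ev0 (z : T0 k ⟶ T) (r : Γ(T.left, ⊤)) :
    ((PicF.XTmap (st k X) z).appTop (fT k X T r) : Γ(PicF.XT (st k X) (T0 k), ⊤)) = fn (dt k X).x (ev0 z r) := by
  rw [appTop_XTmap]
  change (PicF.XTproj (st k X) (T0 k)).appTop (z.left.appTop r) = (PicF.XTproj (st k X) (T0 k)).appTop
    ((Scheme.ΓSpecIso (CommRingCat.of k)).inv ((Scheme.ΓSpecIso (CommRingCat.of k)).hom (z.left.appTop r)))
  congr 1
  exact (congr($((Scheme.ΓSpecIso (CommRingCat.of k)).hom_inv_id) (z.left.appTop r))).symm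

theorem appTop_evE (v : Te k ⟶ T) (r : Γ(T.left, ⊤)) :
    ((PicF.XTmap (st k X) v).appTop (fT k X T r) : Γ(PicF.XT (st k X) (Te k), ⊤)) = fn (dt k X).y (evE v r) := by
  rw [appTop_XTmap]
  change (PicF.XTproj (st k X) (Te k)).appTop (v.left.appTop r) = (PicF.XTproj (st k X) (Te k)).appTop
    ((Scheme.ΓSpecIso (CommRingCat.of (DualNumber k))).inv
      ((Scheme.ΓSpecIso (CommRingCat.of (DualNumber k))).hom (v.left.appTop r)))
  congr 1
  exact (congr($((Scheme.ΓSpecIso (CommRingCat.of (DualNumber k))).hom_inv_id) (v.left.appTop r))).symm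

end ev

section main

variable {k : Type u} [Field k] {X : Scheme.{u}} [X.Over (Spec (CommRingCat.of k))] {T : Over (B0 k)}

/-- The projection `X_T ⟶ X`. -/
noncomputable abbrev pX (X : Scheme.{u}) [X.Over (Spec (CommRingCat.of k))] (T : Over (B0 k)) :
    PicF.XT (st k X) T ⟶ X := pullback.fst (st k X) T.hom

theorem isIso_pX (z : T0 k ⟶ T) : IsIso (PicF.XTmap (st k X) z ≫ pX X T) := by
  have h1 : PicF.XTmap (st k X) z ≫ pX X T = pX X (T0 k) := XTmap_fst (st k X) z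
  rw [h1]
  exact inferInstanceAs (IsIso (pullback.fst (st k X) (𝟙 (B0 k))))

theorem pX_v {z : T0 k ⟶ T} {v : Te k ⟶ T} :
    PicF.XTmap (st k X) v ≫ pX X T = (dt k X).q ≫ PicF.XTmap (st k X) z ≫ pX X T := by
  have h1 : PicF.XTmap (st k X) v ≫ pX X T = pX X (Te k) := XTmap_fst (st k X) v
  have h2 : PicF.XTmap (st k X) z ≫ pX X T = pX X (T0 k) := XTmap_fst (st k X) z
  have h3 : PicF.XTmap (st k X) (qT k) ≫ pX X (T0 k) = pX X (Te k) := XTmap_fst (st k X) (qT k)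
  rw [h1, h2]
  exact h3.symm

theorem onto_aux {E : (PicF.XT (st k X) T).Modules} {A B C : X.Modules} {f₁ : A ⟶ B} {g₁ : B ⟶ C} {w₁ : f₁ ≫ g₁ = 0}
    (hS : (ShortComplex.mk f₁ g₁ w₁).ShortExact)
    (hE : FlatMod.IsFinLocFree E) (hA : FlatMod.IsFinLocFree A) (hB : FlatMod.IsFinLocFree B) (z : T0 k ⟶ T)
    {ι κ : Type*} [Fintype ι] [Fintype κ] (e : ι → Sec (E ⊗ (Scheme.Modules.pullback (pX X T)).obj B) ⊤)
    (f : κ → Sec (E ⊗ (Scheme.Modules.pullback (pX X T)).obj C) ⊤) (d : κ → ι → Γ(T.left, ⊤))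
    (hd : ∀ j, appS (E ◁ (Scheme.Modules.pullback (pX X T)).map g₁) ⊤ (e j) = ∑ l, fT k X T (d l j) • f l)
    (he : ∀ p : Sec ((Scheme.Modules.pullback (PicF.XTmap (st k X) z)).obj
        (E ⊗ (Scheme.Modules.pullback (pX X T)).obj B)) ⊤,
      ∃ c : ι → k, p = ∑ j, fn (dt k X).x (c j) • gs (PicF.XTmap (st k X) z)
        (E ⊗ (Scheme.Modules.pullback (pX X T)).obj B) (e j))
    (he' : ∀ c : ι → k, ∑ j, fn (dt k X).x (c j) • gs (PicF.XTmap (st k X) z)
      (E ⊗ (Scheme.Modules.pullback (pX X T)).obj B) (e j) = 0 → c = 0)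
    (hf : ∀ x : κ → k, ∑ l, fn (dt k X).x (x l) • gs (PicF.XTmap (st k X) z)
      (E ⊗ (Scheme.Modules.pullback (pX X T)).obj C) (f l) = 0 → x = 0)
    (hadm : ∀ σ : Coh.HH _ ((DCoh.tensorRightMod ((Scheme.Modules.pullback (PicF.XTmap (st k X) z)).obj
          ((Scheme.Modules.pullback (pX X T)).obj A))).obj
            ((Scheme.Modules.pullback (PicF.XTmap (st k X) z)).obj E)) 0, σ ≠ 0 →
      ∀ β : Coh.HH _ ((DCoh.tensorRightMod ((Scheme.Modules.pullback (PicF.XTmap (st k X) z)).obj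
          ((Scheme.Modules.pullback (pX X T)).obj A))).obj
            ((Scheme.Modules.pullback (PicF.XTmap (st k X) z)).obj E)) 1,
      ∃ (G : (PicF.XT (st k X) (T0 k)).Modules) (f₀ : (Scheme.Modules.pullback (PicF.XTmap (st k X) z)).obj E ⟶ G)
        (g₀ : G ⟶ (Scheme.Modules.pullback (PicF.XTmap (st k X) z)).obj E)
        (w₀ : f₀ ≫ g₀ = 0) (_ : (ShortComplex.mk f₀ g₀ w₀).ShortExact)
        (hSN : ((ShortComplex.mk f₀ g₀ w₀).map (DCoh.tensorRightMod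
          ((Scheme.Modules.pullback (PicF.XTmap (st k X) z)).obj
            ((Scheme.Modules.pullback (pX X T)).obj A)))).ShortExact),
        Groth.Agent.CohqB.HSeqMod.δ hSN 0 σ = β ∧
          ∃ (v : Te k ⟶ T) (hv : iT k ≫ v = z),
            Real (dt k X) (PicF.XTmap (st k X) v) (di_v hv) E (g₀ ≫ f₀) g₀)
    (s : ι → k) (hs : s ≠ 0) (hsm : ∀ l, ∑ j, ev0 z (d l j) * s j = 0) (t : κ → k) :
    ∃ (v : Te k ⟶ T) (_ : iT k ≫ v = z) (c : ι → k),
      ∀ l, ∑ j, (evE v (d l j)).snd * s j = t l + ∑ j, ev0 z (d l j) * c j := by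
  have i1 := isIso_pX (X := X) z
  obtain ⟨v, ⟨v', hv', hvv⟩, h, hc⟩ := onto_cst (dt k X) (z := PicF.XTmap (st k X) z) (pX X T)
    (fun v => ∃ v' : Te k ⟶ T, iT k ≫ v' = z ∧ v = PicF.XTmap (st k X) v')
    (by rintro v ⟨v', -, rfl⟩; exact pX_v) hS hE hA hB e f (fun l j => fT k X T (d l j)) hd he he' hf (by
      intro σ hσ β
      obtain ⟨G, f₀, g₀, w₀, h1, h2, h3, v, hv, hR⟩ := hadm σ hσ β
      exact ⟨G, f₀, g₀, w₀, h1, h2, h3, _, ⟨v, hv, rfl⟩, di_v hv, hR⟩) (fun l j => ev0 z (d l j))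
    (fun l j => appTop_ev0 z (d l j)) s hs hsm t
  subst hvv
  obtain ⟨c', hc'⟩ := hc (fun l j => evE v' (d l j)) (fun l j => by rw [evE_fst, hv']) (fun l j => appTop_evE v' (d l j))
  exact ⟨v', hv', c', hc'⟩

theorem real_of_lift {E : (PicF.XT (st k X) T).Modules} {z : T0 k ⟶ T} (hE : Coh.IsQCoh (pl k X z E))
    {G : (PicF.XT (st k X) (T0 k)).Modules} {f₀ : pl k X z E ⟶ G} {g₀ : G ⟶ pl k X z E} {w₀ : f₀ ≫ g₀ = 0}
    (hS : (ShortComplex.mk f₀ g₀ w₀).ShortExact)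
    (hlift : ∀ ρ : (Scheme.Modules.pullback (dt k X).i).obj ((dt k X).ES (g₀ ≫ f₀)) ≅ pl k X z E,
      ∃ (v : Te k ⟶ T) (hv : iT k ≫ v = z) (φ : pl k X v E ≅ (dt k X).ES (g₀ ≫ f₀)),
        (Scheme.Modules.pullback (dt k X).i).map φ.hom ≫ ρ.hom = (rv hv E).hom) :
    ∃ (v : Te k ⟶ T) (hv : iT k ≫ v = z),
      Real (dt k X) (PicF.XTmap (st k X) v) (di_v hv) E (g₀ ≫ f₀) g₀ := by
  have hG : Coh.IsQCoh G := Groth.Agent.CohqB.QC6.isQCoh_of_shortExact₂ hS hE hE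
  have H := IsEM.of_shortExact hS
  have h1 := (dt k X).isIso_rho hG H
  obtain ⟨v, hv, φ, hφ⟩ := hlift (asIso ((dt k X).rho g₀ H.w))
  exact ⟨v, hv, real_of_iso (dt k X) (PicF.XTmap (st k X) v) (di_v hv) H.w φ hφ⟩

/-- The point theorem: if all extensions needed are admissible (`Qe`) and admissible deformations of `z^* E` are
pulled back from `T` (by points over `z`, compatibly with the reductions), then for `s ≠ 0` in the kernel of the matrix
`d` at `z` and every `t` there is a `k[ε]`-point `v` over `z` with `snd (d(v)) s ≡ t` modulo the image of `d(z)`. -/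
theorem onto {E : (PicF.XT (st k X) T).Modules} {A B C : X.Modules} {f₁ : A ⟶ B} {g₁ : B ⟶ C} {w₁ : f₁ ≫ g₁ = 0}
    (hS : (ShortComplex.mk f₁ g₁ w₁).ShortExact)
    (hE : FlatMod.IsFinLocFree E) (hA : FlatMod.IsFinLocFree A) (hB : FlatMod.IsFinLocFree B) (z : T0 k ⟶ T)
    {ι κ : Type*} [Fintype ι] [Fintype κ] (e : ι → Sec (E ⊗ cst k T B) ⊤)
    (f : κ → Sec (E ⊗ cst k T C) ⊤) (d : κ → ι → Γ(T.left, ⊤))
    (hd : ∀ j, appS (E ◁ (Scheme.Modules.pullback (pX X T)).map g₁) ⊤ (e j) = ∑ l, fT k X T (d l j) • f l)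
    (he : ∀ p : Sec (pl k X z (E ⊗ cst k T B)) ⊤,
      ∃ c : ι → k, p = ∑ j, fn (dt k X).x (c j) • gs (PicF.XTmap (st k X) z) (E ⊗ cst k T B) (e j))
    (he' : ∀ c : ι → k, ∑ j, fn (dt k X).x (c j) • gs (PicF.XTmap (st k X) z) (E ⊗ cst k T B) (e j) = 0 → c = 0)
    (hf : ∀ x : κ → k, ∑ l, fn (dt k X).x (x l) • gs (PicF.XTmap (st k X) z) (E ⊗ cst k T C) (f l) = 0 → x = 0)
    (Qe : (PicF.XT (st k X) (Te k)).Modules → Prop)
    (hadm : ∀ σ : Coh.HH _ ((DCoh.tensorRightMod (pl k X z (cst k T A))).obj (pl k X z E)) 0, σ ≠ 0 →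
      ∀ β : Coh.HH _ ((DCoh.tensorRightMod (pl k X z (cst k T A))).obj (pl k X z E)) 1,
      ∃ (G : (PicF.XT (st k X) (T0 k)).Modules) (f₀ : pl k X z E ⟶ G) (g₀ : G ⟶ pl k X z E)
        (w₀ : f₀ ≫ g₀ = 0) (_ : (ShortComplex.mk f₀ g₀ w₀).ShortExact)
        (hSN : ((ShortComplex.mk f₀ g₀ w₀).map (DCoh.tensorRightMod (pl k X z (cst k T A)))).ShortExact),
        Groth.Agent.CohqB.HSeqMod.δ hSN 0 σ = β ∧ Qe ((dt k X).ES (g₀ ≫ f₀)))
    (hlift : ∀ M : (PicF.XT (st k X) (Te k)).Modules, Qe M →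
      ∀ ρ : (Scheme.Modules.pullback (dt k X).i).obj M ≅ pl k X z E,
      ∃ (v : Te k ⟶ T) (hv : iT k ≫ v = z) (φ : pl k X v E ≅ M),
        (Scheme.Modules.pullback (dt k X).i).map φ.hom ≫ ρ.hom = (rv hv E).hom)
    (s : ι → k) (hs : s ≠ 0) (hsm : ∀ l, ∑ j, ev0 z (d l j) * s j = 0) (t : κ → k) :
    ∃ (v : Te k ⟶ T) (_ : iT k ≫ v = z) (c : ι → k),
      ∀ l, ∑ j, (evE v (d l j)).snd * s j = t l + ∑ j, ev0 z (d l j) * c j := by
  have hEz : Coh.IsQCoh (pl k X z E) := Groth.Agent.Ega2.QCohLocal.isQCoh_of_isFinLocFree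
    (Groth.Agent.PerfC.PullRestrict.isFinLocFree_pullback _ hE)
  refine onto_aux hS hE hA hB z e f d hd he he' hf (fun σ hσ β => ?_) s hs hsm t
  obtain ⟨G, f₀, g₀, w₀, h1, h2, h3, h4⟩ := hadm σ hσ β
  exact ⟨G, f₀, g₀, w₀, h1, h2, h3, real_of_lift hEz h1 (hlift _ h4)⟩

end main

end K822.OntoX
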