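import Groth.Agent.BunMod.K822.Add
import Groth.Agent.BunMod.K822.OntoX

/-!
# The class of a tangent vector: additivity and scaling

`SA k A = Spec A` as a test scheme, `evA v` values of functions at `v : SA k A ⟶ T`; for `T` affine points are determined by
`evA` (`evA_ext`, `exists_evA`).
`cls hv hF : Ext (z^* F) (z^* F) 1` for `v : Te k ⟶ T` over `z`; `cls_add`, `cls_smul` (`T` affine).
-/

set_option autoImplicit false

universe w u

open CategoryTheory CategoryTheory.Limits AlgebraicGeometry TopologicalSpace Opposite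

namespace K822.XAdd

open Groth.Agent.Sga67.Sec Groth.Agent.Krr.H487.LocBasisPull Groth.Agent.Fga.RigGrp
open Groth.Agent.LoccohB.HHmap (smulHom smulHom_comp smulHom_app)
open K140.BM K822.Eps K822.EMod K822.Tr K822.XTD K822.OntoX

section point

variable {k : Type u} [Field k]

/-- `Spec A` as a test scheme. -/
noncomputable abbrev SA (k : Type u) [Field k] (A : Type u) [CommRing A] [Algebra k A] : Over (B0 k) :=
  Over.mk (Spec.map (CommRingCat.ofHom (algebraMap k A)))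

/-- A homomorphism of algebras as a morphism of test schemes. -/
noncomputable def SAmap {A B : Type u} [CommRing A] [CommRing B] [Algebra k A] [Algebra k B] (s : A →ₐ[k] B) :
    SA k B ⟶ SA k A :=
  Over.homMk (Spec.map (CommRingCat.ofHom s.toRingHom)) (by
    change Spec.map _ ≫ Spec.map _ = Spec.map _
    rw [← Spec.map_comp, ← CommRingCat.ofHom_comp]
    congr 2
    exact s.comp_algebraMap)

theorem SAmap_comp {A B C : Type u} [CommRing A] [CommRing B] [CommRing C] [Algebra k A] [Algebra k B] [Algebra k C]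
    (s : A →ₐ[k] B) (t : B →ₐ[k] C) : SAmap t ≫ SAmap s = SAmap (t.comp s) := by
  apply Over.OverMorphism.ext
  change Spec.map _ ≫ Spec.map _ = Spec.map _
  rw [← Spec.map_comp, ← CommRingCat.ofHom_comp]
  rfl

variable {T : Over (B0 k)}

/-- The value of a function at a point with values in `A`. -/
noncomputable def evA {A : Type u} [CommRing A] [Algebra k A] (v : SA k A ⟶ T) : Γ(T.left, ⊤) →+* A :=
  ((Scheme.ΓSpecIso (CommRingCat.of A)).hom.hom).comp v.left.appTop.hom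

theorem evA_comp {A B : Type u} [CommRing A] [CommRing B] [Algebra k A] [Algebra k B] (s : A →ₐ[k] B)
    (v : SA k A ⟶ T) (r : Γ(T.left, ⊤)) : evA (SAmap s ≫ v) r = s (evA v r) := by
  have h1 := Scheme.ΓSpecIso_naturality (CommRingCat.ofHom s.toRingHom)
  have h2 := congr($h1 (v.left.appTop r))
  have h3 : ((Scheme.ΓSpecIso (CommRingCat.of B)).hom ((Spec.map (CommRingCat.ofHom
      s.toRingHom)).appTop (v.left.appTop r))) = evA (SAmap s ≫ v) r := by
    change _ = (Scheme.ΓSpecIso (CommRingCat.of B)).hom ((SAmap s ≫ v).left.appTop r)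
    rw [Over.comp_left, Scheme.Hom.comp_appTop]
    rfl
  exact (h3.symm.trans h2)

theorem evA_hom {A : Type u} [CommRing A] [Algebra k A] (v : SA k A ⟶ T) (c : k) :
    evA v (Coh.toGlobal T.hom c) = algebraMap k A c := by
  have h1 : T.hom.appTop ≫ v.left.appTop = (Spec.map (CommRingCat.ofHom (algebraMap k A))).appTop := by
    rw [← Scheme.Hom.comp_appTop, Over.w v]
    rfl
  have h2 := Scheme.ΓSpecIso_naturality (CommRingCat.ofHom (algebraMap k A))
  have h3 : (Scheme.ΓSpecIso (CommRingCat.of k)).inv ≫ (T.hom.appTop ≫ v.left.appTop) ≫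
      (Scheme.ΓSpecIso (CommRingCat.of A)).hom = CommRingCat.ofHom (algebraMap k A) := by
    rw [h1, h2, Iso.inv_hom_id_assoc]
  exact congr($h3 c)

theorem evA_ext [IsAffine T.left] {A : Type u} [CommRing A] [Algebra k A] {v v' : SA k A ⟶ T}
    (h : ∀ r, evA v r = evA v' r) : v = v' := by
  apply Over.OverMorphism.ext
  apply ext_of_isAffine
  rw [← cancel_mono (Scheme.ΓSpecIso (CommRingCat.of A)).hom]
  ext r
  exact h r

theorem exists_evA [IsAffine T.left] {A : Type u} [CommRing A] [Algebra k A] (φ : Γ(T.left, ⊤) →+* A)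
    (h : ∀ c : k, φ (Coh.toGlobal T.hom c) = algebraMap k A c) : ∃ v : SA k A ⟶ T, evA v = φ := by
  let w : Spec (CommRingCat.of A) ⟶ T.left := Spec.map (CommRingCat.ofHom φ) ≫ T.left.isoSpec.inv
  have hw : w.appTop ≫ (Scheme.ΓSpecIso (CommRingCat.of A)).hom = CommRingCat.ofHom φ := by
    have h1 : T.left.isoSpec.inv.appTop = (Scheme.ΓSpecIso Γ(T.left, ⊤)).inv := by
      rw [← cancel_epi (Scheme.ΓSpecIso Γ(T.left, ⊤)).hom, Iso.hom_inv_id, ← Scheme.toSpecΓ_appTop,
        ← Scheme.Hom.comp_appTop]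
      have h2 : T.left.isoSpec.inv ≫ T.left.toSpecΓ = 𝟙 _ := T.left.isoSpec.inv_hom_id
      rw [h2]
      rfl
    rw [Scheme.Hom.comp_appTop, h1, Category.assoc, Scheme.ΓSpecIso_naturality]
    exact Iso.inv_hom_id_assoc _ _
  have hT : w ≫ T.hom = Spec.map (CommRingCat.ofHom (algebraMap k A)) := by
    apply ext_of_isAffine
    rw [← cancel_mono (Scheme.ΓSpecIso (CommRingCat.of A)).hom,
      ← cancel_epi (Scheme.ΓSpecIso (CommRingCat.of k)).inv, Scheme.Hom.comp_appTop, Category.assoc, hw,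
      Scheme.ΓSpecIso_naturality, Iso.inv_hom_id_assoc]
    ext c
    exact h c
  refine ⟨Over.homMk w hT, ?_⟩
  ext r
  exact congr($hw r)

/-- Pairs of tangent vectors at the same point. -/
noncomputable def pairHom {R : Type u} [CommRing R] (φ₁ φ₂ : R →+* DualNumber k) (h : ∀ r, (φ₁ r).fst = (φ₂ r).fst) :
    R →+* TrivSqZeroExt k (k × k) where
  toFun r := TrivSqZeroExt.inl (φ₁ r).fst + TrivSqZeroExt.inr ((φ₁ r).snd, (φ₂ r).snd)
  map_one' := by
    ext <;> simp
  map_mul' r s := by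
    ext
    · simp
    · simp [TrivSqZeroExt.snd_mul]
    · simp [TrivSqZeroExt.snd_mul, h]
  map_zero' := by
    ext <;> simp
  map_add' r s := by
    ext
    · simp
    · simp
    · simp

/-- `k[ε₁, ε₂]/(ε₁, ε₂)² → k[ε]` attached to a linear form. -/
noncomputable abbrev pm (f : k × k →ₗ[k] k) : TrivSqZeroExt k (k × k) →ₐ[k] DualNumber k := TrivSqZeroExt.map f

/-- `Spec A ⟶ Spec k`. -/
noncomputable def qA (A : Type u) [CommRing A] [Algebra k A] : SA k A ⟶ T0 k :=
  Over.homMk (Spec.map (CommRingCat.ofHom (algebraMap k A))) (Category.comp_id _)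

/-- The point of `Spec A` given by an augmentation. -/
noncomputable def iA {A : Type u} [CommRing A] [Algebra k A] (a : A →ₐ[k] k) : T0 k ⟶ SA k A :=
  Over.homMk (Spec.map (CommRingCat.ofHom a.toRingHom)) (by
    change Spec.map _ ≫ Spec.map _ = 𝟙 _
    rw [← Spec.map_comp, ← CommRingCat.ofHom_comp]
    have h : a.toRingHom.comp (algebraMap k A) = RingHom.id k := a.comp_algebraMap
    rw [h]
    exact Spec.map_id _)

theorem iA_qA {A : Type u} [CommRing A] [Algebra k A] (a : A →ₐ[k] k) : iA a ≫ qA A = 𝟙 (T0 k) := by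
  apply Over.OverMorphism.ext
  exact (Over.w (iA a))

theorem SAmap_qA {A B : Type u} [CommRing A] [CommRing B] [Algebra k A] [Algebra k B] (s : A →ₐ[k] B) :
    SAmap s ≫ qA A = qA B := by
  apply Over.OverMorphism.ext
  exact (Over.w (SAmap s))

theorem iA_SAmap {A B : Type u} [CommRing A] [CommRing B] [Algebra k A] [Algebra k B] (s : A →ₐ[k] B) (b : B →ₐ[k] k) :
    iA b ≫ SAmap s = iA (b.comp s) := by
  apply Over.OverMorphism.ext
  change Spec.map _ ≫ Spec.map _ = Spec.map _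
  rw [← Spec.map_comp, ← CommRingCat.ofHom_comp]
  rfl

theorem iT_eq : iT k = iA (TrivSqZeroExt.fstHom k k k) := rfl

theorem qT_eq : qT k = qA (DualNumber k) := rfl

end point

section cls

variable {k : Type u} [Field k] {X : Scheme.{u}} [X.Over (Spec (CommRingCat.of k))] {T : Over (B0 k)} {z : T0 k ⟶ T}

theorem isEM_v {v : Te k ⟶ T} (hv : iT k ≫ v = z) {F : (PicF.XT (st k X) T).Modules} (hF : FlatMod.IsFinLocFree F) :
    IsEM ((dt k X).eq ((Scheme.Modules.pullback (PicF.XTmap (st k X) v)).obj F))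
      (rd (dt k X) (PicF.XTmap (st k X) v) (di_v hv) F) :=
  sv (dt k X) (PicF.XTmap (st k X) v) (di_v hv) (Groth.Agent.Ega2.QCohLocal.isQCoh_of_isFinLocFree hF)
    ((dt k X).eFlat_of_isFinLocFree (Groth.Agent.PerfC.PullRestrict.isFinLocFree_pullback _ hF))

/-- The class of a tangent vector. -/
noncomputable def cls [HasExt.{w} (PicF.XT (st k X) (T0 k)).Modules] {v : Te k ⟶ T} (hv : iT k ≫ v = z)
    {F : (PicF.XT (st k X) T).Modules} (hF : FlatMod.IsFinLocFree F) :
    Abelian.Ext.{w} (pl k X z F) (pl k X z F) 1 := (isEM_v hv hF).ext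

variable [HasExt.{w} (PicF.XT (st k X) (T0 k)).Modules]

omit [HasExt.{w} (PicF.XT (st k X) (T0 k)).Modules] in
theorem isAffineHom_qA (A : Type u) [CommRing A] [Algebra k A] :
    IsAffineHom (PicF.XTmap (st k X) (qA (k := k) A)) := by
  have h1 : IsAffineHom (qA (k := k) A).left :=
    inferInstanceAs (IsAffineHom (Spec.map (CommRingCat.ofHom (algebraMap k A))))
  exact MorphismProperty.of_isPullback (isPullback_XTmap (X := X) (qA (k := k) A)).flip h1

omit [HasExt.{w} (PicF.XT (st k X) (T0 k)).Modules] in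
theorem w_SAmap {A B : Type u} [CommRing A] [CommRing B] [Algebra k A] [Algebra k B] (s : A →ₐ[k] B) :
    PicF.XTmap (st k X) (SAmap s) ≫ PicF.XTproj (st k X) (SA k A) =
      PicF.XTproj (st k X) (SA k B) ≫ Spec.map (CommRingCat.ofHom s.toRingHom) :=
  XTmap_XTproj (st k X) (SAmap s)

/-- Additivity: `v_j = σ_j ≫ v₀`. -/
theorem cls_add_aux {v₀ : SA k (TrivSqZeroExt k (k × k)) ⟶ T} {v₁ v₂ v₃ : Te k ⟶ T}
    (e₁ : SAmap (pm (LinearMap.fst k k k)) ≫ v₀ = v₁) (e₂ : SAmap (pm (LinearMap.snd k k k)) ≫ v₀ = v₂)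
    (e₃ : SAmap (pm (LinearMap.fst k k k + LinearMap.snd k k k)) ≫ v₀ = v₃) (h₁ : iT k ≫ v₁ = z)
    (h₂ : iT k ≫ v₂ = z) (h₃ : iT k ≫ v₃ = z) {F : (PicF.XT (st k X) T).Modules} (hF : FlatMod.IsFinLocFree F) :
    cls.{w} h₃ hF = cls h₁ hF + cls h₂ hF := by
  have i1 := isAffineHom_qA (X := X) (k := k) (TrivSqZeroExt k (k × k))
  have hx : ∀ {T₁ T₂ T₃ : Over (B0 k)} (f : T₁ ⟶ T₂) (g : T₂ ⟶ T₃),
      PicF.XTmap (st k X) f ≫ PicF.XTmap (st k X) g = PicF.XTmap (st k X) (f ≫ g) := fun f g =>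
    (XTmap_comp (st k X) g f).symm
  have hf : ∀ f : k × k →ₗ[k] k, (TrivSqZeroExt.fstHom k k k).comp (pm f) = TrivSqZeroExt.fstHom k k (k × k) := by
    intro f
    exact AlgHom.ext fun x => TrivSqZeroExt.fst_map f x
  have hker : RingHom.ker (TrivSqZeroExt.fstHom k k (k × k)).toRingHom =
      Ideal.span (Set.range ![TrivSqZeroExt.inr ((1, 0) : k × k), TrivSqZeroExt.inr ((0, 1) : k × k)]) := by
    apply le_antisymm
    · intro x hx'
      have h0 : x.fst = 0 := hx'
      have h1 : x = TrivSqZeroExt.inl x.snd.1 * TrivSqZeroExt.inr ((1, 0) : k × k) +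
          TrivSqZeroExt.inl x.snd.2 * TrivSqZeroExt.inr ((0, 1) : k × k) := by
        ext
        · simp [h0]
        · simp
        · simp
      rw [h1]
      exact Ideal.add_mem _ (Ideal.mul_mem_left _ _ (Ideal.subset_span ⟨0, rfl⟩))
        (Ideal.mul_mem_left _ _ (Ideal.subset_span ⟨1, rfl⟩))
    · rw [Ideal.span_le]
      rintro _ ⟨j, rfl⟩
      fin_cases j
      · rfl
      · rfl
  have hm : ∀ (f : k × k →ₗ[k] k) (p : k × k) (_ : Unit) (_ : f p = 1), (pm f).toRingHom (TrivSqZeroExt.inr p) =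
      DualNumber.eps := by
    intro f p _ h
    change TrivSqZeroExt.map f (TrivSqZeroExt.inr p) = _
    rw [TrivSqZeroExt.map_inr, h]
    rfl
  have hm0 : ∀ (f : k × k →ₗ[k] k) (p : k × k) (_ : f p = 0), (pm f).toRingHom (TrivSqZeroExt.inr p) = 0 := by
    intro f p h
    change TrivSqZeroExt.map f (TrivSqZeroExt.inr p) = _
    rw [TrivSqZeroExt.map_inr, h, TrivSqZeroExt.inr_zero]
  exact Add.class_add (dt k X) (a := (TrivSqZeroExt.fstHom k k (k × k)).toRingHom)
    (y₀ := PicF.XTproj (st k X) (SA k (TrivSqZeroExt k (k × k)))) (q₀ := PicF.XTmap (st k X) (qA _))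
    (i₀ := PicF.XTmap (st k X) (iA (TrivSqZeroExt.fstHom k k (k × k))))
    (by rw [hx, iA_qA, XTmap_id]) (fun c => ⟨TrivSqZeroExt.inl c, rfl⟩)
    (isPullback_XTmap (iA (TrivSqZeroExt.fstHom k k (k × k)))) hker
    (v₀ := PicF.XTmap (st k X) v₀) (σ₁ := PicF.XTmap (st k X) (SAmap (pm (LinearMap.fst k k k))))
    (σ₂ := PicF.XTmap (st k X) (SAmap (pm (LinearMap.snd k k k))))
    (σ₃ := PicF.XTmap (st k X) (SAmap (pm (LinearMap.fst k k k + LinearMap.snd k k k))))
    (by rw [hx, SAmap_qA]; rfl) (by rw [hx, SAmap_qA]; rfl) (by rw [hx, SAmap_qA]; rfl)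
    (w_SAmap _) (w_SAmap _) (w_SAmap _)
    (by change PicF.XTmap (st k X) (iT k) ≫ _ = _; rw [hx, iT_eq, iA_SAmap, hf])
    (by change PicF.XTmap (st k X) (iT k) ≫ _ = _; rw [hx, iT_eq, iA_SAmap, hf])
    (by change PicF.XTmap (st k X) (iT k) ≫ _ = _; rw [hx, iT_eq, iA_SAmap, hf])
    (by rw [hx, e₁]) (by rw [hx, e₂]) (by rw [hx, e₃])
    (hm _ _ () (by simp)) (hm0 _ _ (by simp)) (hm0 _ _ (by simp)) (hm _ _ () (by simp)) (hm _ _ () (by simp))
    (hm _ _ () (by simp))
    (di_v h₁) (di_v h₂) (di_v h₃) (Groth.Agent.Ega2.QCohLocal.isQCoh_of_isFinLocFree hF)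
    (isEM_v h₁ hF) (isEM_v h₂ hF) (isEM_v h₃ hF)

/-- Additivity of the class. -/
theorem cls_add [IsAffine T.left] {v₁ v₂ v₃ : Te k ⟶ T} (h₁ : iT k ≫ v₁ = z)
    (h₂ : iT k ≫ v₂ = z) (h₃ : iT k ≫ v₃ = z) (hadd : ∀ r, (evE v₃ r).snd = (evE v₁ r).snd + (evE v₂ r).snd)
    {F : (PicF.XT (st k X) T).Modules} (hF : FlatMod.IsFinLocFree F) :
    cls.{w} h₃ hF = cls h₁ hF + cls h₂ hF := by
  have hfst : ∀ {v : Te k ⟶ T} (_ : iT k ≫ v = z) (r : Γ(T.left, ⊤)), (evE v r).fst = ev0 z r := by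
    intro v hv r
    rw [evE_fst, hv]
  obtain ⟨v₀, hv₀⟩ := exists_evA (T := T) (pairHom (evE v₁) (evE v₂) (fun r => by rw [hfst h₁, hfst h₂])) (by
    intro c
    have c₁ : evE v₁ (Coh.toGlobal T.hom c) = algebraMap k (DualNumber k) c := evA_hom v₁ c
    have c₂ : evE v₂ (Coh.toGlobal T.hom c) = algebraMap k (DualNumber k) c := evA_hom v₂ c
    change TrivSqZeroExt.inl (evE v₁ (Coh.toGlobal T.hom c)).fst +
      TrivSqZeroExt.inr ((evE v₁ (Coh.toGlobal T.hom c)).snd, (evE v₂ (Coh.toGlobal T.hom c)).snd) = _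
    rw [c₁, c₂]
    change TrivSqZeroExt.inl c + TrivSqZeroExt.inr ((0 : k), (0 : k)) = TrivSqZeroExt.inl c
    ext <;> simp)
  have hev : ∀ r, evA v₀ r = TrivSqZeroExt.inl (evE v₁ r).fst + TrivSqZeroExt.inr ((evE v₁ r).snd, (evE v₂ r).snd) := by
    intro r
    rw [hv₀]
    rfl
  refine cls_add_aux (v₀ := v₀) (evA_ext fun r => ?_) (evA_ext fun r => ?_) (evA_ext fun r => ?_) h₁ h₂ h₃ hF
  · rw [evA_comp, hev]
    change _ = evE v₁ r
    ext <;> simp
  · rw [evA_comp, hev]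
    change _ = evE v₂ r
    ext
    · simp [hfst h₁, hfst h₂]
    · simp
  · rw [evA_comp, hev]
    change _ = evE v₃ r
    ext
    · simp [hfst h₁, hfst h₃]
    · simp [hadd]

/-- Scaling of the class. -/
theorem cls_smul [IsAffine T.left] {v v' : Te k ⟶ T} (h : iT k ≫ v = z) (h' : iT k ≫ v' = z) (c : k)
    (hc : ∀ r, (evE v' r).snd = c * (evE v r).snd)
    {F : (PicF.XT (st k X) T).Modules} (hF : FlatMod.IsFinLocFree F) :
    cls.{w} h' hF = (cls h hF).comp (Abelian.Ext.mk₀ (smulHom _ (fn (dt k X).x c))) (add_zero 1) := by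
  have hx : ∀ {T₁ T₂ T₃ : Over (B0 k)} (f : T₁ ⟶ T₂) (g : T₂ ⟶ T₃),
      PicF.XTmap (st k X) f ≫ PicF.XTmap (st k X) g = PicF.XTmap (st k X) (f ≫ g) := fun f g =>
    (XTmap_comp (st k X) g f).symm
  have hfst : ∀ {v : Te k ⟶ T} (_ : iT k ≫ v = z) (r : Γ(T.left, ⊤)), (evE v r).fst = ev0 z r := by
    intro v hv r
    rw [evE_fst, hv]
  let s : DualNumber k →ₐ[k] DualNumber k := TrivSqZeroExt.map (c • LinearMap.id)
  have e1 : SAmap s ≫ v = v' := evA_ext fun r => by
    rw [evA_comp]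
    change s (evE v r) = evE v' r
    ext
    · simp [s, hfst h, hfst h']
    · simp [s, hc]
  have hs : (TrivSqZeroExt.fstHom k k k).comp s = TrivSqZeroExt.fstHom k k k :=
    AlgHom.ext fun x => TrivSqZeroExt.fst_map _ x
  exact Add.class_smul (dt k X) (σ := PicF.XTmap (st k X) (SAmap s)) (s := s.toRingHom)
    (by change _ ≫ PicF.XTmap (st k X) (qT k) = PicF.XTmap (st k X) (qT k); rw [hx, qT_eq, SAmap_qA]) c
    (w_SAmap s) (by change PicF.XTmap (st k X) (iT k) ≫ _ = PicF.XTmap (st k X) (iT k); rw [hx, iT_eq, iA_SAmap, hs])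
    (by rw [hx, e1]) (by
      change TrivSqZeroExt.map (c • LinearMap.id) (TrivSqZeroExt.inr 1) = TrivSqZeroExt.inl c * TrivSqZeroExt.inr 1
      rw [TrivSqZeroExt.map_inr, TrivSqZeroExt.inl_mul_inr]
      rfl) (di_v h) (di_v h') (isEM_v h hF) (isEM_v h' hF)

end cls

end K822.XAdd
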