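import Groth.Agent.BunMod.K822.Rdd

/-!
# Additivity and scaling of the class of a tangent vector

Generic form: `Y₀` is `X × A`, `A` an augmented `k`-algebra with augmentation ideal `(t₁, t₂)`, `σ_j : Y ⟶ Y₀` given by
`s_j : A → k[ε]`, `(t₁, t₂) ↦ (ε, 0), (0, ε), (ε, ε)`; `v_j = σ_j ≫ v₀`.
* `class_add`: the class of `v₃` is the sum of those of `v₁` and `v₂`;
* `class_smul`: the class of `σ ≫ v`, `σ : ε ↦ c ε`, is `c` times that of `v`.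
-/

set_option autoImplicit false

universe w u

open CategoryTheory CategoryTheory.Limits AlgebraicGeometry TopologicalSpace Opposite

namespace K822.Add

open Groth.Agent.Sga67.Sec Groth.Agent.Krr.H487.LocBasisPull
open Groth.Agent.LoccohB.HHmap (smulHom smulHom_comp smulHom_app)
open K822.Eps K822.EMod K822.Tr K822.Rdd

theorem smulHom_zero {X : Scheme.{u}} (M : X.Modules) : smulHom M 0 = 0 := by
  apply hom_ext
  intro U s
  rw [appS_smulHom, map_zero, zero_smul]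
  rfl

section two

variable {k A : Type u} [CommRing k] [CommRing A] {a : A →+* k} {X Y : Scheme.{u}}
  {x : X ⟶ Spec (CommRingCat.of k)} {y : Y ⟶ Spec (CommRingCat.of A)} (q : Y ⟶ X) (i : X ⟶ Y) (h : i ≫ q = 𝟙 X)
  (ha : Function.Surjective a) (sq : IsPullback i x y (Spec.map (CommRingCat.ofHom a)))

/-- Multiplication by an element on the direct image. -/
noncomputable def mu (M : Y.Modules) (t : A) :
    (Scheme.Modules.pushforward q).obj M ⟶ (Scheme.Modules.pushforward q).obj M :=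
  (Scheme.Modules.pushforward q).map (smulHom M (fn y t))

include ha sq in
/-- The kernel of the reduction is generated by two elements. -/
theorem exact_two [IsAffineHom q] {t₁ t₂ : A} (ht : RingHom.ker a = Ideal.span (Set.range ![t₁, t₂]))
    {M : Y.Modules} (hM : Coh.IsQCoh M) {E : X.Modules} (ρ : (Scheme.Modules.pullback i).obj M ⟶ E) [IsIso ρ]
    (w : biprod.desc (mu (y := y) q M t₁) (mu (y := y) q M t₂) ≫ red q i h ρ = 0) :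
    (ShortComplex.mk (biprod.desc (mu (y := y) q M t₁) (mu (y := y) q M t₂)) (red q i h ρ) w).Exact := by
  apply exact_of_locally
  intro U s hs z hz
  obtain ⟨V, ⟨hV, hVU⟩, hzV⟩ : ∃ V : X.Opens, (IsAffineOpen V ∧ V ≤ U) ∧ z ∈ V := by
    obtain ⟨_, ⟨V, hV, rfl⟩, hzV, hVU⟩ := X.isBasis_affineOpens.exists_subset_of_mem_open hz U.isOpen
    exact ⟨V, ⟨hV, hVU⟩, hzV⟩
  have hs' : appS (red q i h ρ) V (res ((Scheme.Modules.pushforward q).obj M) hVU s) = 0 := by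
    rw [appS_res]
    have h1 : appS (red q i h ρ) U s = 0 := hs
    rw [h1, map_zero]
  obtain ⟨c, hc⟩ := exists_red_eq_zero q i h ha sq ht hM ρ hV _ hs'
  refine ⟨V, hVU, hzV, appS (biprod.inl : (Scheme.Modules.pushforward q).obj M ⟶
    (Scheme.Modules.pushforward q).obj M ⊞ (Scheme.Modules.pushforward q).obj M) V (c 0) +
      appS (biprod.inr : (Scheme.Modules.pushforward q).obj M ⟶
    (Scheme.Modules.pushforward q).obj M ⊞ (Scheme.Modules.pushforward q).obj M) V (c 1), ?_⟩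
  change appS (biprod.desc (mu (y := y) q M t₁) (mu (y := y) q M t₂)) V _ = res _ hVU s
  rw [map_add, ← appS_comp, ← appS_comp, biprod.inl_desc, biprod.inr_desc]
  refine Eq.trans ?_ hc.symm
  rw [Fin.sum_univ_two]
  rfl

end two

section add

variable {k : Type u} [Field k] {A : Type u} [CommRing A] {a : A →+* k} {X Y Y₀ Z : Scheme.{u}} (D : DT k X Y)
  {y₀ : Y₀ ⟶ Spec (CommRingCat.of A)} {q₀ : Y₀ ⟶ X} {i₀ : X ⟶ Y₀} (hi₀ : i₀ ≫ q₀ = 𝟙 X)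
  (ha : Function.Surjective a) (sq₀ : IsPullback i₀ D.x y₀ (Spec.map (CommRingCat.ofHom a)))
  {t₁ t₂ : A} (ht : RingHom.ker a = Ideal.span (Set.range ![t₁, t₂]))

theorem appTop_fn {σ : Y ⟶ Y₀} {s : A →+* DualNumber k} (hs : σ ≫ y₀ = D.y ≫ Spec.map (CommRingCat.ofHom s)) (r : A) :
    (σ.appTop (fn y₀ r) : Γ(Y, ⊤)) = fn D.y (s r) := by
  have h2 := Scheme.ΓSpecIso_inv_naturality (CommRingCat.ofHom s)
  have h1 : (Scheme.ΓSpecIso (CommRingCat.of A)).inv ≫ y₀.appTop ≫ σ.appTop =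
      CommRingCat.ofHom s ≫ (Scheme.ΓSpecIso (CommRingCat.of (DualNumber k))).inv ≫ D.y.appTop := by
    rw [← Scheme.Hom.comp_appTop, hs, Scheme.Hom.comp_appTop, ← Category.assoc, ← h2, Category.assoc]
  exact congr($h1 r)

/-- Multiplication by `t` on `q₀_* M₀` and by `s t` on `q_* M`. -/
theorem mu_rdd {σ : Y ⟶ Y₀} (hq : σ ≫ q₀ = D.q) {s : A →+* DualNumber k}
    (hs : σ ≫ y₀ = D.y ≫ Spec.map (CommRingCat.ofHom s)) {M₀ : Y₀.Modules} {M : Y.Modules}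
    (ρ : (Scheme.Modules.pullback σ).obj M₀ ⟶ M) (t : A) :
    mu (y := y₀) q₀ M₀ t ≫ rdd q₀ σ hq ρ =
      rdd q₀ σ hq ρ ≫ (Scheme.Modules.pushforward D.q).map (smulHom M (fn D.y (s t))) := by
  rw [← appTop_fn D hs t]
  exact smul_rdd q₀ σ hq ρ (fn y₀ t)

theorem mu_rdd_zero {σ : Y ⟶ Y₀} (hq : σ ≫ q₀ = D.q) {s : A →+* DualNumber k}
    (hs : σ ≫ y₀ = D.y ≫ Spec.map (CommRingCat.ofHom s)) {M₀ : Y₀.Modules} {M : Y.Modules}
    (ρ : (Scheme.Modules.pullback σ).obj M₀ ⟶ M) {t : A} (hst : s t = 0) :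
    mu (y := y₀) q₀ M₀ t ≫ rdd q₀ σ hq ρ = 0 := by
  rw [mu_rdd D hq hs, hst, map_zero, smulHom_zero, Functor.map_zero, comp_zero]

theorem mu_rdd_eps {σ : Y ⟶ Y₀} (hq : σ ≫ q₀ = D.q) {s : A →+* DualNumber k}
    (hs : σ ≫ y₀ = D.y ≫ Spec.map (CommRingCat.ofHom s)) {M₀ : Y₀.Modules} {M : Y.Modules}
    (ρ : (Scheme.Modules.pullback σ).obj M₀ ⟶ M) {t : A} (hst : s t = DualNumber.eps) :
    mu (y := y₀) q₀ M₀ t ≫ rdd q₀ σ hq ρ = rdd q₀ σ hq ρ ≫ D.eq M := by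
  rw [mu_rdd D hq hs, hst]
  rfl

include hi₀ ha sq₀ ht in
/-- Additivity of the class of a tangent vector. -/
theorem class_add [HasExt.{w} X.Modules] [IsAffineHom q₀] {v₀ : Y₀ ⟶ Z} {v₁ v₂ v₃ : Y ⟶ Z} {σ₁ σ₂ σ₃ : Y ⟶ Y₀}
    (q₁ : σ₁ ≫ q₀ = D.q) (q₂ : σ₂ ≫ q₀ = D.q) (q₃ : σ₃ ≫ q₀ = D.q) {s₁ s₂ s₃ : A →+* DualNumber k}
    (g₁ : σ₁ ≫ y₀ = D.y ≫ Spec.map (CommRingCat.ofHom s₁)) (g₂ : σ₂ ≫ y₀ = D.y ≫ Spec.map (CommRingCat.ofHom s₂))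
    (g₃ : σ₃ ≫ y₀ = D.y ≫ Spec.map (CommRingCat.ofHom s₃)) (j₁ : D.i ≫ σ₁ = i₀) (j₂ : D.i ≫ σ₂ = i₀)
    (j₃ : D.i ≫ σ₃ = i₀) (hv₁ : σ₁ ≫ v₀ = v₁) (hv₂ : σ₂ ≫ v₀ = v₂) (hv₃ : σ₃ ≫ v₀ = v₃)
    (e₁₁ : s₁ t₁ = DualNumber.eps) (e₁₂ : s₁ t₂ = 0) (e₂₁ : s₂ t₁ = 0) (e₂₂ : s₂ t₂ = DualNumber.eps)
    (e₃₁ : s₃ t₁ = DualNumber.eps) (e₃₂ : s₃ t₂ = DualNumber.eps) {z : X ⟶ Z}
    (h₁ : D.i ≫ v₁ = z) (h₂ : D.i ≫ v₂ = z) (h₃ : D.i ≫ v₃ = z) {F : Z.Modules} (hF : Coh.IsQCoh F)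
    (H₁ : IsEM (D.eq ((Scheme.Modules.pullback v₁).obj F)) (rd D v₁ h₁ F))
    (H₂ : IsEM (D.eq ((Scheme.Modules.pullback v₂).obj F)) (rd D v₂ h₂ F))
    (H₃ : IsEM (D.eq ((Scheme.Modules.pullback v₃).obj F)) (rd D v₃ h₃ F)) :
    (H₃.ext : Abelian.Ext.{w} _ _ 1) = H₁.ext + H₂.ext := by
  have hz₀ : i₀ ≫ v₀ = z := by rw [← j₁, Category.assoc, hv₁, h₁]
  have hM : Coh.IsQCoh ((Scheme.Modules.pullback v₀).obj F) := Groth.Agent.VarietyB.PullSec.isQCoh_pullback _ _ hF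
  have p₁ := rdd_red q₀ σ₁ q₁ D.iq hi₀ j₁ hv₁ h₁ hz₀ F
  have p₂ := rdd_red q₀ σ₂ q₂ D.iq hi₀ j₂ hv₂ h₂ hz₀ F
  have p₃ := rdd_red q₀ σ₃ q₃ D.iq hi₀ j₃ hv₃ h₃ hz₀ F
  have hepi := epi_red q₀ i₀ hi₀ ha sq₀ hM (tr i₀ v₀ hz₀ F).hom
  have hk : ∀ t ∈ RingHom.ker a, mu (y := y₀) q₀ ((Scheme.Modules.pullback v₀).obj F) t ≫
      red q₀ i₀ hi₀ (tr i₀ v₀ hz₀ F).hom = 0 := by
    intro t ht'
    refine (smul_red q₀ i₀ hi₀ sq₀ (tr i₀ v₀ hz₀ F).hom t).trans ?_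
    rw [(RingHom.mem_ker).1 ht', map_zero, smulHom_zero, comp_zero]
  have m₁ : t₁ ∈ RingHom.ker a := by
    rw [ht]
    exact Ideal.subset_span ⟨0, rfl⟩
  have m₂ : t₂ ∈ RingHom.ker a := by
    rw [ht]
    exact Ideal.subset_span ⟨1, rfl⟩
  have w : biprod.desc (mu (y := y₀) q₀ ((Scheme.Modules.pullback v₀).obj F) t₁)
      (mu (y := y₀) q₀ ((Scheme.Modules.pullback v₀).obj F) t₂) ≫ red q₀ i₀ hi₀ (tr i₀ v₀ hz₀ F).hom = 0 := by
    apply biprod.hom_ext'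
    · rw [biprod.inl_desc_assoc, hk _ m₁, comp_zero]
    · rw [biprod.inr_desc_assoc, hk _ m₂, comp_zero]
  exact IsEM.ext_add H₁ H₂ H₃ _ _ _ p₁ p₂ p₃ w (exact_two q₀ i₀ hi₀ ha sq₀ ht hM _ w)
    (mu_rdd_eps D q₁ g₁ _ e₁₁) (mu_rdd_zero D q₁ g₁ _ e₁₂) (mu_rdd_zero D q₂ g₂ _ e₂₁) (mu_rdd_eps D q₂ g₂ _ e₂₂)
    (mu_rdd_eps D q₃ g₃ _ e₃₁) (mu_rdd_eps D q₃ g₃ _ e₃₂)

end add

section smul

variable {k : Type u} [Field k] {X Y Z : Scheme.{u}} (D : DT k X Y)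

/-- Scaling of the class of a tangent vector. -/
theorem class_smul [HasExt.{w} X.Modules] {v v' : Y ⟶ Z} {σ : Y ⟶ Y} (hq : σ ≫ D.q = D.q) (c : k)
    {s : DualNumber k →+* DualNumber k} (hs : σ ≫ D.y = D.y ≫ Spec.map (CommRingCat.ofHom s)) (hj : D.i ≫ σ = D.i)
    (hv : σ ≫ v = v') (hse : s DualNumber.eps = algebraMap k (DualNumber k) c * DualNumber.eps)
    {z : X ⟶ Z} (h : D.i ≫ v = z) (h' : D.i ≫ v' = z) {F : Z.Modules}
    (H : IsEM (D.eq ((Scheme.Modules.pullback v).obj F)) (rd D v h F))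
    (H' : IsEM (D.eq ((Scheme.Modules.pullback v').obj F)) (rd D v' h' F)) :
    (H'.ext : Abelian.Ext.{w} _ _ 1) = H.ext.comp (Abelian.Ext.mk₀ (smulHom _ (fn D.x c))) (add_zero 1) := by
  have p := rdd_red D.q σ hq D.iq D.iq hj hv h' h F
  have e1 := mu_rdd D hq hs (tr σ v hv F).hom DualNumber.eps
  rw [hse, map_mul] at e1
  have e2 : smulHom ((Scheme.Modules.pullback v').obj F) (fn D.y (algebraMap k (DualNumber k) c) * fn D.y DualNumber.eps) =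
      smulHom _ (fn D.y (algebraMap k (DualNumber k) c)) ≫ D.eM ((Scheme.Modules.pullback v').obj F) := by
    apply hom_ext
    intro U s
    rw [appS_comp, appS_smulHom, appS_smulHom, appS_smulHom, smul_smul, mul_comm, map_mul]
    rfl
  rw [e2, Functor.map_comp] at e1
  refine IsEM.ext_smul H H' (smulHom _ (fn D.x c)) _ _ e1 ?_ p
  have e3 := smul_red D.q D.i D.iq D.sqi (tr D.i v' h' F).hom (algebraMap k (DualNumber k) c)
  exact e3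

end smul

end K822.Add
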