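import Groth.Agent.BunMod.K822.XAdd

/-!
# Naturality of the class of a tangent vector

* `cls_nat`: in the family (`F ⟶ F'`); `cls_tr`: in the base (`o : T' ⟶ T`);
* `cls_real`, `exists_cls`: the class of a realized extension is its `extClass`;
* `exists_add`, `exists_smul`, `cls_zero`: sums and multiples of tangent vectors, constant tangent vectors.
-/

set_option autoImplicit false

universe w u

open CategoryTheory CategoryTheory.Limits AlgebraicGeometry TopologicalSpace Opposite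

namespace K822.Cls

open Groth.Agent.Sga67.Sec Groth.Agent.Krr.H487.LocBasisPull Groth.Agent.Fga.RigGrp
open Groth.Agent.LoccohB.HHmap (smulHom smulHom_comp smulHom_app)
open K140.BM K822.Eps K822.EMod K822.Tr K822.XTD K822.OntoX K822.Onto K822.Rdd K822.XAdd

section gen

variable {k : Type u} [Field k] {X Y Z C : Scheme.{u}} (D : DT k X Y)

/-- Naturality of the class in the module. -/
theorem ext_nat [HasExt.{w} X.Modules] (v : Y ⟶ Z) {z : X ⟶ Z} (h : D.i ≫ v = z) {F F' : Z.Modules} (φ : F ⟶ F')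
    (H : IsEM (D.eq ((Scheme.Modules.pullback v).obj F)) (rd D v h F))
    (H' : IsEM (D.eq ((Scheme.Modules.pullback v).obj F')) (rd D v h F')) :
    (H.ext : Abelian.Ext.{w} _ _ 1).comp (Abelian.Ext.mk₀ ((Scheme.Modules.pullback z).map φ)) (add_zero 1) =
      (Abelian.Ext.mk₀ ((Scheme.Modules.pullback z).map φ)).comp H'.ext (zero_add 1) := by
  refine H.ext_natural H' (φ := (Scheme.Modules.pushforward D.q).map ((Scheme.Modules.pullback v).map φ))
    (ψ := (Scheme.Modules.pullback z).map φ) ?_ (rd_natural D v h φ)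
  rw [← Functor.map_comp, ← Functor.map_comp, smulHom_comp]

theorem rd_tr (v : Y ⟶ C) (o : C ⟶ Z) {v' : Y ⟶ Z} {z : X ⟶ C} {z' : X ⟶ Z} (h : D.i ≫ v = z) (h2 : v ≫ o = v')
    (h3 : z ≫ o = z') (h4 : D.i ≫ v' = z') (E : Z.Modules) :
    rd D v h ((Scheme.Modules.pullback o).obj E) ≫ (tr z o h3 E).hom =
      (Scheme.Modules.pushforward D.q).map (tr v o h2 E).hom ≫ rd D v' h4 E :=
  red_natural D.q D.i D.iq _ _ (tr_assoc D.i v o h h2 h3 h4 E)

/-- Naturality of the class in the base. -/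
theorem ext_tr [HasExt.{w} X.Modules] (v : Y ⟶ C) (o : C ⟶ Z) {v' : Y ⟶ Z} {z : X ⟶ C} {z' : X ⟶ Z}
    (h : D.i ≫ v = z) (h2 : v ≫ o = v') (h3 : z ≫ o = z') (h4 : D.i ≫ v' = z') (E : Z.Modules)
    (H : IsEM (D.eq ((Scheme.Modules.pullback v).obj ((Scheme.Modules.pullback o).obj E)))
      (rd D v h ((Scheme.Modules.pullback o).obj E)))
    (H' : IsEM (D.eq ((Scheme.Modules.pullback v').obj E)) (rd D v' h4 E)) :
    (H.ext : Abelian.Ext.{w} _ _ 1).comp (Abelian.Ext.mk₀ (tr z o h3 E).hom) (add_zero 1) =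
      (Abelian.Ext.mk₀ (tr z o h3 E).hom).comp H'.ext (zero_add 1) := by
  refine H.ext_natural H' (φ := (Scheme.Modules.pushforward D.q).map (tr v o h2 E).hom)
    (ψ := (tr z o h3 E).hom) ?_ (rd_tr D v o h h2 h3 h4 E)
  rw [← Functor.map_comp, ← Functor.map_comp, smulHom_comp]

/-- The class of a realized extension. -/
theorem ext_real [HasExt.{w} X.Modules] (v : Y ⟶ Z) {z : X ⟶ Z} (h : D.i ≫ v = z) {E : Z.Modules}
    (H : IsEM (D.eq ((Scheme.Modules.pullback v).obj E)) (rd D v h E)) {G : X.Modules}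
    {f : (Scheme.Modules.pullback z).obj E ⟶ G} {g : G ⟶ (Scheme.Modules.pullback z).obj E} {w : f ≫ g = 0}
    (hS : (ShortComplex.mk f g w).ShortExact) (hR : Real D v h E (g ≫ f) g) :
    (H.ext : Abelian.Ext.{w} _ _ 1) = hS.extClass := by
  obtain ⟨τ, h1, h2⟩ := hR
  have h3 := real_j D v h H hS.epi_g h1 h2
  have h4 := ext_push.{w} hS H.shortExact (𝟙 _) τ (h3.trans (Category.id_comp _).symm) h1
  rw [Abelian.Ext.comp_mk₀_id] at h4
  exact h4

end gen

section XT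

variable {k : Type u} [Field k] {X : Scheme.{u}} [X.Over (Spec (CommRingCat.of k))] {T T' : Over (B0 k)} {z : T0 k ⟶ T}
  [HasExt.{w} (PicF.XT (st k X) (T0 k)).Modules]

/-- Naturality of the class in the family. -/
theorem cls_nat {v : Te k ⟶ T} (hv : iT k ≫ v = z) {F F' : (PicF.XT (st k X) T).Modules}
    (hF : FlatMod.IsFinLocFree F) (hF' : FlatMod.IsFinLocFree F') (φ : F ⟶ F') :
    (cls.{w} hv hF).comp (Abelian.Ext.mk₀ ((Scheme.Modules.pullback (PicF.XTmap (st k X) z)).map φ)) (add_zero 1) =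
      (Abelian.Ext.mk₀ ((Scheme.Modules.pullback (PicF.XTmap (st k X) z)).map φ)).comp (cls hv hF') (zero_add 1) :=
  ext_nat (dt k X) (PicF.XTmap (st k X) v) (di_v hv) φ (isEM_v hv hF) (isEM_v hv hF')

omit [HasExt.{w} (PicF.XT (st k X) (T0 k)).Modules] in
theorem XTw {T T' T'' : Over (B0 k)} (v : T'' ⟶ T') (o : T' ⟶ T) {v' : T'' ⟶ T} (h : v ≫ o = v') :
    PicF.XTmap (st k X) v ≫ PicF.XTmap (st k X) o = PicF.XTmap (st k X) v' := by
  rw [← XTmap_comp, h]

/-- Naturality of the class in the base. -/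
theorem cls_tr (o : T' ⟶ T) {z' : T0 k ⟶ T'} {v' : Te k ⟶ T'} {v : Te k ⟶ T} (hv' : iT k ≫ v' = z')
    (hz : z' ≫ o = z) (hvo : v' ≫ o = v) (hv : iT k ≫ v = z) {F : (PicF.XT (st k X) T).Modules}
    (hF : FlatMod.IsFinLocFree F)
    (hF' : FlatMod.IsFinLocFree ((Scheme.Modules.pullback (PicF.XTmap (st k X) o)).obj F)) :
    (cls.{w} hv' hF').comp (Abelian.Ext.mk₀ (tr (PicF.XTmap (st k X) z') (PicF.XTmap (st k X) o) (XTw z' o hz) F).hom)
      (add_zero 1) =
    (Abelian.Ext.mk₀ (tr (PicF.XTmap (st k X) z') (PicF.XTmap (st k X) o) (XTw z' o hz) F).hom).comp (cls hv hF)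
      (zero_add 1) :=
  ext_tr (dt k X) (PicF.XTmap (st k X) v') (PicF.XTmap (st k X) o) (di_v hv') (XTw v' o hvo) (XTw z' o hz) (di_v hv) F
    (isEM_v hv' hF') (isEM_v hv hF)

/-- The class of a realized extension. -/
theorem cls_real {v : Te k ⟶ T} (hv : iT k ≫ v = z) {F : (PicF.XT (st k X) T).Modules} (hF : FlatMod.IsFinLocFree F)
    {G : (PicF.XT (st k X) (T0 k)).Modules} {f : pl k X z F ⟶ G} {g : G ⟶ pl k X z F} {w : f ≫ g = 0}
    (hS : (ShortComplex.mk f g w).ShortExact)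
    (hR : Real (dt k X) (PicF.XTmap (st k X) v) (di_v hv) F (g ≫ f) g) : cls.{w} hv hF = hS.extClass :=
  ext_real (dt k X) (PicF.XTmap (st k X) v) (di_v hv) (isEM_v hv hF) hS hR

/-- If admissible deformations of `z^* F` come from points over `z`, every admissible class is the class of a tangent
vector. -/
theorem exists_cls {F : (PicF.XT (st k X) T).Modules} (hF : FlatMod.IsFinLocFree F)
    {G : (PicF.XT (st k X) (T0 k)).Modules} {f : pl k X z F ⟶ G} {g : G ⟶ pl k X z F} {w : f ≫ g = 0}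
    (hS : (ShortComplex.mk f g w).ShortExact)
    (hlift : ∀ ρ : (Scheme.Modules.pullback (dt k X).i).obj ((dt k X).ES (g ≫ f)) ≅ pl k X z F,
      ∃ (v : Te k ⟶ T) (hv : iT k ≫ v = z) (φ : pl k X v F ≅ (dt k X).ES (g ≫ f)),
        (Scheme.Modules.pullback (dt k X).i).map φ.hom ≫ ρ.hom = (rv hv F).hom) :
    ∃ (v : Te k ⟶ T) (hv : iT k ≫ v = z), cls.{w} hv hF = hS.extClass := by
  have h1 : Coh.IsQCoh (pl k X z F) := Groth.Agent.Ega2.QCohLocal.isQCoh_of_isFinLocFree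
    (Groth.Agent.PerfC.PullRestrict.isFinLocFree_pullback _ hF)
  obtain ⟨v, hv, hR⟩ := real_of_lift h1 hS hlift
  exact ⟨v, hv, cls_real hv hF hS hR⟩

omit [HasExt.{w} (PicF.XT (st k X) (T0 k)).Modules] in
omit [X.Over (Spec (CommRingCat.of k))] in
/-- Sums of tangent vectors. -/
theorem exists_add [IsAffine T.left] {v₁ v₂ : Te k ⟶ T} (h₁ : iT k ≫ v₁ = z) (h₂ : iT k ≫ v₂ = z) :
    ∃ (v : Te k ⟶ T) (_ : iT k ≫ v = z), ∀ r, (evE v r).snd = (evE v₁ r).snd + (evE v₂ r).snd := by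
  have hfst : ∀ {v : Te k ⟶ T} (_ : iT k ≫ v = z) (r : Γ(T.left, ⊤)), (evE v r).fst = ev0 z r := by
    intro v hv r
    rw [evE_fst, hv]
  have h0 : ∀ r, (evE v₁ r).fst = (evE v₂ r).fst := fun r => by rw [hfst h₁, hfst h₂]
  obtain ⟨v₀, hv₀⟩ := exists_evA (T := T) (pairHom (evE v₁) (evE v₂) h0) (by
    intro c
    have c₁ : evE v₁ (Coh.toGlobal T.hom c) = algebraMap k (DualNumber k) c := evA_hom v₁ c
    have c₂ : evE v₂ (Coh.toGlobal T.hom c) = algebraMap k (DualNumber k) c := evA_hom v₂ c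
    change TrivSqZeroExt.inl (evE v₁ (Coh.toGlobal T.hom c)).fst +
      TrivSqZeroExt.inr ((evE v₁ (Coh.toGlobal T.hom c)).snd, (evE v₂ (Coh.toGlobal T.hom c)).snd) = _
    rw [c₁, c₂]
    change TrivSqZeroExt.inl c + TrivSqZeroExt.inr ((0 : k), (0 : k)) = TrivSqZeroExt.inl c
    ext <;> simp)
  have hev : ∀ r, evA v₀ r = TrivSqZeroExt.inl (evE v₁ r).fst + TrivSqZeroExt.inr ((evE v₁ r).snd, (evE v₂ r).snd) := by
    intro r
    rw [hv₀]
    rfl
  have hf : ∀ f : k × k →ₗ[k] k, (TrivSqZeroExt.fstHom k k k).comp (pm f) = TrivSqZeroExt.fstHom k k (k × k) :=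
    fun f => AlgHom.ext fun x => TrivSqZeroExt.fst_map f x
  have e₁ : SAmap (pm (LinearMap.fst k k k)) ≫ v₀ = v₁ := evA_ext fun r => by
    rw [evA_comp, hev]
    change _ = evE v₁ r
    ext <;> simp
  refine ⟨SAmap (pm (LinearMap.fst k k k + LinearMap.snd k k k)) ≫ v₀, ?_, fun r => ?_⟩
  · rw [← h₁, ← e₁, iT_eq, ← Category.assoc, ← Category.assoc, iA_SAmap, iA_SAmap, hf, hf]
  · have h1 : evE (SAmap (pm (LinearMap.fst k k k + LinearMap.snd k k k)) ≫ v₀) r =
        pm (LinearMap.fst k k k + LinearMap.snd k k k) (evA v₀ r) := evA_comp _ _ _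
    rw [h1, hev]
    simp

omit [HasExt.{w} (PicF.XT (st k X) (T0 k)).Modules] in
omit [X.Over (Spec (CommRingCat.of k))] in
/-- Multiples of tangent vectors. -/
theorem exists_smul {v : Te k ⟶ T} (h : iT k ≫ v = z) (c : k) :
    ∃ (v' : Te k ⟶ T) (_ : iT k ≫ v' = z), ∀ r, (evE v' r).snd = c * (evE v r).snd := by
  let s : DualNumber k →ₐ[k] DualNumber k := TrivSqZeroExt.map (c • LinearMap.id)
  have hs : (TrivSqZeroExt.fstHom k k k).comp s = TrivSqZeroExt.fstHom k k k :=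
    AlgHom.ext fun x => TrivSqZeroExt.fst_map _ x
  refine ⟨SAmap s ≫ v, ?_, fun r => ?_⟩
  · rw [← Category.assoc, iT_eq, iA_SAmap, hs]
    exact h
  · have h1 : evE (SAmap s ≫ v) r = s (evE v r) := evA_comp _ _ _
    rw [h1]
    simp [s]

/-- The class of a constant tangent vector is zero. -/
theorem cls_zero [IsAffine T.left] {v : Te k ⟶ T} (h : iT k ≫ v = z) (h0 : ∀ r, (evE v r).snd = 0)
    {F : (PicF.XT (st k X) T).Modules} (hF : FlatMod.IsFinLocFree F) : cls.{w} h hF = 0 := by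
  have h1 := cls_add.{w} h h h (fun r => by rw [h0, add_zero]) hF
  exact add_eq_left.1 h1.symm

end XT

end K822.Cls
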