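import Mathlib.Algebra.Homology.DerivedCategory.Ext.ExtClass
import Mathlib.Algebra.Homology.DerivedCategory.Ext.Linear
import Mathlib.CategoryTheory.Abelian.Refinements

/-!
# Objects with an endomorphism `e`, `e² = 0`, and extensions

`IsEM e π`: `π : G ⟶ E` is the quotient by the image of `e : G ⟶ G` and `ker e = im e` (a flat module over `k[ε]` with
`G/εG = E`).
* `IsEM.j : E ⟶ G`, `π ≫ j = e`; `IsEM.shortExact : 0 → E → G → E → 0`; `IsEM.j_comp` naturality.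
* `IsEM.ext : Ext E E 1`, the class of this extension; `ext_natural`, `ext_add`, `ext_smul`, `ext_zero`.
-/

set_option autoImplicit false

universe w v u

open CategoryTheory CategoryTheory.Limits CategoryTheory.Abelian

namespace K822.EMod

variable {C : Type u} [Category.{v} C] [Abelian C]

/-- `π : G ⟶ E` is the quotient by the image of `e : G ⟶ G` and `ker e = im e`. -/
structure IsEM {G E : C} (e : G ⟶ G) (π : G ⟶ E) : Prop where
  epi : Epi π
  w : e ≫ π = 0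
  exact_π : (ShortComplex.mk e π w).Exact
  ee : e ≫ e = 0
  exact_e : (ShortComplex.mk e e ee).Exact

/-- Two cokernels of the same morphism. -/
theorem isIso_of_exact {A G E₁ E₂ : C} {e : A ⟶ G} {π₁ : G ⟶ E₁} {π₂ : G ⟶ E₂} [Epi π₁] [Epi π₂] {w₁ : e ≫ π₁ = 0}
    {w₂ : e ≫ π₂ = 0} (h₁ : (ShortComplex.mk e π₁ w₁).Exact) (h₂ : (ShortComplex.mk e π₂ w₂).Exact)
    (f : E₁ ⟶ E₂) (hf : π₁ ≫ f = π₂) : IsIso f := by
  have h1 : Epi f := by
    have : Epi (π₁ ≫ f) := by rw [hf]; infer_instance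
    exact epi_of_epi π₁ f
  have h2 : Mono f := by
    apply Preadditive.mono_of_cancel_zero
    intro Z z hz
    obtain ⟨Z', p, hp, x, hx⟩ := surjective_up_to_refinements_of_epi π₁ z
    have h3 : x ≫ π₂ = 0 := by rw [← hf, ← Category.assoc, ← hx, Category.assoc, hz, comp_zero]
    obtain ⟨Z2, p2, hp2, y, hy⟩ := h₂.exact_up_to_refinements x h3
    simp only at hy
    have h4 : (p2 ≫ p) ≫ z = 0 := by
      rw [Category.assoc, hx, ← Category.assoc, hy, Category.assoc, w₁, comp_zero]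
    have : Epi (p2 ≫ p) := epi_comp _ _
    rw [← cancel_epi (p2 ≫ p), h4, comp_zero]
  exact isIso_of_mono_of_epi f

/-- Transport of exactness along isomorphisms. -/
theorem exact_congr {A B D A' B' D' : C} {f : A ⟶ B} {g : B ⟶ D} {f' : A' ⟶ B'} {g' : B' ⟶ D'} {w : f ≫ g = 0}
    {w' : f' ≫ g' = 0} (h : (ShortComplex.mk f g w).Exact) (a : A ≅ A') (b : B ≅ B') (d : D ≅ D')
    (h1 : f ≫ b.hom = a.hom ≫ f') (h2 : g ≫ d.hom = b.hom ≫ g') : (ShortComplex.mk f' g' w').Exact :=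
  (ShortComplex.exact_iff_of_iso (ShortComplex.isoMk a b d h1.symm h2.symm)).1 h

namespace IsEM

variable {G E : C} {e : G ⟶ G} {π : G ⟶ E} (H : IsEM e π)

/-- The inclusion `E ⟶ G`, "multiplication by `ε`". -/
noncomputable def j : E ⟶ G :=
  have := H.epi
  H.exact_π.desc e H.ee

@[reassoc]
theorem π_j : π ≫ H.j = e :=
  have := H.epi
  H.exact_π.g_desc e H.ee

theorem j_unique {j' : E ⟶ G} (h : π ≫ j' = e) : j' = H.j := by
  have := H.epi
  rw [← cancel_epi π, h, H.π_j]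

@[reassoc]
theorem j_π : H.j ≫ π = 0 := by
  have := H.epi
  rw [← cancel_epi π, H.π_j_assoc, H.w, comp_zero]

@[reassoc]
theorem j_e : H.j ≫ e = 0 := by
  have := H.epi
  rw [← cancel_epi π, H.π_j_assoc, H.ee, comp_zero]

/-- The extension `0 → E → G → E → 0`. -/
noncomputable abbrev sc : ShortComplex C := ShortComplex.mk H.j π H.j_π

theorem shortExact : H.sc.ShortExact := by
  have := H.epi
  refine { exact := ?_, mono_f := ?_, epi_g := H.epi }
  · rw [ShortComplex.exact_iff_exact_up_to_refinements]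
    intro A x hx
    obtain ⟨A', p, hp, y, hy⟩ := H.exact_π.exact_up_to_refinements x hx
    simp only at hy
    refine ⟨A', p, hp, y ≫ π, ?_⟩
    simp only
    rw [hy, Category.assoc, H.π_j]
  · apply Preadditive.mono_of_cancel_zero
    intro Z z hz
    obtain ⟨Z', p, hp, x, hx⟩ := surjective_up_to_refinements_of_epi π z
    have h1 : x ≫ e = 0 := by
      rw [← H.π_j, ← Category.assoc, ← hx, Category.assoc]
      exact (congrArg (p ≫ ·) hz).trans comp_zero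
    obtain ⟨Z2, p2, hp2, y, hy⟩ := H.exact_e.exact_up_to_refinements x h1
    simp only at hy
    have h2 : (p2 ≫ p) ≫ z = 0 := by
      rw [Category.assoc, hx, ← Category.assoc, hy, Category.assoc, H.w, comp_zero]
    have : Epi (p2 ≫ p) := epi_comp _ _
    rw [← cancel_epi (p2 ≫ p), h2, comp_zero]

theorem mono_j : Mono H.j := H.shortExact.mono_f

variable {G' E' : C} {e' : G' ⟶ G'} {π' : G' ⟶ E'} (H' : IsEM e' π')

@[reassoc]
theorem j_comp {φ : G ⟶ G'} {ψ : E ⟶ E'} (h1 : e ≫ φ = φ ≫ e') (h2 : π ≫ ψ = φ ≫ π') :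
    H.j ≫ φ = ψ ≫ H'.j := by
  have := H.epi
  rw [← cancel_epi π, H.π_j_assoc, h1, ← Category.assoc π, h2, Category.assoc, H'.π_j]

/-- The morphism of extensions given by a morphism of `ε`-modules. -/
noncomputable abbrev hom {φ : G ⟶ G'} {ψ : E ⟶ E'} (h1 : e ≫ φ = φ ≫ e') (h2 : π ≫ ψ = φ ≫ π') : H.sc ⟶ H'.sc where
  τ₁ := ψ
  τ₂ := φ
  τ₃ := ψ
  comm₁₂ := (H.j_comp H' h1 h2).symm
  comm₂₃ := h2.symm

include H in
/-- Transport of the structure along an isomorphism of the quotient. -/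
theorem of_iso {E₂ : C} (f : E ⟶ E₂) [IsIso f] : IsEM e (π ≫ f) where
  epi := have := H.epi; epi_comp _ _
  w := by rw [← Category.assoc, H.w, zero_comp]
  exact_π := by
    rw [ShortComplex.exact_iff_exact_up_to_refinements]
    intro A x hx
    simp only at hx
    rw [← Category.assoc] at hx
    exact H.exact_π.exact_up_to_refinements x ((cancel_mono f).1 (hx.trans zero_comp.symm))
  ee := H.ee
  exact_e := H.exact_e

/-- The extension attached to a short exact sequence with equal ends. -/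
theorem of_shortExact {j : E ⟶ G} {π : G ⟶ E} {w : j ≫ π = 0} (hS : (ShortComplex.mk j π w).ShortExact) :
    IsEM (π ≫ j) π where
  epi := hS.epi_g
  w := by rw [Category.assoc, w, comp_zero]
  exact_π := by
    rw [ShortComplex.exact_iff_exact_up_to_refinements]
    intro A x hx
    obtain ⟨A', p, hp, y, hy⟩ := hS.exact.exact_up_to_refinements x hx
    simp only at hy
    have := hS.epi_g
    obtain ⟨A2, p2, hp2, z, hz⟩ := surjective_up_to_refinements_of_epi π y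
    refine ⟨A2, p2 ≫ p, epi_comp _ _, z, ?_⟩
    simp only
    rw [Category.assoc, hy, ← Category.assoc, hz, Category.assoc]
  ee := by rw [Category.assoc, ← Category.assoc j, w, zero_comp, comp_zero]
  exact_e := by
    rw [ShortComplex.exact_iff_exact_up_to_refinements]
    intro A x hx
    simp only at hx
    have hm : Mono j := hS.mono_f
    have hx1 : x ≫ π = 0 := by
      rw [← cancel_mono j, Category.assoc]
      exact hx.trans zero_comp.symm
    obtain ⟨A', p, hp, y, hy⟩ := hS.exact.exact_up_to_refinements x hx1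
    simp only at hy
    have := hS.epi_g
    obtain ⟨A2, p2, hp2, z, hz⟩ := surjective_up_to_refinements_of_epi π y
    refine ⟨A2, p2 ≫ p, epi_comp _ _, z, ?_⟩
    simp only
    rw [Category.assoc, hy, ← Category.assoc, hz, Category.assoc]

/-- The third column of a diagram of `ε`-modules is an `ε`-module. -/
theorem of_row {K P Q K₀ P₀ Q₀ : C} {eK : K ⟶ K} {πK : K ⟶ K₀} (HK : IsEM eK πK) {eP : P ⟶ P} {πP : P ⟶ P₀}
    (HP : IsEM eP πP) {eQ : Q ⟶ Q} {πQ : Q ⟶ Q₀} (hQ : Epi πQ) (wQ : eQ ≫ πQ = 0)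
    (exQ : (ShortComplex.mk eQ πQ wQ).Exact) (eeQ : eQ ≫ eQ = 0) {a : K ⟶ P} {b : P ⟶ Q} {w : a ≫ b = 0}
    (hex : (ShortComplex.mk a b w).Exact) [Epi b] {a₀ : K₀ ⟶ P₀} [Mono a₀] (h1 : eK ≫ a = a ≫ eP)
    (h2 : eP ≫ b = b ≫ eQ) (h3 : πK ≫ a₀ = a ≫ πP) : IsEM eQ πQ where
  epi := hQ
  w := wQ
  exact_π := exQ
  ee := eeQ
  exact_e := by
    rw [ShortComplex.exact_iff_exact_up_to_refinements]
    intro A x hx
    simp only at hx
    obtain ⟨A₁, p₁, hp₁, y, hy⟩ := surjective_up_to_refinements_of_epi b x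
    have e1 : (y ≫ eP) ≫ b = 0 := by
      rw [Category.assoc, h2, ← Category.assoc, ← hy, Category.assoc, hx, comp_zero]
    obtain ⟨A₂, p₂, hp₂, z, hz⟩ := hex.exact_up_to_refinements (y ≫ eP) e1
    simp only at hz
    have e2 : z ≫ πK = 0 := by
      rw [← cancel_mono a₀, Category.assoc, h3, ← Category.assoc, ← hz, Category.assoc, Category.assoc, HP.w,
        comp_zero, comp_zero, zero_comp]
    obtain ⟨A₃, p₃, hp₃, z', hz'⟩ := HK.exact_π.exact_up_to_refinements z e2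
    simp only at hz'
    have e3 : (p₃ ≫ p₂ ≫ y - z' ≫ a) ≫ eP = 0 := by
      rw [Preadditive.sub_comp, Category.assoc, Category.assoc, Category.assoc, hz, ← h1, ← Category.assoc p₃, hz',
        Category.assoc, sub_self]
    obtain ⟨A₄, p₄, hp₄, y', hy'⟩ := HP.exact_e.exact_up_to_refinements _ e3
    simp only at hy'
    refine ⟨A₄, p₄ ≫ p₃ ≫ p₂ ≫ p₁, ?_, y' ≫ b, ?_⟩
    · have := epi_comp p₂ p₁
      have := epi_comp p₃ (p₂ ≫ p₁)
      exact epi_comp _ _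
    · have e4 : (y' ≫ b) ≫ eQ = p₄ ≫ (p₃ ≫ p₂ ≫ y) ≫ b := by
        rw [Category.assoc, ← h2, ← Category.assoc, ← hy', Category.assoc, Preadditive.sub_comp, Category.assoc z', w,
          comp_zero, sub_zero]
      simp only
      rw [e4]
      simp only [Category.assoc, hy]

section Ext

variable [HasExt.{w} C]

/-- The class of the extension `0 → E → G → E → 0`. -/
noncomputable def ext : Ext.{w} E E 1 := H.shortExact.extClass

theorem ext_natural {φ : G ⟶ G'} {ψ : E ⟶ E'} (h1 : e ≫ φ = φ ≫ e') (h2 : π ≫ ψ = φ ≫ π') :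
    H.ext.comp (Ext.mk₀ ψ) (add_zero 1) = (Ext.mk₀ ψ).comp H'.ext (zero_add 1) :=
  ShortComplex.ShortExact.extClass_naturality H.shortExact H'.shortExact (H.hom H' h1 h2)

/-- Isomorphic `ε`-modules over the same `E` have the same class. -/
theorem ext_eq {e' : G' ⟶ G'} {π' : G' ⟶ E} (H' : IsEM e' π') {φ : G ⟶ G'} (h1 : e ≫ φ = φ ≫ e')
    (h2 : π = φ ≫ π') : H.ext = H'.ext := by
  have h := H.ext_natural H' (φ := φ) (ψ := 𝟙 E) h1 (by rw [Category.comp_id, h2])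
  rwa [Ext.comp_mk₀_id, Ext.mk₀_id_comp] at h

/-- The class of an extension which is the push-out of another. -/
theorem _root_.K822.EMod.ext_push {K P Q K' P' : C} {f : K ⟶ P} {g : P ⟶ Q} {w : f ≫ g = 0}
    {f' : K' ⟶ P'} {g' : P' ⟶ Q} {w' : f' ≫ g' = 0} (hS : (ShortComplex.mk f g w).ShortExact)
    (hT : (ShortComplex.mk f' g' w').ShortExact) (κ : K ⟶ K') (φ : P ⟶ P') (h1 : f ≫ φ = κ ≫ f')
    (h2 : φ ≫ g' = g) :
    (hT.extClass : Ext.{w} Q K' 1) = (hS.extClass).comp (Ext.mk₀ κ) (add_zero 1) := by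
  have h := ShortComplex.ShortExact.extClass_naturality hS hT
    { τ₁ := κ
      τ₂ := φ
      τ₃ := 𝟙 Q
      comm₁₂ := h1.symm
      comm₂₃ := by simp [h2] }
  dsimp at h
  rw [Ext.mk₀_id_comp] at h
  exact h.symm

/-- Additivity of the class: `G` is a module over `k[ε₁, ε₂]/(ε₁, ε₂)²`, `G₁, G₂, G₃` its specialisations at
`(ε, 0)`, `(0, ε)`, `(ε, ε)`. -/
theorem ext_add {G₀ G₁ G₂ G₃ : C} {E : C} {π₀ : G₀ ⟶ E} [Epi π₀] {u₁ u₂ : G₀ ⟶ G₀}
    {e₁ : G₁ ⟶ G₁} {π₁ : G₁ ⟶ E} (H₁ : IsEM e₁ π₁) {e₂ : G₂ ⟶ G₂} {π₂ : G₂ ⟶ E} (H₂ : IsEM e₂ π₂)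
    {e₃ : G₃ ⟶ G₃} {π₃ : G₃ ⟶ E} (H₃ : IsEM e₃ π₃) (α₁ : G₀ ⟶ G₁) (α₂ : G₀ ⟶ G₂) (α₃ : G₀ ⟶ G₃)
    (p₁ : α₁ ≫ π₁ = π₀) (p₂ : α₂ ≫ π₂ = π₀) (p₃ : α₃ ≫ π₃ = π₀)
    (w : biprod.desc u₁ u₂ ≫ π₀ = 0) (hex : (ShortComplex.mk (biprod.desc u₁ u₂) π₀ w).Exact)
    (h₁₁ : u₁ ≫ α₁ = α₁ ≫ e₁) (h₂₁ : u₂ ≫ α₁ = 0) (h₁₂ : u₁ ≫ α₂ = 0) (h₂₂ : u₂ ≫ α₂ = α₂ ≫ e₂)
    (h₁₃ : u₁ ≫ α₃ = α₃ ≫ e₃) (h₂₃ : u₂ ≫ α₃ = α₃ ≫ e₃) :
    (H₃.ext : Ext.{w} E E 1) = H₁.ext + H₂.ext := by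
  have hS : (ShortComplex.mk (kernel.ι π₀) π₀ (kernel.condition _)).ShortExact :=
    { exact := ShortComplex.exact_kernel _
      mono_f := inferInstance
      epi_g := inferInstance }
  -- induced maps on the kernel
  have key : ∀ {G : C} {e : G ⟶ G} {π : G ⟶ E} (H : IsEM e π) (α : G₀ ⟶ G), α ≫ π = π₀ →
      ∃ κ : kernel π₀ ⟶ E, kernel.ι π₀ ≫ α = κ ≫ H.j := by
    intro G e π H α hα
    have hm := H.mono_j
    have h0 : (kernel.ι π₀ ≫ α) ≫ π = 0 := by rw [Category.assoc, hα, kernel.condition]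
    exact ⟨H.shortExact.exact.lift _ h0, (H.shortExact.exact.lift_f _ h0).symm⟩
  obtain ⟨κ₁, hκ₁⟩ := key H₁ α₁ p₁
  obtain ⟨κ₂, hκ₂⟩ := key H₂ α₂ p₂
  obtain ⟨κ₃, hκ₃⟩ := key H₃ α₃ p₃
  have hm₁ := H₁.mono_j
  have hm₂ := H₂.mono_j
  have hm₃ := H₃.mono_j
  have hw₁ : u₁ ≫ π₀ = 0 := by
    have := congrArg (biprod.inl ≫ ·) w
    simpa using this
  have hw₂ : u₂ ≫ π₀ = 0 := by
    have := congrArg (biprod.inr ≫ ·) w
    simpa using this
  let d₁ : G₀ ⟶ kernel π₀ := kernel.lift π₀ u₁ hw₁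
  let d₂ : G₀ ⟶ kernel π₀ := kernel.lift π₀ u₂ hw₂
  have hd₁ : d₁ ≫ kernel.ι π₀ = u₁ := kernel.lift_ι _ _ _
  have hd₂ : d₂ ≫ kernel.ι π₀ = u₂ := kernel.lift_ι _ _ _
  have hepi : Epi (biprod.desc d₁ d₂) := by
    have h1 := hex.epi_kernelLift
    have h2 : kernel.lift π₀ (biprod.desc u₁ u₂) w = biprod.desc d₁ d₂ := by
      apply biprod.hom_ext'
      · rw [biprod.inl_desc, ← cancel_mono (kernel.ι π₀), Category.assoc, kernel.lift_ι, biprod.inl_desc, hd₁]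
      · rw [biprod.inr_desc, ← cancel_mono (kernel.ι π₀), Category.assoc, kernel.lift_ι, biprod.inr_desc, hd₂]
    rw [← h2]
    exact h1
  have c₁₁ : d₁ ≫ κ₁ = π₀ := by
    rw [← cancel_mono H₁.j, Category.assoc, ← hκ₁, ← Category.assoc, hd₁, h₁₁, ← p₁, Category.assoc, H₁.π_j]
  have c₂₁ : d₂ ≫ κ₁ = 0 := by
    rw [← cancel_mono H₁.j, Category.assoc, ← hκ₁, ← Category.assoc, hd₂, h₂₁, zero_comp]
  have c₁₂ : d₁ ≫ κ₂ = 0 := by
    rw [← cancel_mono H₂.j, Category.assoc, ← hκ₂, ← Category.assoc, hd₁, h₁₂, zero_comp]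
  have c₂₂ : d₂ ≫ κ₂ = π₀ := by
    rw [← cancel_mono H₂.j, Category.assoc, ← hκ₂, ← Category.assoc, hd₂, h₂₂, ← p₂, Category.assoc, H₂.π_j]
  have c₁₃ : d₁ ≫ κ₃ = π₀ := by
    rw [← cancel_mono H₃.j, Category.assoc, ← hκ₃, ← Category.assoc, hd₁, h₁₃, ← p₃, Category.assoc, H₃.π_j]
  have c₂₃ : d₂ ≫ κ₃ = π₀ := by
    rw [← cancel_mono H₃.j, Category.assoc, ← hκ₃, ← Category.assoc, hd₂, h₂₃, ← p₃, Category.assoc, H₃.π_j]
  have hκ : κ₃ = κ₁ + κ₂ := by
    rw [← cancel_epi (biprod.desc d₁ d₂)]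
    apply biprod.hom_ext'
    · rw [biprod.inl_desc_assoc, biprod.inl_desc_assoc, c₁₃, Preadditive.comp_add, c₁₁, c₁₂, add_zero]
    · rw [biprod.inr_desc_assoc, biprod.inr_desc_assoc, c₂₃, Preadditive.comp_add, c₂₁, c₂₂, zero_add]
  have e₁' := ext_push.{w} hS H₁.shortExact κ₁ α₁ hκ₁ p₁
  have e₂' := ext_push.{w} hS H₂.shortExact κ₂ α₂ hκ₂ p₂
  have e₃' := ext_push.{w} hS H₃.shortExact κ₃ α₃ hκ₃ p₃
  change H₃.shortExact.extClass = H₁.shortExact.extClass + H₂.shortExact.extClass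
  rw [e₁', e₂', e₃', hκ, Ext.mk₀_add, Ext.comp_add]

/-- A map of extensions over `E` which multiplies `ε` by `c`. -/
theorem ext_smul {E : C} {π : G ⟶ E} (H : IsEM e π) {π' : G' ⟶ E} (H' : IsEM e' π') (c : E ⟶ E) (φ : G ⟶ G')
    (c' : G' ⟶ G') (h1 : e ≫ φ = φ ≫ c' ≫ e') (hc : c' ≫ π' = π' ≫ c) (h2 : φ ≫ π' = π) :
    (H'.ext : Ext.{w} E E 1) = H.ext.comp (Ext.mk₀ c) (add_zero 1) := by
  have := H.epi
  refine ext_push.{w} H.shortExact H'.shortExact c φ ?_ h2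
  have e1 : c' ≫ e' = π' ≫ c ≫ H'.j := by rw [← Category.assoc, ← hc, Category.assoc, H'.π_j]
  rw [← cancel_epi π, H.π_j_assoc, h1, e1, ← Category.assoc, h2]

/-- A section of `π` kills the class. -/
theorem ext_eq_zero (s : E ⟶ G) (hs : s ≫ π = 𝟙 E) : (H.ext : Ext.{w} E E 1) = 0 := by
  have h1 : (Ext.mk₀ π).comp (H.shortExact.extClass : Ext.{w} E E 1) (zero_add 1) = 0 := H.shortExact.comp_extClass
  change (H.shortExact.extClass : Ext.{w} E E 1) = 0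
  rw [← Ext.mk₀_id_comp (H.shortExact.extClass : Ext.{w} E E 1), ← hs, ← Ext.mk₀_comp_mk₀_assoc, h1, Ext.comp_zero]

end Ext

end IsEM

end K822.EMod
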