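import Groth.Agent.BunMod.K822.Eps
import Groth.Agent.BunMod.K822.EMod
import Groth.Agent.Deform.K682.DualDat

/-!
# Modules on `Y = X ×_k k[ε]` as modules with an endomorphism on `X`

* `DT k X Y`: `Y = X ×_k k[ε]` with the projection `q` and the closed immersion `i`.
* `DT.EFlat M`: `ε M = ker ε`; `eFlat_of_isFinLocFree`.
* `DT.isEM`: for `M` quasi-coherent and flat, `ρ : i^* M ≅ E`, the module `q_* M` with `ε` and `q_* M ⟶ E` is an
  `ε`-module (`K822.EMod.IsEM`); in particular `0 → E → q_* M → E → 0` is exact.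
-/

set_option autoImplicit false

universe u

open CategoryTheory CategoryTheory.Limits AlgebraicGeometry TopologicalSpace Opposite

namespace K822

open Groth.Agent.Sga67.Sec Groth.Agent.Krr.H487.LocBasisPull Groth.Agent.Sga67.LocBasis
open Groth.Agent.LoccohB.HHmap (smulHom smulHom_comp smulHom_app)
open K822.Eps K822.EMod

/-- `Y = X ×_k k[ε]`. -/
structure DT (k : Type u) [Field k] (X Y : Scheme.{u}) where
  /-- the structure morphism of `X` -/
  x : X ⟶ Spec (CommRingCat.of k)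
  /-- the structure morphism of `Y` -/
  y : Y ⟶ Spec (CommRingCat.of (DualNumber k))
  /-- the projection -/
  q : Y ⟶ X
  /-- the closed immersion -/
  i : X ⟶ Y
  sq : IsPullback q y x (Spec.map (CommRingCat.ofHom (algebraMap k (DualNumber k))))
  iq : i ≫ q = 𝟙 X
  iy : i ≫ y = x ≫ Spec.map (CommRingCat.ofHom (TrivSqZeroExt.fstHom k k k).toRingHom)

namespace DT

variable {k : Type u} [Field k] {X Y : Scheme.{u}} (D : DT k X Y)

theorem sqi : IsPullback D.i D.x D.y (Spec.map (CommRingCat.ofHom (TrivSqZeroExt.fstHom k k k).toRingHom)) :=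
  K682.DualDat.isPullback_i D.sq D.i D.iq D.iy

theorem isAffineHom_q : IsAffineHom D.q := by
  have h : IsAffineHom (Spec.map (CommRingCat.ofHom (algebraMap k (DualNumber k)))) := inferInstance
  exact MorphismProperty.of_isPullback D.sq.flip h

theorem i_q (y : Y) : D.i (D.q y) = y := K682.DualDat.i_q D.sq D.i D.iq D.iy y

/-- The function `ε`. -/
noncomputable def ep : Γ(Y, ⊤) := fn D.y DualNumber.eps

theorem fst_surjective (k : Type u) [Field k] : Function.Surjective (TrivSqZeroExt.fstHom k k k).toRingHom :=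
  fun c => ⟨TrivSqZeroExt.inl c, rfl⟩

theorem ker_fst (k : Type u) [Field k] : RingHom.ker (TrivSqZeroExt.fstHom k k k).toRingHom =
    Ideal.span (Set.range fun _ : Fin 1 => (DualNumber.eps : DualNumber k)) := by
  ext z
  rw [RingHom.mem_ker, Set.range_const, Ideal.mem_span_singleton']
  constructor
  · intro h
    refine ⟨TrivSqZeroExt.inl z.snd, ?_⟩
    apply TrivSqZeroExt.ext
    · have h' : z.fst = 0 := h
      simp [h']
    · simp
  · rintro ⟨a, rfl⟩
    change (a * DualNumber.eps).fst = 0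
    simp

theorem eps_eps : D.ep * D.ep = 0 := by
  rw [ep, ← map_mul, DualNumber.eps_mul_eps, map_zero]

theorem smul_comp_smul (M : Y.Modules) (r s : Γ(Y, ⊤)) : smulHom M r ≫ smulHom M s = smulHom M (s * r) := by
  apply hom_ext
  intro V t
  rw [appS_comp, appS_smulHom, appS_smulHom, appS_smulHom, smul_smul, map_mul]

theorem smulHom_zero (M : Y.Modules) : smulHom M (0 : Γ(Y, ⊤)) = 0 := by
  apply hom_ext
  intro V t
  rw [appS_smulHom, map_zero, zero_smul]
  rfl

/-- `ε` on `M`. -/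
noncomputable abbrev eM (M : Y.Modules) : M ⟶ M := smulHom M D.ep

theorem eM_eM (M : Y.Modules) : D.eM M ≫ D.eM M = 0 := by
  rw [smul_comp_smul, D.eps_eps, smulHom_zero]

/-- `M` is flat over `k[ε]`: `ker ε = im ε`. -/
def EFlat (M : Y.Modules) : Prop := (ShortComplex.mk (D.eM M) (D.eM M) (D.eM_eM M)).Exact

/-- `ε` on `q_* M`. -/
noncomputable abbrev eq (M : Y.Modules) : (Scheme.Modules.pushforward D.q).obj M ⟶ (Scheme.Modules.pushforward D.q).obj M :=
  (Scheme.Modules.pushforward D.q).map (D.eM M)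

include D in
theorem preimage_q_i (V : Y.Opens) : D.q ⁻¹ᵁ (D.i ⁻¹ᵁ V) = V := by
  ext y
  change D.i (D.q y) ∈ V ↔ y ∈ V
  rw [D.i_q]

/-- Direct image along `q` is exact. -/
theorem exact_push {A B C : Y.Modules} {f : A ⟶ B} {g : B ⟶ C} {w : f ≫ g = 0}
    (hS : (ShortComplex.mk f g w).Exact)
    (w' : (Scheme.Modules.pushforward D.q).map f ≫ (Scheme.Modules.pushforward D.q).map g = 0) :
    (ShortComplex.mk ((Scheme.Modules.pushforward D.q).map f) ((Scheme.Modules.pushforward D.q).map g) w').Exact := by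
  apply exact_of_locally
  intro U s hs z hz
  have hz' : D.i z ∈ D.q ⁻¹ᵁ U := by
    change D.q (D.i z) ∈ U
    have : D.q (D.i z) = (D.i ≫ D.q) z := rfl
    rw [this, D.iq]
    exact hz
  obtain ⟨W, hW, hzW, t, ht⟩ := exists_locally_of_exact hS (U := D.q ⁻¹ᵁ U) s hs (D.i z) hz'
  have hWe := D.preimage_q_i W
  have hU : D.i ⁻¹ᵁ W ≤ U := by
    intro z' hz'
    have h1 : D.i z' ∈ D.q ⁻¹ᵁ U := hW hz'
    have h2 : D.q (D.i z') ∈ U := h1
    have h3 : D.q (D.i z') = (D.i ≫ D.q) z' := rfl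
    rw [h3, D.iq] at h2
    exact h2
  refine ⟨D.i ⁻¹ᵁ W, hU, hzW, res A hWe.le t, ?_⟩
  have h4 : appS f (D.q ⁻¹ᵁ (D.i ⁻¹ᵁ W)) (res A hWe.le t) = res B (D.q.preimage_mono hU) s := by
    rw [appS_res]
    have ht' : appS f W t = res B hW s := ht
    rw [ht', res_res]
  exact h4

theorem epi_push {A B : Y.Modules} (f : A ⟶ B) [Epi f] : Epi ((Scheme.Modules.pushforward D.q).map f) := by
  have h0 : f ≫ (0 : B ⟶ B) = 0 := comp_zero
  have h1 : (ShortComplex.mk f (0 : B ⟶ B) h0).Exact := (ShortComplex.exact_iff_epi _ rfl).2 inferInstance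
  have h2 : (Scheme.Modules.pushforward D.q).map f ≫ (Scheme.Modules.pushforward D.q).map (0 : B ⟶ B) = 0 := by
    rw [← Functor.map_comp, h0, Functor.map_zero]
  have h3 := D.exact_push h1 h2
  exact (ShortComplex.exact_iff_epi _ ((Scheme.Modules.pushforward D.q).map_zero _ _)).1 h3

theorem eq_red {M : Y.Modules} {E : X.Modules} (ρ : (Scheme.Modules.pullback D.i).obj M ⟶ E) :
    D.eq M ≫ red D.q D.i D.iq ρ = 0 := by
  have h1 := smul_red (a := (TrivSqZeroExt.fstHom k k k).toRingHom) D.q D.i D.iq D.sqi ρ DualNumber.eps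
  have h2 : (TrivSqZeroExt.fstHom k k k).toRingHom (DualNumber.eps : DualNumber k) = 0 := rfl
  rw [h2, map_zero, smulHom_zero, comp_zero] at h1
  exact h1

theorem exact_red {M : Y.Modules} (hM : Coh.IsQCoh M) {E : X.Modules}
    (ρ : (Scheme.Modules.pullback D.i).obj M ⟶ E) [IsIso ρ] :
    (ShortComplex.mk (D.eq M) (red D.q D.i D.iq ρ) (D.eq_red ρ)).Exact := by
  have hq := D.isAffineHom_q
  apply exact_of_locally
  intro U s hs z hz
  obtain ⟨_, ⟨V, hV, rfl⟩, hzV, hVU⟩ := X.isBasis_affineOpens.exists_subset_of_mem_open hz U.isOpen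
  have hs' : appS (red D.q D.i D.iq ρ) V (res M (D.q.preimage_mono hVU) s) = 0 := by
    have h1 := appS_res (red D.q D.i D.iq ρ) hVU s
    have h2 : appS (red D.q D.i D.iq ρ) U s = 0 := hs
    rw [h2, map_zero] at h1
    exact h1
  obtain ⟨c, hc⟩ := exists_red_eq_zero D.q D.i D.iq (fst_surjective k) D.sqi (ker_fst k) hM ρ hV _ hs'
  refine ⟨V, hVU, hzV, c 0, ?_⟩
  rw [Fin.sum_univ_one] at hc
  exact hc.symm

theorem epi_red' {M : Y.Modules} (hM : Coh.IsQCoh M) {E : X.Modules}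
    (ρ : (Scheme.Modules.pullback D.i).obj M ⟶ E) [IsIso ρ] : Epi (red D.q D.i D.iq ρ) :=
  have := D.isAffineHom_q
  epi_red D.q D.i D.iq (fst_surjective k) D.sqi hM ρ

theorem eq_eq (M : Y.Modules) : D.eq M ≫ D.eq M = 0 := by
  rw [← Functor.map_comp, D.eM_eM, Functor.map_zero]

/-- The `ε`-module on `X` attached to a module on `Y`. -/
theorem isEM {M : Y.Modules} (hM : Coh.IsQCoh M) (hf : D.EFlat M) {E : X.Modules}
    (ρ : (Scheme.Modules.pullback D.i).obj M ⟶ E) [IsIso ρ] : IsEM (D.eq M) (red D.q D.i D.iq ρ) where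
  epi := D.epi_red' hM ρ
  w := D.eq_red ρ
  exact_π := D.exact_red hM ρ
  ee := D.eq_eq M
  exact_e := D.exact_push hf (D.eq_eq M)

theorem mem_preimage_i {z : X} {U : X.Opens} (hz : z ∈ U) : D.i z ∈ D.q ⁻¹ᵁ U := by
  change (D.i ≫ D.q) z ∈ U
  rw [D.iq]
  exact hz

theorem of_mem_preimage_i {z : X} {U : X.Opens} (hz : D.i z ∈ D.q ⁻¹ᵁ U) : z ∈ U := by
  change (D.i ≫ D.q) z ∈ U at hz
  rw [D.iq] at hz
  exact hz

/-- Direct image along `q` reflects exactness. -/
theorem exact_of_push {A B C : Y.Modules} {f : A ⟶ B} {g : B ⟶ C} {w : f ≫ g = 0}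
    {w' : (Scheme.Modules.pushforward D.q).map f ≫ (Scheme.Modules.pushforward D.q).map g = 0}
    (hS : (ShortComplex.mk ((Scheme.Modules.pushforward D.q).map f) ((Scheme.Modules.pushforward D.q).map g) w').Exact) :
    (ShortComplex.mk f g w).Exact := by
  apply exact_of_locally
  intro U s hs z hz
  have hU := D.preimage_q_i U
  have hz' : D.q z ∈ D.i ⁻¹ᵁ U := by
    change D.i (D.q z) ∈ U
    rw [D.i_q]
    exact hz
  have hs' : appS g (D.q ⁻¹ᵁ (D.i ⁻¹ᵁ U)) (res B hU.le s) = 0 := by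
    have h2 : appS g U s = 0 := hs
    rw [appS_res, h2, map_zero]
  obtain ⟨W, hW, hzW, t, ht⟩ := exists_locally_of_exact hS (U := D.i ⁻¹ᵁ U) (res B hU.le s) hs' (D.q z) hz'
  have ht' : appS f (D.q ⁻¹ᵁ W) t = res B (D.q.preimage_mono hW) (res B hU.le s) := ht
  refine ⟨D.q ⁻¹ᵁ W, (D.q.preimage_mono hW).trans hU.le, hzW, t, ?_⟩
  rw [res_res] at ht'
  exact ht'

/-- The data of `K682`. -/
noncomputable def dat : K682.DualThick.Dat X Y := K682.DualDat.dat D.sq D.i D.iq D.iy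

theorem appTop_i_ep : D.i.appTop D.ep = 0 := D.dat.hie

theorem exists_eps_mul (V : Y.Opens) (c : Γ(Y, V)) (hc : resO Y (le_top : V ≤ ⊤) D.ep * c = 0) :
    ∃ b : Γ(Y, V), c = resO Y (le_top : V ≤ ⊤) D.ep * b := by
  obtain ⟨b, hb⟩ := D.dat.decomp V c
  have he : D.dat.eV V = resO Y (le_top : V ≤ ⊤) D.ep := rfl
  have h1 : D.dat.qL V 0 + D.dat.qL V (D.dat.iA V c) * D.dat.eV V = D.dat.qL V 0 + D.dat.qL V 0 * D.dat.eV V := by
    rw [map_zero, zero_mul, zero_add, add_zero]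
    have h2 : D.dat.eV V * c = 0 := by rw [he, hc]
    rw [hb, mul_add, mul_left_comm, D.dat.eV_sq, mul_zero, add_zero, mul_comm] at h2
    exact h2
  have h3 := (D.dat.bij' V).1 (a₁ := (0, D.dat.iA V c)) (a₂ := (0, 0)) h1
  have h4 : D.dat.iA V c = 0 := congrArg Prod.snd h3
  refine ⟨D.dat.qL V b, ?_⟩
  conv_lhs => rw [hb]
  rw [h4, map_zero, zero_add, mul_comm, he]

theorem eFlat_of_isFinLocFree {M : Y.Modules} (hM : FlatMod.IsFinLocFree M) : D.EFlat M := by
  apply exact_of_locally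
  intro U s hs z hz
  obtain ⟨W, n, hzW, b, hb⟩ := (isFinLocFree_iff M).1 hM z
  have hVU : W ⊓ U ≤ U := inf_le_right
  have hVW : W ⊓ U ≤ W := inf_le_left
  refine ⟨W ⊓ U, hVU, ⟨hzW, hz⟩, ?_⟩
  obtain ⟨a, ha⟩ := (hb (W ⊓ U) hVW).2 (res M hVU s)
  have hs' : appS (D.eM M) (W ⊓ U) (res M hVU s) = 0 := by
    have h1 := appS_res (D.eM M) hVU s
    have h2 : appS (D.eM M) U s = 0 := hs
    rw [h2, map_zero] at h1
    exact h1
  rw [appS_smulHom, ← ha, ← map_smul] at hs'
  have h3 := (hb (W ⊓ U) hVW).1 (hs'.trans (map_zero _).symm)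
  have h4 : ∀ i, resO Y (le_top : W ⊓ U ≤ ⊤) D.ep * a i = 0 := fun i => congrFun h3 i
  choose c hc using fun i => D.exists_eps_mul (W ⊓ U) (a i) (h4 i)
  refine ⟨comb b hVW c, ?_⟩
  change appS (D.eM M) (W ⊓ U) (comb b hVW c) = res M hVU s
  rw [appS_smulHom, ← map_smul, ← ha]
  congr 1
  funext i
  exact (hc i).symm

end DT

end K822
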