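import Groth.Agent.BunMod.K822.Fam
import Groth.Agent.CohqB.QC6

/-!
# The link between first order deformations and the connecting map

`Y = X ×_k k[ε]`, `K → P → Q → 0` exact on `Y`, with reductions `0 → K₀ → P₀ → Q₀ → 0` exact on `X`, `K`, `P` flat over
`k[ε]`.  If `t ∈ Γ(P)` reduces to `a₀ σ`, `σ ∈ Γ(K₀)`, and `b t = ε q'`, then
`δ_{0 → K₀ → q_* K → K₀ → 0}(σ) + δ_{0 → K₀ → P₀ → Q₀ → 0}(q'_0) = 0` in `H¹(K₀)` (`link`).
-/

set_option autoImplicit false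

universe w u

open CategoryTheory CategoryTheory.Limits AlgebraicGeometry TopologicalSpace Opposite

namespace K822.DT

open Groth.Agent.Sga67.Sec Groth.Agent.Krr.H487.LocBasisPull
open Groth.Agent.LoccohB.HHmap (smulHom smulHom_comp smulHom_app)
open K822.Eps K822.EMod K822.Nine

variable {k : Type u} [Field k] {X Y : Scheme.{u}} (D : DT k X Y)

/-- `q_*` of `b ≫ ε = ε ≫ b`. -/
theorem eq_comm {M N : Y.Modules} (φ : M ⟶ N) :
    D.eq M ≫ (Scheme.Modules.pushforward D.q).map φ = (Scheme.Modules.pushforward D.q).map φ ≫ D.eq N := by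
  rw [← Functor.map_comp, ← Functor.map_comp, smulHom_comp]

variable {K P Q : Y.Modules} {a : K ⟶ P} {b : P ⟶ Q} {w : a ≫ b = 0}
  {K₀ P₀ Q₀ : X.Modules} {a₀ : K₀ ⟶ P₀} {b₀ : P₀ ⟶ Q₀} {w₀ : a₀ ≫ b₀ = 0}
  {ρK : (Scheme.Modules.pullback D.i).obj K ⟶ K₀} {ρP : (Scheme.Modules.pullback D.i).obj P ⟶ P₀}
  {ρQ : (Scheme.Modules.pullback D.i).obj Q ⟶ Q₀} [IsIso ρK] [IsIso ρP] [IsIso ρQ]

include w in
/-- The third term of the row is an `ε`-module. -/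
theorem isEM_Q (hK : Coh.IsQCoh K) (hP : Coh.IsQCoh P) (hQ : Coh.IsQCoh Q) (fK : D.EFlat K) (fP : D.EFlat P)
    (hex : (ShortComplex.mk a b w).Exact) [Epi b] [Mono a₀]
    (ca : ρK ≫ a₀ = (Scheme.Modules.pullback D.i).map a ≫ ρP) :
    IsEM (D.eq Q) (red D.q D.i D.iq ρQ) := by
  have := D.epi_push b
  have wq : (Scheme.Modules.pushforward D.q).map a ≫ (Scheme.Modules.pushforward D.q).map b = 0 := by
    rw [← Functor.map_comp, w, Functor.map_zero]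
  exact IsEM.of_row (D.isEM hK fK ρK) (D.isEM hP fP ρP) (D.epi_red' hQ ρQ) (D.eq_red ρQ) (D.exact_red hQ ρQ)
    (D.eq_eq Q) (D.exact_push hex wq) (a₀ := a₀) (D.eq_comm a) (D.eq_comm b) (red_natural D.q D.i D.iq a a₀ ca)

/-- The link. -/
theorem link (hK : Coh.IsQCoh K) (hP : Coh.IsQCoh P) (hQ : Coh.IsQCoh Q) (fK : D.EFlat K) (fP : D.EFlat P)
    (hex : (ShortComplex.mk a b w).Exact) [Epi b] (h₀ : (ShortComplex.mk a₀ b₀ w₀).ShortExact)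
    (ca : ρK ≫ a₀ = (Scheme.Modules.pullback D.i).map a ≫ ρP)
    (cb : ρP ≫ b₀ = (Scheme.Modules.pullback D.i).map b ≫ ρQ)
    (σ : Sec K₀ ⊤) (t : Sec P (D.q ⁻¹ᵁ ⊤)) (q' : Sec Q (D.q ⁻¹ᵁ ⊤))
    (e₁ : appS (red D.q D.i D.iq ρP) ⊤ t = appS a₀ ⊤ σ) (e₂ : appS b (D.q ⁻¹ᵁ ⊤) t = appS (D.eM Q) (D.q ⁻¹ᵁ ⊤) q') :
    dl (D.isEM hK fK ρK).shortExact σ + dl h₀ (appS (red D.q D.i D.iq ρQ) ⊤ q') = 0 := by
  have hma : Mono a₀ := h₀.mono_f
  have HK := D.isEM hK fK ρK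
  have HP := D.isEM hP fP ρP
  have HQ : IsEM (D.eq Q) (red D.q D.i D.iq ρQ) := D.isEM_Q hK hP hQ fK fP hex ca
  have wq : (Scheme.Modules.pushforward D.q).map a ≫ (Scheme.Modules.pushforward D.q).map b = 0 := by
    rw [← Functor.map_comp, w, Functor.map_zero]
  have hmP : Mono HP.j := HP.mono_j
  have hmQ : Mono HQ.j := HQ.mono_j
  refine dl_add_dl (a₂ := (Scheme.Modules.pushforward D.q).map a) (b₂ := (Scheme.Modules.pushforward D.q).map b)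
    (a₃ := a₀) (p₁ := HP.j) (p₂ := red D.q D.i D.iq ρP) (q₁ := HQ.j) (wp := HP.j_π) h₀ HK.shortExact
    HP.shortExact.exact wq ?_ ?_ (red_natural D.q D.i D.iq a a₀ ca) σ t _ e₁ ?_
  · exact (HK.j_comp HP (D.eq_comm a) (red_natural D.q D.i D.iq a a₀ ca)).symm
  · exact (HP.j_comp HQ (D.eq_comm b) (red_natural D.q D.i D.iq b b₀ cb)).symm
  · have h := HQ.π_j
    have h2 : appS HQ.j ⊤ (appS (red D.q D.i D.iq ρQ) ⊤ q') = appS (D.eq Q) ⊤ q' := by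
      rw [← appS_comp, h]
    rw [h2]
    exact e₂.symm

end K822.DT
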