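import Groth.Agent.CohqB.HSeqMod
import Groth.Agent.CurvesB.HZero
import Groth.Agent.Sga67.Sec

/-!
# Connecting maps on sections and the sign lemma for a 3×3 diagram

* `dl hS : Sec S.X₃ ⊤ →+ H¹(S.X₁)`, the connecting map on global sections, with `dl_natural`, `dl_map`, `exists_of_dl`;
* `dl_add_dl`: for a diagram with exact rows and columns
  ```
  K₁ → P₁ → Q₁
  ↓    ↓    ↓
  K₂ → P₂ → Q₂
  ↓    ↓
  K₃ → P₃
  ```
  a section `t` of `P₂` whose image in `P₃` comes from `s ∈ Γ(K₃)` and whose image in `Q₂` comes from `q ∈ Γ(Q₁)`: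
  `δ_col(s) + δ_row(q) = 0` in `H¹(K₁)`.
-/

set_option autoImplicit false

universe u

open CategoryTheory CategoryTheory.Limits AlgebraicGeometry

namespace K822.Nine

open Groth.Agent.CohqB.HSeqMod Groth.Agent.CurvesB.HZero Groth.Agent.Sga67.Sec

variable {X : Scheme.{u}}

/-- A global section as a class in `H⁰`. -/
noncomputable def c0 (M : X.Modules) : Sec M ⊤ ≃+ Coh.HH X M 0 := (equivAdd M).symm

theorem hmap_c0 {M N : X.Modules} (φ : M ⟶ N) (s : Sec M ⊤) :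
    hmap φ 0 (c0 M s) = c0 N (appS φ ⊤ s) := by
  apply (equivAdd N).injective
  have h := equivAdd_map φ (c0 M s)
  rw [show equivAdd M (c0 M s) = s from (equivAdd M).apply_symm_apply s] at h
  exact h.trans ((equivAdd N).apply_symm_apply (appS φ ⊤ s)).symm

variable {S T : ShortComplex X.Modules}

/-- The connecting map on global sections. -/
noncomputable def dl (hS : S.ShortExact) : Sec S.X₃ ⊤ →+ Coh.HH X S.X₁ 1 :=
  (δ hS 0).comp (c0 S.X₃).toAddMonoidHom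

theorem dl_apply (hS : S.ShortExact) (s : Sec S.X₃ ⊤) : dl hS s = δ hS 0 (c0 S.X₃ s) := rfl

theorem dl_natural (hS : S.ShortExact) (hT : T.ShortExact) (f : S ⟶ T) (s : Sec S.X₃ ⊤) :
    dl hT (appS f.τ₃ ⊤ s) = hmap f.τ₁ 1 (dl hS s) := by
  rw [dl_apply, dl_apply, ← hmap_c0]
  exact δ_naturality hS hT f 0 _

/-- Naturality for a morphism of extensions which is the identity on the left. -/
theorem dl_natural' {A B B' C C' : X.Modules} {f : A ⟶ B} {g : B ⟶ C} {w : f ≫ g = 0}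
    {f' : A ⟶ B'} {g' : B' ⟶ C'} {w' : f' ≫ g' = 0} (hS : (ShortComplex.mk f g w).ShortExact)
    (hT : (ShortComplex.mk f' g' w').ShortExact) (b : B ⟶ B') (c : C ⟶ C') (h1 : f ≫ b = f')
    (h2 : g ≫ c = b ≫ g') (s : Sec C ⊤) : dl hT (appS c ⊤ s) = dl hS s := by
  let φ : ShortComplex.mk f g w ⟶ ShortComplex.mk f' g' w' :=
    { τ₁ := 𝟙 A, τ₂ := b, τ₃ := c, comm₁₂ := by simpa using h1.symm, comm₂₃ := h2.symm }
  have h := dl_natural hS hT φ s
  rw [show φ.τ₁ = 𝟙 A from rfl, hmap_id_apply] at h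
  exact h

theorem dl_map (hS : S.ShortExact) (s : Sec S.X₂ ⊤) : dl hS (appS S.g ⊤ s) = 0 := by
  rw [dl_apply, ← hmap_c0]
  exact δ_hmap hS 0 _

theorem exists_of_dl (hS : S.ShortExact) (s : Sec S.X₃ ⊤) (h : dl hS s = 0) :
    ∃ t : Sec S.X₂ ⊤, appS S.g ⊤ t = s := by
  obtain ⟨y, hy⟩ := exact₃ hS 0 _ h
  obtain ⟨t, rfl⟩ := (c0 S.X₂).surjective y
  refine ⟨t, (c0 S.X₃).injective ?_⟩
  rw [← hmap_c0]
  exact hy

theorem exists_dl (hS : S.ShortExact) (x : Coh.HH X S.X₁ 1) (h : hmap S.f 1 x = 0) :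
    ∃ s : Sec S.X₃ ⊤, dl hS s = x := by
  obtain ⟨y, hy⟩ := exact₁ hS 0 x h
  obtain ⟨t, rfl⟩ := (c0 S.X₃).surjective y
  exact ⟨t, hy⟩

/-- Sections with values in the target of a jointly monomorphic pair. -/
theorem sec_eq_zero {W A B : X.Modules} (a : W ⟶ A) (b : W ⟶ B)
    (h : ∀ (Z : X.Modules) (z : Z ⟶ W), z ≫ a = 0 → z ≫ b = 0 → z = 0) {U : X.Opens} (s : Sec W U)
    (ha : appS a U s = 0) (hb : appS b U s = 0) : s = 0 := by
  have hm : Mono (biprod.lift a b) := by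
    apply Preadditive.mono_of_cancel_zero
    intro Z z hz
    refine h Z z ?_ ?_
    · have := congrArg (· ≫ biprod.fst) hz
      simpa using this
    · have := congrArg (· ≫ biprod.snd) hz
      simpa using this
  apply injective_of_mono (biprod.lift a b) U
  rw [map_zero]
  have h1 : appS (biprod.lift a b) U s =
      appS (biprod.lift a b ≫ (biprod.fst ≫ biprod.inl + biprod.snd ≫ biprod.inr)) U s := by
    rw [biprod.total, Category.comp_id]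
  rw [h1, Preadditive.comp_add, biprod.lift_fst_assoc, biprod.lift_snd_assoc, appS_add, appS_comp,
    appS_comp, ha, hb, map_zero, map_zero, add_zero]

section nine

variable {K₁ P₁ Q₁ K₂ P₂ Q₂ K₃ P₃ : X.Modules} {a₁ : K₁ ⟶ P₁} {b₁ : P₁ ⟶ Q₁} {a₂ : K₂ ⟶ P₂} {b₂ : P₂ ⟶ Q₂}
  {a₃ : K₃ ⟶ P₃} {k₁ : K₁ ⟶ K₂} {k₂ : K₂ ⟶ K₃} {p₁ : P₁ ⟶ P₂} {p₂ : P₂ ⟶ P₃} {q₁ : Q₁ ⟶ Q₂}
  {w₁ : a₁ ≫ b₁ = 0} {wk : k₁ ≫ k₂ = 0} {wp : p₁ ≫ p₂ = 0}

/-- The sign lemma for a 3×3 diagram. -/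
theorem dl_add_dl (hrow : (ShortComplex.mk a₁ b₁ w₁).ShortExact) (hcol : (ShortComplex.mk k₁ k₂ wk).ShortExact)
    (hP : (ShortComplex.mk p₁ p₂ wp).Exact) [Mono p₁] [Mono q₁] (w₂ : a₂ ≫ b₂ = 0)
    (h₁ : a₁ ≫ p₁ = k₁ ≫ a₂) (h₂ : b₁ ≫ q₁ = p₁ ≫ b₂) (h₃ : k₂ ≫ a₃ = a₂ ≫ p₂)
    (s : Sec K₃ ⊤) (t : Sec P₂ ⊤) (q : Sec Q₁ ⊤) (e₁ : appS p₂ ⊤ t = appS a₃ ⊤ s)
    (e₂ : appS q₁ ⊤ q = appS b₂ ⊤ t) : dl hcol s + dl hrow q = 0 := by
  have hm : Mono a₁ := hrow.mono_f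
  have hek : Epi k₂ := hcol.epi_g
  have heb : Epi b₁ := hrow.epi_g
  have hiot : Mono (a₁ ≫ p₁) := mono_comp _ _
  let W := cokernel (a₁ ≫ p₁)
  let π : P₂ ⟶ W := cokernel.π (a₁ ≫ p₁)
  have hπ0 : (a₁ ≫ p₁) ≫ π = 0 := cokernel.condition _
  have hA : (ShortComplex.mk (a₁ ≫ p₁) π hπ0).ShortExact :=
    { exact := ShortComplex.exact_cokernel _
      mono_f := hiot
      epi_g := inferInstanceAs (Epi (cokernel.π _)) }
  have hc1 : k₁ ≫ (a₂ ≫ π) = 0 := by rw [← Category.assoc, ← h₁, hπ0]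
  let α : K₃ ⟶ W := hcol.exact.desc (a₂ ≫ π) hc1
  have hα : k₂ ≫ α = a₂ ≫ π := hcol.exact.g_desc _ hc1
  have hc2 : a₁ ≫ (p₁ ≫ π) = 0 := by rw [← Category.assoc, hπ0]
  let β : Q₁ ⟶ W := hrow.exact.desc (p₁ ≫ π) hc2
  have hβ : b₁ ≫ β = p₁ ≫ π := hrow.exact.g_desc _ hc2
  have hu : (a₁ ≫ p₁) ≫ p₂ = 0 := by rw [Category.assoc, wp, comp_zero]
  have hv : (a₁ ≫ p₁) ≫ b₂ = 0 := by rw [Category.assoc, ← h₂, ← Category.assoc, w₁, zero_comp]
  let u : W ⟶ P₃ := cokernel.desc _ p₂ hu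
  let v : W ⟶ Q₂ := cokernel.desc _ b₂ hv
  have hπu : π ≫ u = p₂ := cokernel.π_desc _ _ _
  have hπv : π ≫ v = b₂ := cokernel.π_desc _ _ _
  have hαu : α ≫ u = a₃ := by
    rw [← cancel_epi k₂, ← Category.assoc, hα, Category.assoc, hπu, h₃]
  have hαv : α ≫ v = 0 := by
    rw [← cancel_epi k₂, ← Category.assoc, hα, Category.assoc, hπv, w₂, comp_zero]
  have hβu : β ≫ u = 0 := by
    rw [← cancel_epi b₁, ← Category.assoc, hβ, Category.assoc, hπu, wp, comp_zero]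
  have hβv : β ≫ v = q₁ := by
    rw [← cancel_epi b₁, ← Category.assoc, hβ, Category.assoc, hπv, h₂]
  have hd1 : dl hA (appS α ⊤ s) = dl hcol s :=
    dl_natural' hcol hA a₂ α h₁.symm hα s
  have hd2 : dl hA (appS β ⊤ q) = dl hrow q :=
    dl_natural' hrow hA p₁ β rfl hβ q
  have hep : Epi π := hA.epi_g
  -- joint monomorphism
  have hjm : ∀ (Z : X.Modules) (z : Z ⟶ W), z ≫ u = 0 → z ≫ v = 0 → z = 0 := by
    intro Z z hzu hzv
    obtain ⟨Z', e, he, x, hx⟩ := surjective_up_to_refinements_of_epi π z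
    have hx1 : x ≫ p₂ = 0 := by rw [← hπu, ← Category.assoc, ← hx, Category.assoc, hzu, comp_zero]
    obtain ⟨Z2, e2, he2, y, hy⟩ := hP.exact_up_to_refinements x hx1
    simp only at hy
    have hy1 : y ≫ b₁ = 0 := by
      rw [← cancel_mono q₁, Category.assoc, h₂, ← Category.assoc, ← hy, Category.assoc, ← hπv,
        ← Category.assoc x, ← hx, Category.assoc, hzv, comp_zero, comp_zero, zero_comp]
    obtain ⟨Z3, e3, he3, y', hy'⟩ := hrow.exact.exact_up_to_refinements y hy1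
    simp only at hy'
    have h4 : (e3 ≫ e2 ≫ e) ≫ z = 0 := by
      rw [Category.assoc, Category.assoc, hx, ← Category.assoc e2, hy, Category.assoc, ← Category.assoc,
        hy', Category.assoc, ← Category.assoc a₁, hπ0, comp_zero]
    have : Epi (e3 ≫ e2 ≫ e) := epi_comp _ _
    rw [← cancel_epi (e3 ≫ e2 ≫ e), h4, comp_zero]
  have hsum : appS α ⊤ s + appS β ⊤ q = appS π ⊤ t := by
    rw [← sub_eq_zero]
    apply sec_eq_zero u v hjm
    · rw [map_sub, map_add, ← appS_comp, ← appS_comp, ← appS_comp, hαu, hβu, hπu, appS_zero, add_zero, e₁,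
        sub_self]
    · rw [map_sub, map_add, ← appS_comp, ← appS_comp, ← appS_comp, hαv, hβv, hπv, appS_zero, zero_add, e₂,
        sub_self]
  rw [← hd1, ← hd2, ← map_add, hsum]
  exact dl_map hA t

end nine

end K822.Nine
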