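import Groth.Agent.BunMod.K822.Tens

/-!
# The section of the reduction for constant families

`D : DT k X Y`, `v : Y ⟶ Z`, `z = i ≫ v`, `pr : Z ⟶ W` with `v ≫ pr = q ≫ z ≫ pr`, `N` on `W`:
`tht : z^* pr^* N ⟶ q_* v^* pr^* N`, `tht ≫ rd = 𝟙` (`tht_rd`).
-/

set_option autoImplicit false

universe w u

open CategoryTheory CategoryTheory.Limits AlgebraicGeometry TopologicalSpace Opposite

namespace K822.Tht

open Groth.Agent.Sga67.Sec Groth.Agent.Krr.H487.LocBasisPull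
open K822.Eps K822.EMod K822.Nine K822.Tr

section ext2

variable {X Z W : Scheme.{u}} (z : X ⟶ Z) (pr : Z ⟶ W) {N : W.Modules} {B : X.Modules}

/-- Morphisms out of a two-fold pull-back are determined by the pulled back sections. -/
theorem pull_ext₂ {φ ψ : (Scheme.Modules.pullback z).obj ((Scheme.Modules.pullback pr).obj N) ⟶ B}
    (h : ∀ (U : W.Opens) (s : Sec N U), appS φ (z ⁻¹ᵁ (pr ⁻¹ᵁ U)) (pbS z _ (pbS pr N s)) =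
      appS ψ (z ⁻¹ᵁ (pr ⁻¹ᵁ U)) (pbS z _ (pbS pr N s))) : φ = ψ := by
  apply ((Scheme.Modules.pullbackPushforwardAdjunction z).homEquiv _ _).injective
  apply pull_ext
  intro U s
  rw [Adjunction.homEquiv_unit, Adjunction.homEquiv_unit]
  exact h U s

end ext2

section

variable {k : Type u} [Field k] {X Y Z W : Scheme.{u}} (D : DT k X Y) (v : Y ⟶ Z) {z : X ⟶ Z} (h : D.i ≫ v = z)
  (pr : Z ⟶ W) (hp : v ≫ pr = D.q ≫ z ≫ pr) (N : W.Modules)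

/-- The section of the reduction for a constant family. -/
noncomputable def tht : (Scheme.Modules.pullback z).obj ((Scheme.Modules.pullback pr).obj N) ⟶
    (Scheme.Modules.pushforward D.q).obj ((Scheme.Modules.pullback v).obj ((Scheme.Modules.pullback pr).obj N)) :=
  (tr z pr rfl N).hom ≫ (Scheme.Modules.pullbackPushforwardAdjunction D.q).homEquiv _ _
    ((tr D.q (z ≫ pr) rfl N).hom ≫ (tr v pr hp N).inv)

theorem appS_tht_aux {V : X.Opens} (s : Sec ((Scheme.Modules.pullback (z ≫ pr)).obj N) V) :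
    @Eq (Sec ((Scheme.Modules.pullback v).obj ((Scheme.Modules.pullback pr).obj N)) (D.q ⁻¹ᵁ V))
      (appS ((Scheme.Modules.pullbackPushforwardAdjunction D.q).homEquiv _ _
        ((tr D.q (z ≫ pr) rfl N).hom ≫ (tr v pr hp N).inv)) V s)
      (appS (tr v pr hp N).inv (D.q ⁻¹ᵁ V) (appS (tr D.q (z ≫ pr) rfl N).hom (D.q ⁻¹ᵁ V) (pbS D.q _ s))) := by
  rw [Adjunction.homEquiv_unit]
  rfl

include hp in
omit h in
theorem preimage_eq' (U : W.Opens) : D.q ⁻¹ᵁ (z ⁻¹ᵁ (pr ⁻¹ᵁ U)) = v ⁻¹ᵁ (pr ⁻¹ᵁ U) := by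
  have h1 : D.q ⁻¹ᵁ (z ⁻¹ᵁ (pr ⁻¹ᵁ U)) = (D.q ≫ z ≫ pr) ⁻¹ᵁ U := rfl
  rw [h1, ← hp]
  rfl

theorem appS_tht (U : W.Opens) (s : Sec N U) :
    @Eq (Sec ((Scheme.Modules.pullback v).obj ((Scheme.Modules.pullback pr).obj N)) (D.q ⁻¹ᵁ (z ⁻¹ᵁ (pr ⁻¹ᵁ U))))
      (appS (tht D v pr hp N) (z ⁻¹ᵁ (pr ⁻¹ᵁ U)) (pbS z _ (pbS pr N s)))
      (res _ (preimage_eq' D v pr hp U).le (pbS v _ (pbS pr N s))) := by
  have h1 : appS (tr z pr rfl N).hom (z ⁻¹ᵁ (pr ⁻¹ᵁ U)) (pbS z _ (pbS pr N s)) = pbS (z ≫ pr) N s :=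
    (tr_pbS z pr rfl N s).trans (res_self _ _ _)
  have h2 : @Eq (Sec ((Scheme.Modules.pullback v).obj ((Scheme.Modules.pullback pr).obj N)) (D.q ⁻¹ᵁ (z ⁻¹ᵁ (pr ⁻¹ᵁ U))))
      (appS (tht D v pr hp N) (z ⁻¹ᵁ (pr ⁻¹ᵁ U)) (pbS z _ (pbS pr N s)))
      (appS ((Scheme.Modules.pullbackPushforwardAdjunction D.q).homEquiv _ _
        ((tr D.q (z ≫ pr) rfl N).hom ≫ (tr v pr hp N).inv)) (z ⁻¹ᵁ (pr ⁻¹ᵁ U))
        (appS (tr z pr rfl N).hom (z ⁻¹ᵁ (pr ⁻¹ᵁ U)) (pbS z _ (pbS pr N s)))) := rfl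
  rw [h2, h1]
  refine (appS_tht_aux D v pr hp N (V := z ⁻¹ᵁ (pr ⁻¹ᵁ U)) (pbS (z ≫ pr) N s)).trans ?_
  have h3 : appS (tr D.q (z ≫ pr) rfl N).hom (D.q ⁻¹ᵁ ((z ≫ pr) ⁻¹ᵁ U)) (pbS D.q _ (pbS (z ≫ pr) N s)) =
    pbS (D.q ≫ z ≫ pr) N s := (tr_pbS D.q (z ≫ pr) rfl N s).trans (res_self _ _ _)
  have h4 : appS (tr v pr hp N).hom (v ⁻¹ᵁ (pr ⁻¹ᵁ U)) (pbS v _ (pbS pr N s)) =
    res _ (tr_preimage v pr hp U).le (pbS (D.q ≫ z ≫ pr) N s) := tr_pbS v pr hp N s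
  have h5 : appS (tr v pr hp N).hom (D.q ⁻¹ᵁ (z ⁻¹ᵁ (pr ⁻¹ᵁ U)))
      (res _ (preimage_eq' D v pr hp U).le (pbS v _ (pbS pr N s))) = pbS (D.q ≫ z ≫ pr) N s := by
    rw [appS_res, h4, res_res]
    exact res_self _ _ _
  refine (congrArg (appS (tr v pr hp N).inv (D.q ⁻¹ᵁ (z ⁻¹ᵁ (pr ⁻¹ᵁ U)))) (h3.trans h5.symm)).trans ?_
  exact appS_hom_inv _ _ _

theorem tht_rd : tht D v pr hp N ≫ rd D v h ((Scheme.Modules.pullback pr).obj N) = 𝟙 _ := by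
  apply pull_ext₂
  intro U s
  have h1 : appS (tht D v pr hp N ≫ rd D v h ((Scheme.Modules.pullback pr).obj N)) (z ⁻¹ᵁ (pr ⁻¹ᵁ U))
      (pbS z _ (pbS pr N s)) = appS (rd D v h ((Scheme.Modules.pullback pr).obj N)) (z ⁻¹ᵁ (pr ⁻¹ᵁ U))
        (appS (tht D v pr hp N) (z ⁻¹ᵁ (pr ⁻¹ᵁ U)) (pbS z _ (pbS pr N s))) := rfl
  refine h1.trans ?_
  refine (appS_red D.q D.i D.iq (tr D.i v h ((Scheme.Modules.pullback pr).obj N)).hom (z ⁻¹ᵁ (pr ⁻¹ᵁ U)) _).trans ?_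
  have h2 := appS_tht D v pr hp N U s
  have h3 := congrArg (fun t => res ((Scheme.Modules.pullback z).obj ((Scheme.Modules.pullback pr).obj N))
    (preimage_eq D.q D.i D.iq (z ⁻¹ᵁ (pr ⁻¹ᵁ U))).ge (appS (tr D.i v h ((Scheme.Modules.pullback pr).obj N)).hom
      (D.i ⁻¹ᵁ (D.q ⁻¹ᵁ (z ⁻¹ᵁ (pr ⁻¹ᵁ U)))) (pbS D.i _ t))) h2
  refine h3.trans ?_
  rw [← res_pbS D.i _ (preimage_eq' D v pr hp U).le (D.i.preimage_mono (preimage_eq' D v pr hp U).le), appS_res,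
    tr_pbS, res_res, res_res]
  exact res_self _ _ _

end

end K822.Tht
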