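import Groth.Agent.BunMod.K822.Tens
import Groth.Agent.BunMod.K822.Tht
import Groth.Agent.BunMod.K822.FromExt
import Groth.Agent.PerfC.PullRestrict
import Groth.Agent.Sga67.LocBasisOps
import Groth.Agent.PerfB.TensInv
import Groth.Prelude.Def_DDual2

/-!
# Tangent vectors realizing all classes

`D : DT k X Y` (`Y = X × k[ε]`), `v : Y ⟶ Z`, `z = i ≫ v`, `E`, `P`, `Q` on `Z`, `N` on `W`, `pr : Z ⟶ W`,
`E ⊗ N → P → Q → 0` exact on `Z`, short exact on `z`.
* `Real D v h E e π`: `q_* v^* E` is the `ε`-module `(G, e, π)`; `real_of_iso` (from `v^* E ≅ ES e`).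
* `dl_real`: the connecting map of `v` for `E ⊗ N` is that of the realized extension tensored with `N`.
* `onto_gen`: if for all `σ ≠ 0`, `β` some extension of `z^* E` by itself with `δ_{⊗N}(σ) = β` is realized, then for all
  `s ≠ 0` in the kernel of the matrix at `z` and all `t` there are `v`, `c` with `snd (v d) s = t + (z d) c`.
-/

set_option autoImplicit false

universe w u

open CategoryTheory CategoryTheory.Limits AlgebraicGeometry TopologicalSpace Opposite MonoidalCategory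

namespace K822.Onto

open scoped Groth.Agent.Dcoh.MonCat
open Groth.Agent.Dcoh Groth.Agent.Dcoh.MonPull
open Groth.Agent.Sga67.Sec Groth.Agent.Krr.H487.LocBasisPull
open Groth.Agent.LoccohB.HHmap (smulHom smulHom_comp smulHom_app)
open K822.Eps K822.EMod K822.Nine K822.Tr K822.Tens
open Functor.LaxMonoidal Functor.OplaxMonoidal

/-- Exactness of `- ⊗ N` for `N` finite locally free. -/
theorem shortExact_tensor {X : Scheme.{u}} {N : X.Modules} (hN : FlatMod.IsFinLocFree N) {S : ShortComplex X.Modules}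
    (hS : S.ShortExact) : (S.map (DCoh.tensorRightMod N)).ShortExact := by
  have h := Groth.Agent.PerfB.TensInv.preservesFiniteLimits_of_isFinLocFree hN
  have h' := Groth.Agent.PerfB.TensExact.preservesFiniteColimits_tensorRightMod N
  exact hS.map_of_exact (DCoh.tensorRightMod N)

theorem whisk_zero {X : Scheme.{u}} {A B C : X.Modules} {f : A ⟶ B} {g : B ⟶ C} (w : f ≫ g = 0) (N : X.Modules) :
    (f ▷ N) ≫ (g ▷ N) = 0 := ((ShortComplex.mk f g w).map (DCoh.tensorRightMod N)).zero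

theorem δ_tw {X : Scheme.{u}} {A B C : X.Modules} {f : A ⟶ B} {g : B ⟶ C} {w : f ≫ g = 0} {N : X.Modules}
    (w' : (f ▷ N) ≫ (g ▷ N) = 0)
    (hS : ((ShortComplex.mk f g w).map (DCoh.tensorRightMod N)).ShortExact) :
    ∃ hS' : (ShortComplex.mk (f ▷ N) (g ▷ N) w').ShortExact, ∀ σ : Sec (C ⊗ N) ⊤,
      dl hS' σ = Groth.Agent.CohqB.HSeqMod.δ hS 0 (c0 (C ⊗ N) σ) := ⟨hS, fun _ => rfl⟩

section real

variable {k : Type u} [Field k] {X Y Z : Scheme.{u}} (D : DT k X Y) (v : Y ⟶ Z) {z : X ⟶ Z} (h : D.i ≫ v = z)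

/-- `v^* E` realizes the `ε`-module `(G, e, π)` over `z^* E`. -/
def Real (E : Z.Modules) {G : X.Modules} (e : G ⟶ G) (π : G ⟶ (Scheme.Modules.pullback z).obj E) : Prop :=
  ∃ τ : G ⟶ (Scheme.Modules.pushforward D.q).obj ((Scheme.Modules.pullback v).obj E),
    τ ≫ rd D v h E = π ∧ e ≫ τ = τ ≫ D.eq ((Scheme.Modules.pullback v).obj E)

theorem real_of_iso {E : Z.Modules} {G : X.Modules} {e : G ⟶ G} {π : G ⟶ (Scheme.Modules.pullback z).obj E}
    (w : e ≫ π = 0) (φ : (Scheme.Modules.pullback v).obj E ≅ D.ES e)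
    (hφ : (Scheme.Modules.pullback D.i).map φ.hom ≫ D.rho π w = (tr D.i v h E).hom) : Real D v h E e π := by
  have h1 : rd D v h E = (Scheme.Modules.pushforward D.q).map φ.hom ≫ red D.q D.i D.iq (D.rho π w) := by
    have h2 := red_natural D.q D.i D.iq (ρ := (tr D.i v h E).hom) (ρ' := D.rho π w) φ.hom (𝟙 _)
      ((Category.comp_id _).trans hφ.symm)
    rw [Category.comp_id] at h2
    exact h2
  refine ⟨D.al e ≫ (Scheme.Modules.pushforward D.q).map φ.inv, ?_, ?_⟩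
  · rw [h1, Category.assoc, ← Functor.map_comp_assoc, φ.inv_hom_id, CategoryTheory.Functor.map_id, Category.id_comp]
    exact D.al_red π w
  · rw [← Category.assoc, D.al_eq, Category.assoc, Category.assoc]
    congr 1
    have h2 : D.eM (D.ES e) ≫ φ.inv = φ.inv ≫ D.eM ((Scheme.Modules.pullback v).obj E) := smulHom_comp _ _
    exact ((Scheme.Modules.pushforward D.q).map_comp _ _).symm.trans
      ((congrArg (Scheme.Modules.pushforward D.q).map h2).trans ((Scheme.Modules.pushforward D.q).map_comp _ _))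

theorem real_j {E : Z.Modules} (H : IsEM (D.eq ((Scheme.Modules.pullback v).obj E)) (rd D v h E)) {G : X.Modules}
    {f : (Scheme.Modules.pullback z).obj E ⟶ G} {g : G ⟶ (Scheme.Modules.pullback z).obj E} (he : Epi g)
    {τ : G ⟶ (Scheme.Modules.pushforward D.q).obj ((Scheme.Modules.pullback v).obj E)} (h1 : τ ≫ rd D v h E = g)
    (h2 : (g ≫ f) ≫ τ = τ ≫ D.eq ((Scheme.Modules.pullback v).obj E)) : f ≫ τ = H.j := by
  have h3 : τ ≫ D.eq ((Scheme.Modules.pullback v).obj E) = τ ≫ rd D v h E ≫ H.j := congrArg (τ ≫ ·) H.π_j.symm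
  rw [← cancel_epi g, ← Category.assoc, h2, h3, ← Category.assoc, h1]

/-- Naturality for tensor products. -/
theorem dl_tens {X : Scheme.{u}} {A B B' C N : X.Modules} {f : A ⟶ B} {g : B ⟶ C} {f' : A ⟶ B'} {g' : B' ⟶ C}
    {w : (f ▷ N) ≫ (g ▷ N) = 0} {w' : (f' ▷ N) ≫ (g' ▷ N) = 0}
    (hS : (ShortComplex.mk (f ▷ N) (g ▷ N) w).ShortExact) (hT : (ShortComplex.mk (f' ▷ N) (g' ▷ N) w').ShortExact)
    (τ : B ⟶ B') (h1 : f ≫ τ = f') (h2 : τ ≫ g' = g) (σ : Sec (C ⊗ N) ⊤) : dl hT σ = dl hS σ := by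
  have h3 := dl_natural' hS hT (τ ▷ N) (𝟙 _) (by rw [← comp_whiskerRight, h1])
    (by rw [Category.comp_id, ← comp_whiskerRight, h2]) σ
  exact h3

/-- The connecting map of an extension realized by `v`, tensored with a constant `N`. -/
theorem dl_real {E N : Z.Modules} {θ : (Scheme.Modules.pullback z).obj N ⟶
      (Scheme.Modules.pushforward D.q).obj ((Scheme.Modules.pullback v).obj N)}
    (hθ : θ ≫ rd D v h N = 𝟙 _)
    (H : IsEM (D.eq ((Scheme.Modules.pullback v).obj E)) (rd D v h E))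
    (H' : IsEM (D.eq ((Scheme.Modules.pullback v).obj (E ⊗ N))) (rd D v h (E ⊗ N)))
    {w : (H.j ▷ (Scheme.Modules.pullback z).obj N) ≫ (rd D v h E ▷ (Scheme.Modules.pullback z).obj N) = 0}
    (hT : (ShortComplex.mk (H.j ▷ (Scheme.Modules.pullback z).obj N)
      (rd D v h E ▷ (Scheme.Modules.pullback z).obj N) w).ShortExact)
    {G : X.Modules} {f : (Scheme.Modules.pullback z).obj E ⟶ G} {g : G ⟶ (Scheme.Modules.pullback z).obj E}
    (he : Epi g) (hR : Real D v h E (g ≫ f) g)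
    {w' : (f ▷ (Scheme.Modules.pullback z).obj N) ≫ (g ▷ (Scheme.Modules.pullback z).obj N) = 0}
    (hS : (ShortComplex.mk (f ▷ (Scheme.Modules.pullback z).obj N) (g ▷ (Scheme.Modules.pullback z).obj N)
      w').ShortExact)
    (σ : Sec ((Scheme.Modules.pullback z).obj E ⊗ (Scheme.Modules.pullback z).obj N) ⊤) :
    dl H'.shortExact (appS (μ (Scheme.Modules.pullback z) E N) ⊤ σ) =
      Groth.Agent.CohqB.HSeqMod.hmap (μ (Scheme.Modules.pullback z) E N) 1 (dl hS σ) := by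
  obtain ⟨τ, h1, h2⟩ := hR
  have h3 := real_j D v h H he h1 h2
  have h4 := dl_tensor D v h (E := E) (N := N) hθ H H' hT σ
  have h5 := dl_tens hS hT τ h3 h1 σ
  exact h4.trans (congrArg _ h5)

theorem appTop_i_fn (c : DualNumber k) : (D.i.appTop (fn D.y c) : Γ(X, ⊤)) = fn D.x c.fst :=
  congr($(fn_comp_hom D.sqi) c)

include h in
theorem appTop_z {r : Γ(Z, ⊤)} {c : DualNumber k} (hc : (v.appTop r : Γ(Y, ⊤)) = fn D.y c) :
    (z.appTop r : Γ(X, ⊤)) = fn D.x c.fst := by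
  subst h
  rw [← appTop_i_fn, ← hc, Scheme.Hom.comp_appTop]
  rfl

variable {K P Q : Z.Modules} {a : K ⟶ P} {b : P ⟶ Q} {w : a ≫ b = 0}

/-- The image of a tangent vector in `H¹(K_z)` determines `snd (v d) s` modulo the image of `d`. -/
theorem point_aux (hK : Coh.IsQCoh K) (hP : Coh.IsQCoh P) (hQ : Coh.IsQCoh Q)
    (fK : D.EFlat ((Scheme.Modules.pullback v).obj K)) (fP : D.EFlat ((Scheme.Modules.pullback v).obj P))
    (hex : (ShortComplex.mk a b w).Exact) [Epi b]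
    {wz : (Scheme.Modules.pullback z).map a ≫ (Scheme.Modules.pullback z).map b = 0}
    (hz : (ShortComplex.mk ((Scheme.Modules.pullback z).map a) ((Scheme.Modules.pullback z).map b) wz).ShortExact)
    {ι κ : Type*} [Fintype ι] [Fintype κ] (e : ι → Sec P ⊤) (f : κ → Sec Q ⊤) (d : κ → ι → Γ(Z, ⊤))
    (hd : ∀ j, appS b ⊤ (e j) = ∑ l, d l j • f l)
    (he : ∀ p : Sec ((Scheme.Modules.pullback z).obj P) ⊤, ∃ c : ι → k, p = ∑ j, fn D.x (c j) • gs z P (e j))
    (hf : ∀ x y : κ → k, ∑ l, fn D.x (x l) • gs z Q (f l) = ∑ l, fn D.x (y l) • gs z Q (f l) → x = y)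
    (c : κ → ι → DualNumber k)
    (hc : ∀ l j, (v.appTop (d l j) : Γ(Y, ⊤)) = fn D.y (c l j)) (s : ι → k) (hs : ∀ l, ∑ j, (c l j).fst * s j = 0)
    (σ : Sec ((Scheme.Modules.pullback z).obj K) ⊤)
    (hσ : appS ((Scheme.Modules.pullback z).map a) ⊤ σ = ∑ j, fn D.x (s j) • gs z P (e j)) (t : κ → k)
    (ht : dl (sv D v h hK fK).shortExact σ + dl hz (∑ l, fn D.x (t l) • gs z Q (f l)) = 0) :
    ∃ c' : ι → k, ∀ l, ∑ j, (c l j).snd * s j = t l + ∑ j, (c l j).fst * c' j := by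
  have h1 := link_point D v h hK hP hQ fK fP hex hz e f d hd c hc s hs σ hσ
  have h2 : dl hz (∑ l, fn D.x (∑ j, (c l j).snd * s j - t l) • gs z Q (f l)) = 0 := by
    have h3 : ∑ l, fn D.x (∑ j, (c l j).snd * s j - t l) • gs z Q (f l) =
        ∑ l, fn D.x (∑ j, (c l j).snd * s j) • gs z Q (f l) - ∑ l, fn D.x (t l) • gs z Q (f l) := by
      rw [← Finset.sum_sub_distrib]
      refine Finset.sum_congr rfl fun l _ => ?_
      rw [map_sub, sub_smul]
    rw [h3, map_sub, sub_eq_zero]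
    exact add_left_cancel (h1.trans ht.symm)
  obtain ⟨p, hp⟩ := exists_of_dl hz _ h2
  obtain ⟨c', hc'⟩ := he p
  refine ⟨c', fun l => ?_⟩
  have h4 : appS ((Scheme.Modules.pullback z).map b) ⊤ p =
      ∑ l, fn D.x (∑ j, (c l j).fst * c' j) • gs z Q (f l) := by
    rw [hc', map_sum]
    have h5 : ∀ j, appS ((Scheme.Modules.pullback z).map b) ⊤ (fn D.x (c' j) • gs z P (e j)) =
        ∑ l, fn D.x ((c l j).fst * c' j) • gs z Q (f l) := by
      intro j
      rw [map_smul, appS_gs, hd, map_sum, Finset.smul_sum]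
      refine Finset.sum_congr rfl fun l _ => ?_
      rw [gs_smul, appTop_z D v h (hc l j), smul_smul, map_mul, mul_comm]
    rw [Finset.sum_congr rfl fun j _ => h5 j, Finset.sum_comm]
    refine Finset.sum_congr rfl fun l _ => ?_
    rw [← Finset.sum_smul, ← map_sum]
  have h6 := congrFun (hf _ _ (hp.symm.trans h4)) l
  rw [← h6]
  ring

/-- `point_aux` for the extension realized by `v` tensored with a constant `N`. -/
theorem point_main {W : Scheme.{u}} (pr : Z ⟶ W) (hp : v ≫ pr = D.q ≫ z ≫ pr) {E : Z.Modules} {N : W.Modules}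
    {P Q : Z.Modules} {a : E ⊗ (Scheme.Modules.pullback pr).obj N ⟶ P} {b : P ⟶ Q} {w : a ≫ b = 0}
    (hE : FlatMod.IsFinLocFree E) (hN : FlatMod.IsFinLocFree N) (hP : FlatMod.IsFinLocFree P) (hQ : Coh.IsQCoh Q)
    (hex : (ShortComplex.mk a b w).Exact) [Epi b]
    {wz : (Scheme.Modules.pullback z).map a ≫ (Scheme.Modules.pullback z).map b = 0}
    (hz : (ShortComplex.mk ((Scheme.Modules.pullback z).map a) ((Scheme.Modules.pullback z).map b) wz).ShortExact)
    {ι κ : Type*} [Fintype ι] [Fintype κ] (e : ι → Sec P ⊤) (f : κ → Sec Q ⊤) (d : κ → ι → Γ(Z, ⊤))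
    (hd : ∀ j, appS b ⊤ (e j) = ∑ l, d l j • f l)
    (he : ∀ p : Sec ((Scheme.Modules.pullback z).obj P) ⊤, ∃ c : ι → k, p = ∑ j, fn D.x (c j) • gs z P (e j))
    (hf : ∀ x y : κ → k, ∑ l, fn D.x (x l) • gs z Q (f l) = ∑ l, fn D.x (y l) • gs z Q (f l) → x = y)
    (c : κ → ι → DualNumber k)
    (hc : ∀ l j, (v.appTop (d l j) : Γ(Y, ⊤)) = fn D.y (c l j)) (s : ι → k) (hs : ∀ l, ∑ j, (c l j).fst * s j = 0)
    {G : X.Modules} {f₀ : (Scheme.Modules.pullback z).obj E ⟶ G} {g₀ : G ⟶ (Scheme.Modules.pullback z).obj E}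
    {w₀ : f₀ ≫ g₀ = 0} (hS : (ShortComplex.mk f₀ g₀ w₀).ShortExact) (hR : Real D v h E (g₀ ≫ f₀) g₀)
    (hSN : ((ShortComplex.mk f₀ g₀ w₀).map (DCoh.tensorRightMod
      ((Scheme.Modules.pullback z).obj ((Scheme.Modules.pullback pr).obj N)))).ShortExact)
    (σ : Sec ((Scheme.Modules.pullback z).obj E ⊗ (Scheme.Modules.pullback z).obj ((Scheme.Modules.pullback pr).obj N)) ⊤)
    (hσ : appS ((Scheme.Modules.pullback z).map a) ⊤ (appS (μ (Scheme.Modules.pullback z) E _) ⊤ σ) =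
      ∑ j, fn D.x (s j) • gs z P (e j)) (t : κ → k)
    (ht : Groth.Agent.CohqB.HSeqMod.hmap (μ (Scheme.Modules.pullback z) E ((Scheme.Modules.pullback pr).obj N)) 1
      (Groth.Agent.CohqB.HSeqMod.δ hSN 0 (c0 _ σ)) + dl hz (∑ l, fn D.x (t l) • gs z Q (f l)) = 0) :
    ∃ c' : ι → k, ∀ l, ∑ j, (c l j).snd * s j = t l + ∑ j, (c l j).fst * c' j := by
  have hq : ∀ {F : Z.Modules}, FlatMod.IsFinLocFree F → Coh.IsQCoh F := fun hF =>
    Groth.Agent.Ega2.QCohLocal.isQCoh_of_isFinLocFree hF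
  have hv : ∀ {F : Z.Modules}, FlatMod.IsFinLocFree F → D.EFlat ((Scheme.Modules.pullback v).obj F) := fun hF =>
    D.eFlat_of_isFinLocFree (Groth.Agent.PerfC.PullRestrict.isFinLocFree_pullback v hF)
  have hN' := Groth.Agent.PerfC.PullRestrict.isFinLocFree_pullback pr hN
  have hK : FlatMod.IsFinLocFree (E ⊗ (Scheme.Modules.pullback pr).obj N) :=
    Groth.Agent.Sga67.LocBasis.isFinLocFree_tensorMod hE hN'
  have H := sv D v h (hq hE) (hv hE)
  have hNz := Groth.Agent.PerfC.PullRestrict.isFinLocFree_pullback z hN'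
  have hT0 := shortExact_tensor hNz H.shortExact
  obtain ⟨hT, -⟩ := δ_tw (whisk_zero H.j_π _) hT0
  obtain ⟨hS', hS''⟩ := δ_tw (whisk_zero w₀ _) hSN
  have h1 := dl_real D v h (Tht.tht_rd D v h pr hp N) H (sv D v h (hq hK) (hv hK)) hT hS.epi_g hR hS' σ
  refine point_aux D v h (hq hK) (hq hP) hQ (hv hK) (hv hP) hex hz e f d hd he hf c hc s hs _ hσ t ?_
  rw [h1, hS'']
  exact ht

end real

section gen

variable {k : Type u} [Field k] {X Y Z W : Scheme.{u}} (D : DT k X Y) {z : X ⟶ Z} (pr : Z ⟶ W) {E : Z.Modules}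
  {N : W.Modules} {P Q : Z.Modules} {a : E ⊗ (Scheme.Modules.pullback pr).obj N ⟶ P} {b : P ⟶ Q} {w : a ≫ b = 0}

/-- Surjectivity of `snd (v d) s` modulo the image of `d` for varying `v`. -/
theorem onto_gen (V : (Y ⟶ Z) → Prop) (hV : ∀ v, V v → v ≫ pr = D.q ≫ z ≫ pr)
    (hE : FlatMod.IsFinLocFree E) (hN : FlatMod.IsFinLocFree N) (hP : FlatMod.IsFinLocFree P) (hQ : Coh.IsQCoh Q)
    (hex : (ShortComplex.mk a b w).Exact) [Epi b]
    {wz : (Scheme.Modules.pullback z).map a ≫ (Scheme.Modules.pullback z).map b = 0}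
    (hz : (ShortComplex.mk ((Scheme.Modules.pullback z).map a) ((Scheme.Modules.pullback z).map b) wz).ShortExact)
    {ι κ : Type*} [Fintype ι] [Fintype κ] (e : ι → Sec P ⊤) (f : κ → Sec Q ⊤) (d : κ → ι → Γ(Z, ⊤))
    (hd : ∀ j, appS b ⊤ (e j) = ∑ l, d l j • f l)
    (he : ∀ p : Sec ((Scheme.Modules.pullback z).obj P) ⊤, ∃ c : ι → k, p = ∑ j, fn D.x (c j) • gs z P (e j))
    (he' : ∀ c : ι → k, ∑ j, fn D.x (c j) • gs z P (e j) = 0 → c = 0)
    (hf : ∀ x y : κ → k, ∑ l, fn D.x (x l) • gs z Q (f l) = ∑ l, fn D.x (y l) • gs z Q (f l) → x = y)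
    (hadm : ∀ σ : Coh.HH X ((DCoh.tensorRightMod ((Scheme.Modules.pullback z).obj
          ((Scheme.Modules.pullback pr).obj N))).obj ((Scheme.Modules.pullback z).obj E)) 0, σ ≠ 0 →
      ∀ β : Coh.HH X ((DCoh.tensorRightMod ((Scheme.Modules.pullback z).obj
          ((Scheme.Modules.pullback pr).obj N))).obj ((Scheme.Modules.pullback z).obj E)) 1,
      ∃ (G : X.Modules) (f₀ : (Scheme.Modules.pullback z).obj E ⟶ G) (g₀ : G ⟶ (Scheme.Modules.pullback z).obj E)
        (w₀ : f₀ ≫ g₀ = 0) (_ : (ShortComplex.mk f₀ g₀ w₀).ShortExact)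
        (hSN : ((ShortComplex.mk f₀ g₀ w₀).map (DCoh.tensorRightMod
          ((Scheme.Modules.pullback z).obj ((Scheme.Modules.pullback pr).obj N)))).ShortExact),
        Groth.Agent.CohqB.HSeqMod.δ hSN 0 σ = β ∧
          ∃ (v : Y ⟶ Z) (_ : V v) (h : D.i ≫ v = z), Real D v h E (g₀ ≫ f₀) g₀)
    (m : κ → ι → k) (hm : ∀ l j, (z.appTop (d l j) : Γ(X, ⊤)) = fn D.x (m l j))
    (s : ι → k) (hs : s ≠ 0) (hsm : ∀ l, ∑ j, m l j * s j = 0) (t : κ → k) :
    ∃ (v : Y ⟶ Z) (_ : V v) (_ : D.i ≫ v = z), ∀ c : κ → ι → DualNumber k, (∀ l j, (c l j).fst = m l j) →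
      (∀ l j, (v.appTop (d l j) : Γ(Y, ⊤)) = fn D.y (c l j)) →
        ∃ c' : ι → k, ∀ l, ∑ j, (c l j).snd * s j = t l + ∑ j, m l j * c' j := by
  have hμ : IsIso (μ (Scheme.Modules.pullback z) E ((Scheme.Modules.pullback pr).obj N)) := inferInstance
  have hm1 := hz.mono_f
  -- the section
  have h1 : appS ((Scheme.Modules.pullback z).map b) ⊤ (∑ j, fn D.x (s j) • gs z P (e j)) = 0 := by
    rw [map_sum]
    have h5 : ∀ j, appS ((Scheme.Modules.pullback z).map b) ⊤ (fn D.x (s j) • gs z P (e j)) =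
        ∑ l, fn D.x (m l j * s j) • gs z Q (f l) := by
      intro j
      rw [map_smul, appS_gs, hd, map_sum, Finset.smul_sum]
      refine Finset.sum_congr rfl fun l _ => ?_
      rw [gs_smul, hm, smul_smul, map_mul, mul_comm]
    rw [Finset.sum_congr rfl fun j _ => h5 j, Finset.sum_comm]
    refine Finset.sum_eq_zero fun l _ => ?_
    rw [← Finset.sum_smul, ← map_sum, hsm, map_zero, zero_smul]
  obtain ⟨σ₁, hσ₁⟩ := exists_of_appS_eq_zero hz.exact _ h1
  let σ := appS (inv (μ (Scheme.Modules.pullback z) E ((Scheme.Modules.pullback pr).obj N))) ⊤ σ₁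
  have hσ : appS (μ (Scheme.Modules.pullback z) E ((Scheme.Modules.pullback pr).obj N)) ⊤ σ = σ₁ := by
    change appS _ ⊤ (appS _ ⊤ σ₁) = σ₁
    rw [← appS_comp, IsIso.inv_hom_id, appS_id]
  have hσ0 : c0 _ σ ≠ 0 := by
    intro h0
    have h2 : σ = 0 := (c0 _).injective (h0.trans (map_zero _).symm)
    apply hs
    apply he'
    rw [← hσ₁, ← hσ, h2, map_zero, map_zero]
  obtain ⟨G, f₀, g₀, w₀, hS, hSN, hδ, v, hv, h, hR⟩ := hadm (c0 _ σ) hσ0
    (Groth.Agent.CohqB.HSeqMod.hmap (inv (μ (Scheme.Modules.pullback z) E ((Scheme.Modules.pullback pr).obj N))) 1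
      (-dl hz (∑ l, fn D.x (t l) • gs z Q (f l))))
  refine ⟨v, hv, h, fun c hcm hc => ?_⟩
  have h3 := point_main D v h pr (hV v hv) (N := N) hE hN hP hQ hex hz e f d hd he hf c hc s
    (fun l => by simpa only [hcm] using hsm l) hS hR hSN σ ((congrArg _ hσ).trans hσ₁) t ?_
  · simpa only [hcm] using h3
  · refine (congrArg (· + dl hz (∑ l, fn D.x (t l) • gs z Q (f l)))
      (congrArg (Groth.Agent.CohqB.HSeqMod.hmap (μ (Scheme.Modules.pullback z) E ((Scheme.Modules.pullback pr).obj N)) 1)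
        hδ)).trans ?_
    rw [← Groth.Agent.CohqB.HSeqMod.hmap_comp_apply, IsIso.inv_hom_id, Groth.Agent.CohqB.HSeqMod.hmap_id_apply]
    exact neg_add_cancel _

end gen

end K822.Onto
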