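import Groth.Agent.BunMod.K822.Onto
import Groth.Agent.Dcoh.KFlatMod
import Groth.Agent.PerfC.FlatExact

/-!
# The point theorem for `E ⊗ (A → B → C)`

`0 → A → B → C → 0` exact on `W` with `A`, `B` finite locally free, `pr : Z ⟶ W` with `z ≫ pr` an isomorphism, `E` finite
locally free on `Z`: `onto_cst` is `onto_gen` for `E ⊗ pr^* A → E ⊗ pr^* B → E ⊗ pr^* C`.
-/

set_option autoImplicit false

universe w u

open CategoryTheory CategoryTheory.Limits AlgebraicGeometry TopologicalSpace Opposite MonoidalCategory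

namespace K822.Onto

open scoped Groth.Agent.Dcoh.MonCat
open Groth.Agent.Dcoh Groth.Agent.Dcoh.MonPull
open Groth.Agent.Sga67.Sec Groth.Agent.Krr.H487.LocBasisPull
open K822.Eps K822.EMod K822.Nine K822.Tr K822.Tens
open Functor.LaxMonoidal Functor.OplaxMonoidal

section exact

variable {X : Scheme.{u}}

theorem wl_zero (E : X.Modules) {A B C : X.Modules} {f : A ⟶ B} {g : B ⟶ C} (w : f ≫ g = 0) :
    (E ◁ f) ≫ (E ◁ g) = 0 := ((ShortComplex.mk f g w).map (DCoh.tensorBi.obj E)).zero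

theorem epi_wl (E : X.Modules) {A B : X.Modules} (f : A ⟶ B) [Epi f] : Epi (E ◁ f) :=
  inferInstanceAs (Epi ((DCoh.tensorBi.obj E).map f))

theorem exact_wl (E : X.Modules) {A B C : X.Modules} {f : A ⟶ B} {g : B ⟶ C} {w : f ≫ g = 0}
    (hS : (ShortComplex.mk f g w).Exact) [Epi g] (w' : (E ◁ f) ≫ (E ◁ g) = 0) :
    (ShortComplex.mk (E ◁ f) (E ◁ g) w').Exact :=
  hS.map_of_epi_of_preservesCokernel (DCoh.tensorBi.obj E) inferInstance inferInstance

theorem mono_wl {E : X.Modules} (hE : FlatMod.IsFinLocFree E) {A B : X.Modules} (f : A ⟶ B) [Mono f] :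
    Mono (E ◁ f) := by
  have h := Groth.Agent.PerfB.TensInv.preservesFiniteLimits_of_isFinLocFree hE
  have h1 : Mono (f ▷ E) := inferInstanceAs (Mono ((DCoh.tensorRightMod E).map f))
  have h2 : E ◁ f = (β_ E A).hom ≫ (f ▷ E) ≫ (β_ E B).inv := by
    rw [← BraidedCategory.braiding_naturality_right_assoc, Iso.hom_inv_id, Category.comp_id]
  rw [h2]
  infer_instance

variable {Z W : Scheme.{u}} (z : X ⟶ Z) (pr : Z ⟶ W)

theorem mono_pull₂ [IsIso (z ≫ pr)] {A B : W.Modules} (f : A ⟶ B) [Mono f] :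
    Mono ((Scheme.Modules.pullback z).map ((Scheme.Modules.pullback pr).map f)) := by
  have h1 : PreservesFiniteLimits (Scheme.Modules.pullback (z ≫ pr)) :=
    Groth.Agent.PerfC.FlatExact.preservesFiniteLimits_pullback (z ≫ pr)
  have h2 : Mono ((Scheme.Modules.pullback (z ≫ pr)).map f) := inferInstance
  have h3 : (Scheme.Modules.pullback z).map ((Scheme.Modules.pullback pr).map f) =
      (tr z pr rfl A).hom ≫ (Scheme.Modules.pullback (z ≫ pr)).map f ≫ (tr z pr rfl B).inv := by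
    rw [← Category.assoc, tr_natural, Category.assoc, Iso.hom_inv_id, Category.comp_id]
  rw [h3]
  infer_instance

theorem mono_pull_wl [IsIso (z ≫ pr)] {E : Z.Modules} (hE : FlatMod.IsFinLocFree E) {A B : W.Modules} (f : A ⟶ B)
    [Mono f] : Mono ((Scheme.Modules.pullback z).map (E ◁ (Scheme.Modules.pullback pr).map f)) := by
  have h1 := mono_pull₂ z pr f
  have h2 := mono_wl (Groth.Agent.PerfC.PullRestrict.isFinLocFree_pullback z hE)
    ((Scheme.Modules.pullback z).map ((Scheme.Modules.pullback pr).map f))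
  have h3 := μ_natural_right (F := Scheme.Modules.pullback z) E ((Scheme.Modules.pullback pr).map f)
  have h4 : (Scheme.Modules.pullback z).map (E ◁ (Scheme.Modules.pullback pr).map f) =
      inv (μ (Scheme.Modules.pullback z) E ((Scheme.Modules.pullback pr).obj A)) ≫
        ((Scheme.Modules.pullback z).obj E ◁ (Scheme.Modules.pullback z).map ((Scheme.Modules.pullback pr).map f)) ≫
        μ (Scheme.Modules.pullback z) E ((Scheme.Modules.pullback pr).obj B) := by
    rw [h3, ← Category.assoc, IsIso.inv_hom_id, Category.id_comp]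
  rw [h4]
  have h5 := mono_comp ((Scheme.Modules.pullback z).obj E ◁ (Scheme.Modules.pullback z).map ((Scheme.Modules.pullback pr).map f))
    (μ (Scheme.Modules.pullback z) E ((Scheme.Modules.pullback pr).obj B))
  exact mono_comp _ _

theorem isQCoh_of_exact {K P Q : X.Modules} {a : K ⟶ P} {b : P ⟶ Q} {w : a ≫ b = 0} (hK : Coh.IsQCoh K)
    (hP : Coh.IsQCoh P) (hex : (ShortComplex.mk a b w).Exact) [hb : Epi b] : Coh.IsQCoh Q := by
  have h1 := Groth.Agent.CohqB.QC6.isQCoh_cokernel a hK hP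
  have h2 : Epi (ShortComplex.mk a b w).g := hb
  have e : cokernel a ≅ Q := (colimit.isColimit _).coconePointUniqueUpToIso hex.gIsCokernel
  exact Groth.Agent.CohqB.QC6.isQCoh_of_iso e h1

end exact

section cst

variable {k : Type u} [Field k] {X Y Z W : Scheme.{u}} (D : DT k X Y) {z : X ⟶ Z} (pr : Z ⟶ W) [IsIso (z ≫ pr)]
  {E : Z.Modules} {A B C : W.Modules} {f₁ : A ⟶ B} {g₁ : B ⟶ C} {w₁ : f₁ ≫ g₁ = 0}

/-- `onto_gen` for `E ⊗ (A → B → C)`, the complex being constant. -/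
theorem onto_cst (V : (Y ⟶ Z) → Prop) (hV : ∀ v, V v → v ≫ pr = D.q ≫ z ≫ pr)
    (hS : (ShortComplex.mk f₁ g₁ w₁).ShortExact)
    (hE : FlatMod.IsFinLocFree E) (hA : FlatMod.IsFinLocFree A) (hB : FlatMod.IsFinLocFree B)
    {ι κ : Type*} [Fintype ι] [Fintype κ] (e : ι → Sec (E ⊗ (Scheme.Modules.pullback pr).obj B) ⊤)
    (f : κ → Sec (E ⊗ (Scheme.Modules.pullback pr).obj C) ⊤) (d : κ → ι → Γ(Z, ⊤))
    (hd : ∀ j, appS (E ◁ (Scheme.Modules.pullback pr).map g₁) ⊤ (e j) = ∑ l, d l j • f l)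
    (he : ∀ p : Sec ((Scheme.Modules.pullback z).obj (E ⊗ (Scheme.Modules.pullback pr).obj B)) ⊤,
      ∃ c : ι → k, p = ∑ j, fn D.x (c j) • gs z (E ⊗ (Scheme.Modules.pullback pr).obj B) (e j))
    (he' : ∀ c : ι → k, ∑ j, fn D.x (c j) • gs z (E ⊗ (Scheme.Modules.pullback pr).obj B) (e j) = 0 → c = 0)
    (hf : ∀ x : κ → k, ∑ l, fn D.x (x l) • gs z (E ⊗ (Scheme.Modules.pullback pr).obj C) (f l) = 0 → x = 0)
    (hadm : ∀ σ : Coh.HH X ((DCoh.tensorRightMod ((Scheme.Modules.pullback z).obj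
          ((Scheme.Modules.pullback pr).obj A))).obj ((Scheme.Modules.pullback z).obj E)) 0, σ ≠ 0 →
      ∀ β : Coh.HH X ((DCoh.tensorRightMod ((Scheme.Modules.pullback z).obj
          ((Scheme.Modules.pullback pr).obj A))).obj ((Scheme.Modules.pullback z).obj E)) 1,
      ∃ (G : X.Modules) (f₀ : (Scheme.Modules.pullback z).obj E ⟶ G) (g₀ : G ⟶ (Scheme.Modules.pullback z).obj E)
        (w₀ : f₀ ≫ g₀ = 0) (_ : (ShortComplex.mk f₀ g₀ w₀).ShortExact)
        (hSN : ((ShortComplex.mk f₀ g₀ w₀).map (DCoh.tensorRightMod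
          ((Scheme.Modules.pullback z).obj ((Scheme.Modules.pullback pr).obj A)))).ShortExact),
        Groth.Agent.CohqB.HSeqMod.δ hSN 0 σ = β ∧
          ∃ (v : Y ⟶ Z) (_ : V v) (h : D.i ≫ v = z), Real D v h E (g₀ ≫ f₀) g₀)
    (m : κ → ι → k) (hm : ∀ l j, (z.appTop (d l j) : Γ(X, ⊤)) = fn D.x (m l j))
    (s : ι → k) (hs : s ≠ 0) (hsm : ∀ l, ∑ j, m l j * s j = 0) (t : κ → k) :
    ∃ (v : Y ⟶ Z) (_ : V v) (_ : D.i ≫ v = z), ∀ c : κ → ι → DualNumber k, (∀ l j, (c l j).fst = m l j) →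
      (∀ l j, (v.appTop (d l j) : Γ(Y, ⊤)) = fn D.y (c l j)) →
        ∃ c' : ι → k, ∀ l, ∑ j, (c l j).snd * s j = t l + ∑ j, m l j * c' j := by
  have hq : ∀ {S : Scheme.{u}} {F : S.Modules}, FlatMod.IsFinLocFree F → Coh.IsQCoh F := fun hF =>
    Groth.Agent.Ega2.QCohLocal.isQCoh_of_isFinLocFree hF
  have hg1 : Epi g₁ := hS.epi_g
  have hf1 : Mono f₁ := hS.mono_f
  have hpA := Groth.Agent.PerfC.PullRestrict.isFinLocFree_pullback pr hA
  have hpB := Groth.Agent.PerfC.PullRestrict.isFinLocFree_pullback pr hB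
  have hEA : FlatMod.IsFinLocFree (E ⊗ (Scheme.Modules.pullback pr).obj A) :=
    Groth.Agent.Sga67.LocBasis.isFinLocFree_tensorMod hE hpA
  have hEB : FlatMod.IsFinLocFree (E ⊗ (Scheme.Modules.pullback pr).obj B) :=
    Groth.Agent.Sga67.LocBasis.isFinLocFree_tensorMod hE hpB
  have w2 : (Scheme.Modules.pullback pr).map f₁ ≫ (Scheme.Modules.pullback pr).map g₁ = 0 := by
    rw [← Functor.map_comp, w₁, Functor.map_zero]
  have ex2 := exact_pull pr hS.exact w2
  have ep2 : Epi ((Scheme.Modules.pullback pr).map g₁) := inferInstance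
  have w3 := wl_zero E w2
  have ex3 := exact_wl E ex2 w3
  have ep3 := epi_wl E ((Scheme.Modules.pullback pr).map g₁)
  have w4 : (Scheme.Modules.pullback z).map (E ◁ (Scheme.Modules.pullback pr).map f₁) ≫
      (Scheme.Modules.pullback z).map (E ◁ (Scheme.Modules.pullback pr).map g₁) = 0 := by
    rw [← Functor.map_comp, w3, Functor.map_zero]
  have ex4 := exact_pull z ex3 w4
  have hz : (ShortComplex.mk _ _ w4).ShortExact :=
    { exact := ex4
      mono_f := mono_pull_wl z pr hE f₁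
      epi_g := inferInstanceAs (Epi ((Scheme.Modules.pullback z).map (E ◁ (Scheme.Modules.pullback pr).map g₁))) }
  refine onto_gen D pr V hV hE hA hEB (isQCoh_of_exact (hq hEA) (hq hEB) ex3) ex3 hz e f d hd he he' ?_ hadm m hm s hs
    hsm t
  intro x y hxy
  have h1 := hf (x - y) (by
    rw [← sub_eq_zero, ← Finset.sum_sub_distrib] at hxy
    rw [← hxy]
    refine Finset.sum_congr rfl fun l _ => ?_
    rw [Pi.sub_apply, map_sub, sub_smul])
  exact sub_eq_zero.1 h1

end cst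

end K822.Onto
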