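import Groth.Agent.BunMod.K822.Tr

/-!
# Morphisms between thickenings

`σ : Y ⟶ Y₀` over `X` (`σ ≫ q₀ = q`), `ρ : σ^* M₀ ⟶ M`: `rdd q₀ σ h ρ : q₀_* M₀ ⟶ q_* M`, semilinear, compatible with the
reductions.
-/

set_option autoImplicit false

universe w u

open CategoryTheory CategoryTheory.Limits AlgebraicGeometry TopologicalSpace Opposite

namespace K822.Rdd

open Groth.Agent.Sga67.Sec Groth.Agent.Krr.H487.LocBasisPull
open Groth.Agent.LoccohB.HHmap (smulHom smulHom_comp smulHom_app)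
open K822.Eps K822.EMod K822.Tr

section assoc

variable {A B C D : Scheme.{u}}

theorem pullbackComp_assoc (k : A ⟶ B) (a : B ⟶ C) (g : C ⟶ D) (E₀ : D.Modules)
    (hk : k ≫ a ≫ g = (k ≫ a) ≫ g) :
    (Scheme.Modules.pullbackComp k a).hom.app ((Scheme.Modules.pullback g).obj E₀) ≫
      (Scheme.Modules.pullbackComp (k ≫ a) g).hom.app E₀ =
    (Scheme.Modules.pullback k).map ((Scheme.Modules.pullbackComp a g).hom.app E₀) ≫
      (Scheme.Modules.pullbackComp k (a ≫ g)).hom.app E₀ ≫ (Scheme.Modules.pullbackCongr hk).hom.app E₀ := by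
  have h1 := congrArg (fun t => t.app E₀) (Scheme.Modules.pseudofunctor_associativity k a g)
  simp only [NatTrans.comp_app, Functor.whiskerRight_app, Functor.associator_hom_app, Functor.whiskerLeft_app,
    Category.id_comp] at h1
  have h3 : (Scheme.Modules.pullbackCongr hk).hom.app E₀ = _ := h1.symm
  rw [h3, Iso.hom_inv_id_app_assoc, ← Functor.map_comp_assoc, Iso.hom_inv_id_app, CategoryTheory.Functor.map_id,
    Category.id_comp]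

theorem tr_rfl (a : A ⟶ B) (b : B ⟶ C) (F : C.Modules) :
    (tr a b rfl F).hom = (Scheme.Modules.pullbackComp a b).hom.app F := by
  change (Scheme.Modules.pullbackComp a b).hom.app F ≫ (Scheme.Modules.pullbackCongr rfl).hom.app F = _
  have h3 : (Scheme.Modules.pullbackCongr (rfl : a ≫ b = a ≫ b)).hom = 𝟙 _ := rfl
  rw [h3, NatTrans.id_app, Category.comp_id]

/-- Associativity. -/
theorem tr_assoc (i : A ⟶ B) (v : B ⟶ C) {z : A ⟶ C} (o : C ⟶ D) {v' : B ⟶ D} {z' : A ⟶ D} (h : i ≫ v = z)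
    (h2 : v ≫ o = v') (h3 : z ≫ o = z') (h4 : i ≫ v' = z') (E : D.Modules) :
    (tr i v h ((Scheme.Modules.pullback o).obj E)).hom ≫ (tr z o h3 E).hom =
      (Scheme.Modules.pullback i).map (tr v o h2 E).hom ≫ (tr i v' h4 E).hom := by
  subst h h2 h3
  rw [tr_rfl, tr_rfl, tr_rfl]
  exact pullbackComp_assoc i v o E h4

end assoc

section rdd

variable {X Y Y₀ : Scheme.{u}} (q₀ : Y₀ ⟶ X) (σ : Y ⟶ Y₀) {q : Y ⟶ X} (h : σ ≫ q₀ = q)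

include h in
theorem rdd_pre (U : X.Opens) : σ ⁻¹ᵁ (q₀ ⁻¹ᵁ U) = q ⁻¹ᵁ U := by
  subst h
  rfl

/-- The map `q₀_* M₀ ⟶ q_* M` attached to `ρ : σ^* M₀ ⟶ M`. -/
noncomputable def rdd {M₀ : Y₀.Modules} {M : Y.Modules} (ρ : (Scheme.Modules.pullback σ).obj M₀ ⟶ M) :
    (Scheme.Modules.pushforward q₀).obj M₀ ⟶ (Scheme.Modules.pushforward q).obj M :=
  (Scheme.Modules.pushforward q₀).map
      ((Scheme.Modules.pullbackPushforwardAdjunction σ).unit.app M₀ ≫ (Scheme.Modules.pushforward σ).map ρ) ≫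
    (Scheme.Modules.pushforwardComp σ q₀).hom.app M ≫ (Scheme.Modules.pushforwardCongr h).hom.app M

theorem appS_rdd {M₀ : Y₀.Modules} {M : Y.Modules} (ρ : (Scheme.Modules.pullback σ).obj M₀ ⟶ M) (U : X.Opens)
    (s : Sec M₀ (q₀ ⁻¹ᵁ U)) : @Eq (Sec M (q ⁻¹ᵁ U)) (appS (rdd q₀ σ h ρ) U s)
      (res M (rdd_pre q₀ σ h U).ge (appS ρ (σ ⁻¹ᵁ (q₀ ⁻¹ᵁ U)) (pbS σ M₀ s))) := rfl

theorem smul_rdd {M₀ : Y₀.Modules} {M : Y.Modules} (ρ : (Scheme.Modules.pullback σ).obj M₀ ⟶ M) (r : Γ(Y₀, ⊤)) :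
    (Scheme.Modules.pushforward q₀).map (smulHom M₀ r) ≫ rdd q₀ σ h ρ =
      rdd q₀ σ h ρ ≫ (Scheme.Modules.pushforward q).map (smulHom M (σ.appTop r)) := by
  apply hom_ext
  intro U s
  have e1 : @Eq (Sec M (q ⁻¹ᵁ U)) (appS ((Scheme.Modules.pushforward q₀).map (smulHom M₀ r) ≫ rdd q₀ σ h ρ) U s)
      (appS (rdd q₀ σ h ρ) U (appS (smulHom M₀ r) (q₀ ⁻¹ᵁ U) s)) := rfl
  have e2 : @Eq (Sec M (q ⁻¹ᵁ U)) (appS (rdd q₀ σ h ρ ≫ (Scheme.Modules.pushforward q).map (smulHom M (σ.appTop r))) U s)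
      (appS (smulHom M (σ.appTop r)) (q ⁻¹ᵁ U) (appS (rdd q₀ σ h ρ) U s)) := rfl
  refine e1.trans (Eq.trans ?_ e2.symm)
  refine (appS_rdd q₀ σ h ρ U _).trans ?_
  refine Eq.trans ?_ (congrArg (appS (smulHom M (σ.appTop r)) (q ⁻¹ᵁ U)) (appS_rdd q₀ σ h ρ U s)).symm
  rw [appS_res]
  congr 1
  rw [← appS_pbS, pullback_map_smulHom, ← appS_comp, smulHom_comp, appS_comp]

theorem rdd_red {Z : Scheme.{u}} {i : X ⟶ Y} (hi : i ≫ q = 𝟙 X) {i₀ : X ⟶ Y₀} (hi₀ : i₀ ≫ q₀ = 𝟙 X) (hσ : i ≫ σ = i₀)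
    {v₀ : Y₀ ⟶ Z} {v : Y ⟶ Z} (hv : σ ≫ v₀ = v) {z : X ⟶ Z} (hz : i ≫ v = z) (hz₀ : i₀ ≫ v₀ = z) (F : Z.Modules) :
    rdd q₀ σ h (tr σ v₀ hv F).hom ≫ red q i hi (tr i v hz F).hom = red q₀ i₀ hi₀ (tr i₀ v₀ hz₀ F).hom := by
  apply hom_ext
  intro U s
  have e1 : appS (rdd q₀ σ h (tr σ v₀ hv F).hom ≫ red q i hi (tr i v hz F).hom) U s =
      appS (red q i hi (tr i v hz F).hom) U (appS (rdd q₀ σ h (tr σ v₀ hv F).hom) U s) := rfl
  rw [e1, appS_red]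
  have e2 := congrArg (fun t => res ((Scheme.Modules.pullback z).obj F) (preimage_eq q i hi U).ge
    (appS (tr i v hz F).hom (i ⁻¹ᵁ (q ⁻¹ᵁ U)) (pbS i _ t))) (appS_rdd q₀ σ h (tr σ v₀ hv F).hom U s)
  refine e2.trans ?_
  have e3 : i ⁻¹ᵁ (q ⁻¹ᵁ U) ≤ i ⁻¹ᵁ (σ ⁻¹ᵁ (q₀ ⁻¹ᵁ U)) := i.preimage_mono (rdd_pre q₀ σ h U).ge
  rw [← res_pbS i _ (rdd_pre q₀ σ h U).ge e3, appS_res, res_res, ← appS_pbS, ← appS_comp,
    ← tr_assoc i σ v₀ hσ hv hz₀ hz F, appS_comp, tr_pbS, appS_res, res_res]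
  rfl

end rdd

end K822.Rdd
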