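import Groth.Agent.BunMod.K822.Tr

/-!
# Tensor products and the extension of a tangent vector

`D : DT k X Y`, `v : Y ⟶ Z`, `z = i ≫ v`, `E`, `N` on `Z`, `θ : z^* N ⟶ q_* v^* N` a section of the reduction (it exists
if `N` comes from `X`, `tht`).  `dl_tensor`: the connecting map of `(0 → z^* E → q_* v^* E → z^* E → 0) ⊗ z^* N` is that
of `0 → z^*(E ⊗ N) → q_* v^* (E ⊗ N) → z^*(E ⊗ N) → 0`.
-/

set_option autoImplicit false

universe w u

open CategoryTheory CategoryTheory.Limits AlgebraicGeometry TopologicalSpace Opposite MonoidalCategory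

namespace K822.Tens

open scoped Groth.Agent.Dcoh.MonCat
open Groth.Agent.Dcoh Groth.Agent.Dcoh.MonPull
open Groth.Agent.Sga67.Sec Groth.Agent.Krr.H487.LocBasisPull
open Groth.Agent.LoccohB.HHmap (smulHom smulHom_comp smulHom_app)
open K822.Eps K822.EMod K822.Nine K822.Tr
open Functor.LaxMonoidal Functor.OplaxMonoidal

section tr

variable {X Y Z : Scheme.{u}} (i : X ⟶ Y) (v : Y ⟶ Z) {z : X ⟶ Z} (h : i ≫ v = z)

theorem tr_mul (E N : Z.Modules) :
    μ (Scheme.Modules.pullback i) ((Scheme.Modules.pullback v).obj E) ((Scheme.Modules.pullback v).obj N) ≫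
      (Scheme.Modules.pullback i).map (μ (Scheme.Modules.pullback v) E N) ≫ (tr i v h (E ⊗ N)).hom =
    ((tr i v h E).hom ⊗ₘ (tr i v h N).hom) ≫ μ (Scheme.Modules.pullback z) E N := by
  subst h
  have h3 : ∀ F : Z.Modules, (tr i v rfl F).hom = (Scheme.Modules.pullbackComp i v).hom.app F := by
    intro F
    change (Scheme.Modules.pullbackComp i v).hom.app F ≫ (Scheme.Modules.pullbackCongr rfl).hom.app F = _
    have h3 : (Scheme.Modules.pullbackCongr (rfl : i ≫ v = i ≫ v)).hom = 𝟙 _ := rfl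
    rw [h3, NatTrans.id_app, Category.comp_id]
  rw [h3, h3, h3]
  have h4 := NatTrans.IsMonoidal.tensor (τ := (Scheme.Modules.pullbackComp i v).hom) E N
  rw [← h4]
  exact (Category.assoc _ _ _).symm

theorem tr_mul_pb (E N : Z.Modules) {V : Y.Opens} (m : Γ((Scheme.Modules.pullback v).obj E, V))
    (n : Γ((Scheme.Modules.pullback v).obj N, V)) :
    (tr i v h (E ⊗ N)).hom.app (i ⁻¹ᵁ V)
        (pb i ((μ (Scheme.Modules.pullback v) E N).app V (MonTm.tm m n))) =
      (μ (Scheme.Modules.pullback z) E N).app (i ⁻¹ᵁ V)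
        (MonTm.tm ((tr i v h E).hom.app (i ⁻¹ᵁ V) (pb i m)) ((tr i v h N).hom.app (i ⁻¹ᵁ V) (pb i n))) := by
  rw [← map_pb, ← μ_pb i m n]
  have h1 := tr_mul i v h E N
  have h2 := congrArg (fun φ => Scheme.Modules.Hom.app φ (i ⁻¹ᵁ V) (MonTm.tm (pb i m) (pb i n))) h1
  refine Eq.trans ?_ (h2.trans ?_)
  · rfl
  · exact congrArg ((μ (Scheme.Modules.pullback z) E N).app (i ⁻¹ᵁ V)) (MonTm.tensorHom_tm _ _ _ _)

/-- Multiplication on the reductions. -/
theorem mul_red (q : Y ⟶ X) (hq : i ≫ q = 𝟙 X) (E N : Z.Modules) :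
    μ (Scheme.Modules.pushforward q) ((Scheme.Modules.pullback v).obj E) ((Scheme.Modules.pullback v).obj N) ≫
      (Scheme.Modules.pushforward q).map (μ (Scheme.Modules.pullback v) E N) ≫ red q i hq (tr i v h (E ⊗ N)).hom =
    (red q i hq (tr i v h E).hom ⊗ₘ red q i hq (tr i v h N).hom) ≫ μ (Scheme.Modules.pullback z) E N := by
  refine MonTm.ext₂ _ _ fun U m n => ?_
  have h1 := push_μ_tm q (V := U) ((Scheme.Modules.pullback v).obj E) ((Scheme.Modules.pullback v).obj N) m n
  have h2 : (μ (Scheme.Modules.pushforward q) ((Scheme.Modules.pullback v).obj E) ((Scheme.Modules.pullback v).obj N) ≫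
      (Scheme.Modules.pushforward q).map (μ (Scheme.Modules.pullback v) E N) ≫
        red q i hq (tr i v h (E ⊗ N)).hom).app U (MonTm.tm m n) =
      (red q i hq (tr i v h (E ⊗ N)).hom).app U
        (toPush q ((μ (Scheme.Modules.pullback v) E N).app (q ⁻¹ᵁ U) (MonTm.tm m n))) :=
    congrArg (fun x => (red q i hq (tr i v h (E ⊗ N)).hom).app U
      (((Scheme.Modules.pushforward q).map (μ (Scheme.Modules.pullback v) E N)).app U x)) h1
  have h3 : (red q i hq (tr i v h (E ⊗ N)).hom).app U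
        (toPush q ((μ (Scheme.Modules.pullback v) E N).app (q ⁻¹ᵁ U) (MonTm.tm m n))) =
      res _ (preimage_eq q i hq U).ge ((tr i v h (E ⊗ N)).hom.app (i ⁻¹ᵁ (q ⁻¹ᵁ U))
        (pb i ((μ (Scheme.Modules.pullback v) E N).app (q ⁻¹ᵁ U) (MonTm.tm m n)))) := rfl
  have h4 := congrArg (res _ (preimage_eq q i hq U).ge)
    (tr_mul_pb i v h E N (V := q ⁻¹ᵁ U) m n)
  refine h2.trans (h3.trans (h4.trans ?_))
  have h5 := appS_res (μ (Scheme.Modules.pullback z) E N) (preimage_eq q i hq U).ge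
    (MonTm.tm ((tr i v h E).hom.app (i ⁻¹ᵁ (q ⁻¹ᵁ U)) (pb i m)) ((tr i v h N).hom.app (i ⁻¹ᵁ (q ⁻¹ᵁ U)) (pb i n)))
  refine h5.symm.trans ?_
  have h6 : ((red q i hq (tr i v h E).hom ⊗ₘ red q i hq (tr i v h N).hom) ≫ μ (Scheme.Modules.pullback z) E N).app U
      (MonTm.tm m n) = appS (μ (Scheme.Modules.pullback z) E N) U
        (MonTm.tm ((red q i hq (tr i v h E).hom).app U m) ((red q i hq (tr i v h N).hom).app U n)) :=
    congrArg ((μ (Scheme.Modules.pullback z) E N).app U) (MonTm.tensorHom_tm _ _ _ _)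
  refine Eq.trans ?_ h6.symm
  congr 1
  exact MonTm.tm_res (homOfLE (preimage_eq q i hq U).ge) _ _

end tr

section point

variable {k : Type u} [Field k] {X Y Z : Scheme.{u}} (D : DT k X Y) (v : Y ⟶ Z) {z : X ⟶ Z} (h : D.i ≫ v = z)
  (E N : Z.Modules)

/-- Multiplication on the direct images. -/
noncomputable def mulv :
    (Scheme.Modules.pushforward D.q).obj ((Scheme.Modules.pullback v).obj E) ⊗
      (Scheme.Modules.pushforward D.q).obj ((Scheme.Modules.pullback v).obj N) ⟶
    (Scheme.Modules.pushforward D.q).obj ((Scheme.Modules.pullback v).obj (E ⊗ N)) :=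
  μ (Scheme.Modules.pushforward D.q) ((Scheme.Modules.pullback v).obj E) ((Scheme.Modules.pullback v).obj N) ≫
      (Scheme.Modules.pushforward D.q).map (μ (Scheme.Modules.pullback v) E N)

theorem mulv_rd : mulv D v E N ≫ rd D v h (E ⊗ N) =
    (rd D v h E ⊗ₘ rd D v h N) ≫ μ (Scheme.Modules.pullback z) E N := by
  rw [mulv, Category.assoc]
  exact mul_red D.i v h D.q D.iq E N

theorem whiskerRight_eM {Y : Scheme.{u}} (A B : Y.Modules) (r : Γ(Y, ⊤)) :
    (smulHom A r ▷ B) = smulHom (A ⊗ B) r := by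
  refine MonTm.ext₂ _ _ fun U m n => ?_
  rw [MonTm.whiskerRight_tm]
  change MonTm.tm (resO Y (le_top : U ≤ ⊤) r • m) n = resO Y (le_top : U ≤ ⊤) r • MonTm.tm m n
  rw [MonTm.smul_tm]

theorem mulv_eq : (D.eq ((Scheme.Modules.pullback v).obj E) ▷
      (Scheme.Modules.pushforward D.q).obj ((Scheme.Modules.pullback v).obj N)) ≫ mulv D v E N =
    mulv D v E N ≫ D.eq ((Scheme.Modules.pullback v).obj (E ⊗ N)) := by
  have h1 := μ_natural_left (F := Scheme.Modules.pushforward D.q) (D.eM ((Scheme.Modules.pullback v).obj E))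
    ((Scheme.Modules.pullback v).obj N)
  rw [mulv]
  refine (Category.assoc _ _ _).symm.trans ?_
  refine (congrArg (· ≫ (Scheme.Modules.pushforward D.q).map (μ (Scheme.Modules.pullback v) E N)) h1).trans ?_
  rw [Category.assoc, ← Functor.map_comp, whiskerRight_eM, smulHom_comp, Functor.map_comp, ← Category.assoc]

variable {E N}

/-- The map `q_* v^* E ⊗ z^* N ⟶ q_* v^* (E ⊗ N)`. -/
noncomputable def multh (E : Z.Modules) (θ : (Scheme.Modules.pullback z).obj N ⟶
      (Scheme.Modules.pushforward D.q).obj ((Scheme.Modules.pullback v).obj N)) :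
    (Scheme.Modules.pushforward D.q).obj ((Scheme.Modules.pullback v).obj E) ⊗ (Scheme.Modules.pullback z).obj N ⟶
      (Scheme.Modules.pushforward D.q).obj ((Scheme.Modules.pullback v).obj (E ⊗ N)) :=
  (_ ◁ θ) ≫ mulv D v E N

variable {θ : (Scheme.Modules.pullback z).obj N ⟶
      (Scheme.Modules.pushforward D.q).obj ((Scheme.Modules.pullback v).obj N)}

theorem multh_rd (hθ : θ ≫ rd D v h N = 𝟙 _) : multh D v E θ ≫ rd D v h (E ⊗ N) =
    (rd D v h E ▷ _) ≫ μ (Scheme.Modules.pullback z) E N := by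
  rw [multh, Category.assoc, mulv_rd, ← Category.assoc, whiskerLeft_comp_tensorHom, hθ, tensorHom_id]

theorem multh_eq : (D.eq ((Scheme.Modules.pullback v).obj E) ▷ _) ≫ multh D v E θ =
    multh D v E θ ≫ D.eq ((Scheme.Modules.pullback v).obj (E ⊗ N)) := by
  rw [multh, Category.assoc, ← mulv_eq, ← Category.assoc, ← Category.assoc, whisker_exchange]

/-- The connecting map of the extension of `v`, tensored with `z^* N`. -/
theorem dl_tensor (hθ : θ ≫ rd D v h N = 𝟙 _)
    (H : IsEM (D.eq ((Scheme.Modules.pullback v).obj E)) (rd D v h E))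
    (H' : IsEM (D.eq ((Scheme.Modules.pullback v).obj (E ⊗ N))) (rd D v h (E ⊗ N)))
    {w : (H.j ▷ (Scheme.Modules.pullback z).obj N) ≫ (rd D v h E ▷ (Scheme.Modules.pullback z).obj N) = 0}
    (hT : (ShortComplex.mk (H.j ▷ (Scheme.Modules.pullback z).obj N)
      (rd D v h E ▷ (Scheme.Modules.pullback z).obj N) w).ShortExact)
    (σ : Sec ((Scheme.Modules.pullback z).obj E ⊗ (Scheme.Modules.pullback z).obj N) ⊤) :
    dl H'.shortExact (appS (μ (Scheme.Modules.pullback z) E N) ⊤ σ) =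
      Groth.Agent.CohqB.HSeqMod.hmap (μ (Scheme.Modules.pullback z) E N) 1 (dl hT σ) := by
  have hepi : Epi (rd D v h E ▷ (Scheme.Modules.pullback z).obj N) := hT.epi_g
  have e1 := multh_rd D v h (E := E) hθ
  let φ : ShortComplex.mk (H.j ▷ (Scheme.Modules.pullback z).obj N)
      (rd D v h E ▷ (Scheme.Modules.pullback z).obj N) w ⟶ H'.sc :=
    { τ₁ := μ (Scheme.Modules.pullback z) E N
      τ₂ := multh D v E θ
      τ₃ := μ (Scheme.Modules.pullback z) E N
      comm₁₂ := by
        dsimp only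
        rw [← cancel_epi (rd D v h E ▷ (Scheme.Modules.pullback z).obj N), ← Category.assoc, ← e1, Category.assoc,
          H'.π_j, ← Category.assoc, ← comp_whiskerRight, H.π_j, multh_eq]
      comm₂₃ := e1 }
  exact dl_natural hT H'.shortExact φ σ

end point

end K822.Tens
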