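import Groth.Agent.BunMod.K822.Link
import Groth.Agent.Dcoh.MonPull3_292

/-!
# The link for a tangent vector

`D : DT k X Y` (`Y = X ×_k k[ε]`), `v : Y ⟶ Z` and `z = i ≫ v : X ⟶ Z`.
* `tr i v h F : i^* v^* F ≅ z^* F`; `gs f M : Γ(M) → Γ(f^* M)`; `red_tr`: the reduction of `v^* s` is `z^* s`.
* `Pt`: `v^* F` is flat over `k[ε]`; `sv`: the extension `0 → z^* F → q_* v^* F → z^* F → 0`.
* `link_point`: `K → P → Q` on `Z`, sections `e_j`, `f_i` of `P`, `Q` with `b e_j = ∑ d_ij f_i`; if `v^* d_ij = c_ij`,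
  `∑ fst(c_ij) s_j = 0`, `a σ = ∑ s_j z^* e_j`, then `δ_(sv K)(σ) + δ_row(∑_i (∑_j snd(c_ij) s_j) z^* f_i) = 0`.
-/

set_option autoImplicit false

universe w u

open CategoryTheory CategoryTheory.Limits AlgebraicGeometry TopologicalSpace Opposite

namespace K822.Tr

open Groth.Agent.Sga67.Sec Groth.Agent.Krr.H487.LocBasisPull
open Groth.Agent.LoccohB.HHmap (smulHom smulHom_comp smulHom_app)
open K822.Eps K822.EMod K822.Nine

section tr

variable {X Y Z : Scheme.{u}} (i : X ⟶ Y) (v : Y ⟶ Z) {z : X ⟶ Z} (h : i ≫ v = z)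

/-- `i^* v^* F ≅ z^* F` for `i ≫ v = z`. -/
noncomputable def tr (F : Z.Modules) :
    (Scheme.Modules.pullback i).obj ((Scheme.Modules.pullback v).obj F) ≅ (Scheme.Modules.pullback z).obj F :=
  (Scheme.Modules.pullbackComp i v).app F ≪≫ (Scheme.Modules.pullbackCongr h).app F

theorem tr_natural {F F' : Z.Modules} (φ : F ⟶ F') :
    (tr i v h F).hom ≫ (Scheme.Modules.pullback z).map φ =
      (Scheme.Modules.pullback i).map ((Scheme.Modules.pullback v).map φ) ≫ (tr i v h F').hom := by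
  subst h
  have h1 := (Scheme.Modules.pullbackComp i v).hom.naturality φ
  have h2 : ∀ F : Z.Modules, (tr i v rfl F).hom = (Scheme.Modules.pullbackComp i v).hom.app F := by
    intro F
    change (Scheme.Modules.pullbackComp i v).hom.app F ≫ (Scheme.Modules.pullbackCongr rfl).hom.app F = _
    have h3 : (Scheme.Modules.pullbackCongr (rfl : i ≫ v = i ≫ v)).hom = 𝟙 _ := rfl
    rw [h3, NatTrans.id_app, Category.comp_id]
  rw [h2, h2]
  exact h1.symm

include h in
theorem tr_preimage (U : Z.Opens) : i ⁻¹ᵁ (v ⁻¹ᵁ U) = z ⁻¹ᵁ U := by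
  subst h
  rfl

theorem tr_pbS (F : Z.Modules) {U : Z.Opens} (s : Sec F U) :
    appS (tr i v h F).hom (i ⁻¹ᵁ (v ⁻¹ᵁ U)) (pbS i ((Scheme.Modules.pullback v).obj F) (pbS v F s)) =
      res ((Scheme.Modules.pullback z).obj F) (tr_preimage i v h U).le (pbS z F s) := by
  subst h
  refine Eq.trans ?_ (res_self _ _ _).symm
  have h3 : (tr i v rfl F).hom = (Scheme.Modules.pullbackComp i v).hom.app F := by
    change (Scheme.Modules.pullbackComp i v).hom.app F ≫ (Scheme.Modules.pullbackCongr rfl).hom.app F = _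
    have h3 : (Scheme.Modules.pullbackCongr (rfl : i ≫ v = i ≫ v)).hom = 𝟙 _ := rfl
    rw [h3, NatTrans.id_app, Category.comp_id]
  rw [h3]
  exact Groth.Agent.Dcoh.MonPull.pullbackComp_hom_pb (f := i) (g := v) s

/-- Pull-back of global sections. -/
noncomputable def gs {X Y : Scheme.{u}} (f : X ⟶ Y) (M : Y.Modules) :
    Sec M ⊤ →+ Sec ((Scheme.Modules.pullback f).obj M) ⊤ := pbS f M (U := ⊤)

theorem gs_smul {X Y : Scheme.{u}} (f : X ⟶ Y) (M : Y.Modules) (r : Γ(Y, ⊤)) (s : Sec M ⊤) :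
    gs f M (r • s) = (f.appTop r : Γ(X, ⊤)) • gs f M s := pbS_smul f M r s

theorem appS_gs {X Y : Scheme.{u}} (f : X ⟶ Y) {M N : Y.Modules} (g : M ⟶ N) (s : Sec M ⊤) :
    appS ((Scheme.Modules.pullback f).map g) ⊤ (gs f M s) = gs f N (appS g ⊤ s) := appS_pbS f g s

/-- Global sections of the direct image. -/
noncomputable def gp {X Y : Scheme.{u}} (q : Y ⟶ X) (M : Y.Modules) :
    Sec M ⊤ →+ Sec ((Scheme.Modules.pushforward q).obj M) ⊤ := AddMonoidHom.id (Sec M ⊤)

theorem appS_gp {X Y : Scheme.{u}} (q : Y ⟶ X) {M N : Y.Modules} (g : M ⟶ N) (s : Sec M ⊤) :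
    appS ((Scheme.Modules.pushforward q).map g) ⊤ (gp q M s) = gp q N (appS g ⊤ s) := rfl

theorem gp_smul {X Y : Scheme.{u}} (q : Y ⟶ X) (M : Y.Modules) (r : Γ(X, ⊤)) (s : Sec M ⊤) :
    gp q M ((q.appTop r : Γ(Y, ⊤)) • s) = r • gp q M s := rfl

theorem red_tr (q : Y ⟶ X) (hq : i ≫ q = 𝟙 X) (F : Z.Modules) (s : Sec F ⊤) :
    appS (red q i hq (tr i v h F).hom) ⊤ (gp q _ (gs v F s)) = gs z F s := by
  refine (appS_red q i hq (tr i v h F).hom ⊤ (gs v F s)).trans ?_
  have h1 := tr_pbS i v h F (U := ⊤) s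
  refine (congrArg (res ((Scheme.Modules.pullback z).obj F) (preimage_eq q i hq ⊤).ge) h1).trans ?_
  exact (res_res _ _ _ _).trans (res_self _ _ _)

end tr

section point

variable {k : Type u} [Field k] {X Y Z : Scheme.{u}} (D : DT k X Y) (v : Y ⟶ Z) {z : X ⟶ Z} (h : D.i ≫ v = z)

/-- The reduction `q_* v^* F ⟶ z^* F`. -/
noncomputable def rd (F : Z.Modules) :
    (Scheme.Modules.pushforward D.q).obj ((Scheme.Modules.pullback v).obj F) ⟶ (Scheme.Modules.pullback z).obj F :=
  red D.q D.i D.iq (tr D.i v h F).hom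

theorem rd_gs (F : Z.Modules) (s : Sec F ⊤) :
    appS (rd D v h F) ⊤ (gp D.q _ (gs v F s)) = gs z F s := red_tr D.i v h D.q D.iq F s

theorem rd_natural {F F' : Z.Modules} (φ : F ⟶ F') :
    rd D v h F ≫ (Scheme.Modules.pullback z).map φ =
      (Scheme.Modules.pushforward D.q).map ((Scheme.Modules.pullback v).map φ) ≫ rd D v h F' :=
  red_natural D.q D.i D.iq _ _ (tr_natural D.i v h φ)

/-- The `ε`-module `q_* v^* F` over `z^* F`. -/
theorem sv {F : Z.Modules} (hF : Coh.IsQCoh F) (fF : D.EFlat ((Scheme.Modules.pullback v).obj F)) :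
    IsEM (D.eq ((Scheme.Modules.pullback v).obj F)) (rd D v h F) :=
  D.isEM (Groth.Agent.VarietyB.PullSec.isQCoh_pullback _ _ hF) fF (tr D.i v h F).hom

theorem fn_appTop_q (c : k) : (D.q.appTop (fn D.x c) : Γ(Y, ⊤)) = fn D.y (algebraMap k (DualNumber k) c) := by
  have h2 := Scheme.ΓSpecIso_inv_naturality (CommRingCat.ofHom (algebraMap k (DualNumber k)))
  have h1 : (Scheme.ΓSpecIso (CommRingCat.of k)).inv ≫ D.x.appTop ≫ D.q.appTop =
      CommRingCat.ofHom (algebraMap k (DualNumber k)) ≫ (Scheme.ΓSpecIso (CommRingCat.of (DualNumber k))).inv ≫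
        D.y.appTop := by
    rw [← Scheme.Hom.comp_appTop, D.sq.w, Scheme.Hom.comp_appTop, ← Category.assoc, ← h2, Category.assoc]
  exact congr($h1 c)

theorem appS_eM_top (M : Y.Modules) (s : Sec M ⊤) : appS (D.eM M) ⊤ s = D.ep • s := by
  rw [appS_smulHom, resO_self]

variable {K P Q : Z.Modules} {a : K ⟶ P} {b : P ⟶ Q} {w : a ≫ b = 0}

theorem exact_pull (f : Y ⟶ Z) (hex : (ShortComplex.mk a b w).Exact) [Epi b]
    (w' : (Scheme.Modules.pullback f).map a ≫ (Scheme.Modules.pullback f).map b = 0) :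
    (ShortComplex.mk ((Scheme.Modules.pullback f).map a) ((Scheme.Modules.pullback f).map b) w').Exact :=
  hex.map_of_epi_of_preservesCokernel (Scheme.Modules.pullback f) inferInstance inferInstance

/-- The link between tangent vectors and connecting maps. -/
theorem link_point (hK : Coh.IsQCoh K) (hP : Coh.IsQCoh P) (hQ : Coh.IsQCoh Q)
    (fK : D.EFlat ((Scheme.Modules.pullback v).obj K)) (fP : D.EFlat ((Scheme.Modules.pullback v).obj P))
    (hex : (ShortComplex.mk a b w).Exact) [Epi b]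
    {wz : (Scheme.Modules.pullback z).map a ≫ (Scheme.Modules.pullback z).map b = 0}
    (hz : (ShortComplex.mk ((Scheme.Modules.pullback z).map a) ((Scheme.Modules.pullback z).map b) wz).ShortExact)
    {ι κ : Type*} [Fintype ι] [Fintype κ] (e : ι → Sec P ⊤) (f : κ → Sec Q ⊤) (d : κ → ι → Γ(Z, ⊤))
    (hd : ∀ j, appS b ⊤ (e j) = ∑ l, d l j • f l) (c : κ → ι → DualNumber k)
    (hc : ∀ l j, (v.appTop (d l j) : Γ(Y, ⊤)) = fn D.y (c l j)) (s : ι → k) (hs : ∀ l, ∑ j, (c l j).fst * s j = 0)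
    (σ : Sec ((Scheme.Modules.pullback z).obj K) ⊤)
    (hσ : appS ((Scheme.Modules.pullback z).map a) ⊤ σ = ∑ j, fn D.x (s j) • gs z P (e j)) :
    dl (sv D v h hK fK).shortExact σ + dl hz (∑ l, fn D.x (∑ j, (c l j).snd * s j) • gs z Q (f l)) = 0 := by
  have wv : (Scheme.Modules.pullback v).map a ≫ (Scheme.Modules.pullback v).map b = 0 := by
    rw [← Functor.map_comp, w, Functor.map_zero]
  have hev := exact_pull v hex wv
  have hbv : Epi ((Scheme.Modules.pullback v).map b) := inferInstance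
  have hq : ∀ {F : Z.Modules}, Coh.IsQCoh F → Coh.IsQCoh ((Scheme.Modules.pullback v).obj F) := fun hF =>
    Groth.Agent.VarietyB.PullSec.isQCoh_pullback _ _ hF
  let t : Sec ((Scheme.Modules.pullback v).obj P) ⊤ := ∑ j, fn D.y (algebraMap k (DualNumber k) (s j)) • gs v P (e j)
  let q' : Sec ((Scheme.Modules.pullback v).obj Q) ⊤ :=
    ∑ l, fn D.y (algebraMap k (DualNumber k) (∑ j, (c l j).snd * s j)) • gs v Q (f l)
  have hlin : ∀ {F : Z.Modules} (r : k) (u : Sec F ⊤),
      appS (rd D v h F) ⊤ (gp D.q _ (fn D.y (algebraMap k (DualNumber k) r) • gs v F u)) = fn D.x r • gs z F u := by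
    intro F r u
    rw [← fn_appTop_q, gp_smul, map_smul, rd_gs]
  have e₁ : appS (rd D v h P) ⊤ (gp D.q _ t) = appS ((Scheme.Modules.pullback z).map a) ⊤ σ := by
    rw [hσ, map_sum, map_sum]
    exact Finset.sum_congr rfl fun j _ => hlin (s j) (e j)
  have e₃ : appS (rd D v h Q) ⊤ (gp D.q _ q') = ∑ l, fn D.x (∑ j, (c l j).snd * s j) • gs z Q (f l) := by
    rw [map_sum, map_sum]
    exact Finset.sum_congr rfl fun l _ => hlin _ (f l)
  have e₂ : appS ((Scheme.Modules.pullback v).map b) ⊤ t = appS (D.eM ((Scheme.Modules.pullback v).obj Q)) ⊤ q' := by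
    rw [appS_eM_top, map_sum, Finset.smul_sum]
    have h1 : ∀ j, appS ((Scheme.Modules.pullback v).map b) ⊤
        (fn D.y (algebraMap k (DualNumber k) (s j)) • gs v P (e j)) =
        ∑ l, fn D.y (c l j * algebraMap k (DualNumber k) (s j)) • gs v Q (f l) := by
      intro j
      rw [map_smul, appS_gs, hd, map_sum, Finset.smul_sum]
      refine Finset.sum_congr rfl fun l _ => ?_
      rw [gs_smul, hc, smul_smul, map_mul, mul_comm]
    rw [Finset.sum_congr rfl fun j _ => h1 j, Finset.sum_comm]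
    refine Finset.sum_congr rfl fun l _ => ?_
    rw [← Finset.sum_smul, smul_smul, ← map_sum, DT.ep, ← map_mul]
    congr 2
    apply TrivSqZeroExt.ext
    · have h2 : (∑ j, c l j * algebraMap k (DualNumber k) (s j)).fst = ∑ j, (c l j).fst * s j := by
        rw [show (∑ j, c l j * algebraMap k (DualNumber k) (s j)).fst =
          TrivSqZeroExt.fstHom k k k (∑ j, c l j * algebraMap k (DualNumber k) (s j)) from rfl, map_sum]
        refine Finset.sum_congr rfl fun j _ => ?_
        rw [map_mul]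
        rfl
      rw [h2, hs]
      simp
    · have h2 : (∑ j, c l j * algebraMap k (DualNumber k) (s j)).snd = ∑ j, (c l j).snd * s j := by
        rw [show (∑ j, c l j * algebraMap k (DualNumber k) (s j)).snd =
          TrivSqZeroExt.sndHom k k (∑ j, c l j * algebraMap k (DualNumber k) (s j)) from rfl, map_sum]
        refine Finset.sum_congr rfl fun j _ => ?_
        change (c l j * TrivSqZeroExt.inl (s j)).snd = _
        rw [TrivSqZeroExt.snd_mul]
        simp [mul_comm]
      rw [h2]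
      change _ = ((DualNumber.eps : DualNumber k) * TrivSqZeroExt.inl (∑ j, (c l j).snd * s j)).snd
      rw [TrivSqZeroExt.snd_mul]
      simp
  have hl := D.link (w := wv) (ρK := (tr D.i v h K).hom) (ρP := (tr D.i v h P).hom) (ρQ := (tr D.i v h Q).hom)
    (hq hK) (hq hP) (hq hQ) fK fP hev hz (tr_natural D.i v h a) (tr_natural D.i v h b) σ t q' e₁ e₂
  rw [← e₃]
  exact hl

end point

end K822.Tr
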