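import Groth.Agent.BunMod.K822.Cls
import Groth.Agent.BunMod.K774.D1
import Groth.Agent.Vancyc.H878.Triv

/-!
# Versality of the Kodaira–Spencer classes and the kernel of a matrix

`real_of_cls` : a tangent vector whose class `K822.Cls.cls` is the class of an extension realizes this extension.
`onto_all` : on an integral separated Noetherian `X` of dimension `≤ 1` over the field `k`, with `E` of rank
`n + 1` on `X × T` and `z : Spec k ⟶ T`, if every self-extension of `z^* E` is the class of a tangent vector over `z`,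
then for `s ≠ 0` in the kernel of the matrix `d(z)` (which computes `H⁰(E_z ⊗ A)`), the derivatives of `d` in the
tangent directions over `z`, applied to `s`, together with the image of `d(z)` cover everything.
`ker_eq_zero` : for a square matrix, if moreover the derivatives act by zero on kernel modulo image, the kernel is `0`.
-/

set_option autoImplicit false

universe w u

open CategoryTheory CategoryTheory.Limits AlgebraicGeometry TopologicalSpace Opposite MonoidalCategory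

namespace K822.Vers

open scoped Groth.Agent.Dcoh.MonCat
open Groth.Agent.Sga67.Sec Groth.Agent.Krr.H487.LocBasisPull Groth.Agent.Fga.RigGrp
open K140.BM K822.Eps K822.EMod K822.Nine K822.Tr K822.XTD K822.OntoX K822.Onto K822.Rdd K822.XAdd K822.Cls

section gen

variable {k : Type u} [Field k] {X Y Z : Scheme.{u}} (D : DT k X Y)

/-- An extension with the class of `v` is realized by `v`. -/
theorem real_of_ext [HasExt.{w} X.Modules] (v : Y ⟶ Z) {z : X ⟶ Z} (h : D.i ≫ v = z) {E : Z.Modules}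
    (H : IsEM (D.eq ((Scheme.Modules.pullback v).obj E)) (rd D v h E)) {G : X.Modules}
    {f : (Scheme.Modules.pullback z).obj E ⟶ G} {g : G ⟶ (Scheme.Modules.pullback z).obj E} {w : f ≫ g = 0}
    (hS : (ShortComplex.mk f g w).ShortExact) (he : (H.ext : Abelian.Ext.{w} _ _ 1) = hS.extClass) :
    Real D v h E (g ≫ f) g := by
  have h1 : (hS.extClass : Abelian.Ext.{w} _ _ 1) = H.shortExact.extClass := he.symm
  obtain ⟨m, hm₁, hm₃⟩ := K774.ExtPush.exists_hom hS H.shortExact (𝟙 _) (𝟙 _) (by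
    rw [Abelian.Ext.comp_mk₀_id, Abelian.Ext.mk₀_id_comp]
    exact h1)
  have c₁ : f ≫ m.τ₂ = H.j := by
    have h2 := m.comm₁₂
    rw [hm₁] at h2
    exact h2.symm.trans (Category.id_comp _)
  have c₂ : m.τ₂ ≫ rd D v h E = g := by
    have h2 := m.comm₂₃
    rw [hm₃] at h2
    exact h2.trans (Category.comp_id _)
  refine ⟨m.τ₂, c₂, ?_⟩
  have h3 : m.τ₂ ≫ D.eq ((Scheme.Modules.pullback v).obj E) = m.τ₂ ≫ rd D v h E ≫ H.j :=
    congrArg (m.τ₂ ≫ ·) H.π_j.symm
  rw [h3, ← Category.assoc, c₂, Category.assoc, c₁]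

end gen

section XT

variable {k : Type u} [Field k] {X : Scheme.{u}} [X.Over (Spec (CommRingCat.of k))] {T : Over (B0 k)} {z : T0 k ⟶ T}
  [HasExt.{w} (PicF.XT (st k X) (T0 k)).Modules]

theorem real_of_cls {v : Te k ⟶ T} (hv : iT k ≫ v = z) {F : (PicF.XT (st k X) T).Modules}
    (hF : FlatMod.IsFinLocFree F)
    {G : (PicF.XT (st k X) (T0 k)).Modules} {f : pl k X z F ⟶ G} {g : G ⟶ pl k X z F} {w : f ≫ g = 0}
    (hS : (ShortComplex.mk f g w).ShortExact) (he : cls.{w} hv hF = hS.extClass) :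
    Real (dt k X) (PicF.XTmap (st k X) v) (di_v hv) F (g ≫ f) g :=
  real_of_ext (dt k X) (PicF.XTmap (st k X) v) (di_v hv) (isEM_v hv hF) hS he

/-- `onto_aux` when the needed classes are classes of tangent vectors. -/
theorem onto_cls {E : (PicF.XT (st k X) T).Modules} {A B C : X.Modules} {f₁ : A ⟶ B} {g₁ : B ⟶ C} {w₁ : f₁ ≫ g₁ = 0}
    (hS : (ShortComplex.mk f₁ g₁ w₁).ShortExact)
    (hE : FlatMod.IsFinLocFree E) (hA : FlatMod.IsFinLocFree A) (hB : FlatMod.IsFinLocFree B)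
    {ι κ : Type*} [Fintype ι] [Fintype κ] (e : ι → Sec (E ⊗ cst k T B) ⊤)
    (f : κ → Sec (E ⊗ cst k T C) ⊤) (d : κ → ι → Γ(T.left, ⊤))
    (hd : ∀ j, appS (E ◁ (Scheme.Modules.pullback (pX X T)).map g₁) ⊤ (e j) = ∑ l, fT k X T (d l j) • f l)
    (he : ∀ p : Sec (pl k X z (E ⊗ cst k T B)) ⊤,
      ∃ c : ι → k, p = ∑ j, fn (dt k X).x (c j) • gs (PicF.XTmap (st k X) z) (E ⊗ cst k T B) (e j))
    (he' : ∀ c : ι → k, ∑ j, fn (dt k X).x (c j) • gs (PicF.XTmap (st k X) z) (E ⊗ cst k T B) (e j) = 0 → c = 0)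
    (hf : ∀ x : κ → k, ∑ l, fn (dt k X).x (x l) • gs (PicF.XTmap (st k X) z) (E ⊗ cst k T C) (f l) = 0 → x = 0)
    (hadm : ∀ σ : Coh.HH _ ((DCoh.tensorRightMod (pl k X z (cst k T A))).obj (pl k X z E)) 0, σ ≠ 0 →
      ∀ β : Coh.HH _ ((DCoh.tensorRightMod (pl k X z (cst k T A))).obj (pl k X z E)) 1,
      ∃ (G : (PicF.XT (st k X) (T0 k)).Modules) (f₀ : pl k X z E ⟶ G) (g₀ : G ⟶ pl k X z E)
        (w₀ : f₀ ≫ g₀ = 0) (hS : (ShortComplex.mk f₀ g₀ w₀).ShortExact)
        (hSN : ((ShortComplex.mk f₀ g₀ w₀).map (DCoh.tensorRightMod (pl k X z (cst k T A)))).ShortExact),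
        Groth.Agent.CohqB.HSeqMod.δ hSN 0 σ = β ∧
          ∃ (v : Te k ⟶ T) (hv : iT k ≫ v = z), cls.{w} hv hE = hS.extClass)
    (s : ι → k) (hs : s ≠ 0) (hsm : ∀ l, ∑ j, ev0 z (d l j) * s j = 0) (t : κ → k) :
    ∃ (v : Te k ⟶ T) (_ : iT k ≫ v = z) (c : ι → k),
      ∀ l, ∑ j, (evE v (d l j)).snd * s j = t l + ∑ j, ev0 z (d l j) * c j := by
  refine onto_aux hS hE hA hB z e f d hd he he' hf (fun σ hσ β => ?_) s hs hsm t
  obtain ⟨G, f₀, g₀, w₀, h1, h2, h3, v, hv, h4⟩ := hadm σ hσ β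
  exact ⟨G, f₀, g₀, w₀, h1, h2, h3, v, hv, real_of_cls hv hE h1 h4⟩

end XT

section curve

variable {k : Type u} [Field k] {X : Scheme.{u}} [X.Over (Spec (CommRingCat.of k))]

instance isIso_p0 : IsIso (pX X (T0 k)) := inferInstanceAs (IsIso (pullback.fst (st k X) (𝟙 (B0 k))))

theorem isIntegral_X0 [IsIntegral X] : IsIntegral (PicF.XT (st k X) (T0 k)) :=
  have : Nonempty (PicF.XT (st k X) (T0 k)) := ⟨(inv (pX X (T0 k))) (Classical.arbitrary X)⟩
  isIntegral_of_isOpenImmersion (pX X (T0 k))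

theorem isNoetherian_X0 [IsNoetherian X] : IsNoetherian (PicF.XT (st k X) (T0 k)) := by
  have h1 : IsLocallyNoetherian (PicF.XT (st k X) (T0 k)) := LocallyOfFiniteType.isLocallyNoetherian (pX X (T0 k))
  have h2 : CompactSpace (PicF.XT (st k X) (T0 k)) := QuasiCompact.compactSpace_of_compactSpace (pX X (T0 k))
  exact {}

theorem isSeparated_X0 [X.IsSeparated] : (PicF.XT (st k X) (T0 k)).IsSeparated := by
  rw [Scheme.isSeparated_iff, ← terminal.comp_from (pX X (T0 k))]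
  infer_instance

theorem dim_X0 : topologicalKrullDim (PicF.XT (st k X) (T0 k)) = topologicalKrullDim X :=
  IsHomeomorph.topologicalKrullDim_eq (pX X (T0 k)) (Scheme.homeoOfIso (asIso (pX X (T0 k)))).isHomeomorph

variable {T : Over (B0 k)} {z : T0 k ⟶ T} [IsIntegral X] [X.IsSeparated] [IsNoetherian X]
  [HasExt.{w} (PicF.XT (st k X) (T0 k)).Modules]

/-- If every self-extension of `z^* E` is the class of a tangent vector over `z`, then tangent vectors act as
arbitrarily as possible from the kernel to the cokernel of the matrix. -/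
theorem onto_all (hdim : topologicalKrullDim X ≤ 1) {E : (PicF.XT (st k X) T).Modules} {A B C : X.Modules}
    {f₁ : A ⟶ B} {g₁ : B ⟶ C} {w₁ : f₁ ≫ g₁ = 0}
    (hS : (ShortComplex.mk f₁ g₁ w₁).ShortExact) {n : ℕ}
    (hE : FlatMod.IsFinLocFreeOfRank (n + 1) E) (hA : PicF.IsInvertible A) (hB : FlatMod.IsFinLocFree B)
    {ι κ : Type*} [Fintype ι] [Fintype κ] (e : ι → Sec (E ⊗ cst k T B) ⊤)
    (f : κ → Sec (E ⊗ cst k T C) ⊤) (d : κ → ι → Γ(T.left, ⊤))
    (hd : ∀ j, appS (E ◁ (Scheme.Modules.pullback (pX X T)).map g₁) ⊤ (e j) = ∑ l, fT k X T (d l j) • f l)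
    (he : ∀ p : Sec (pl k X z (E ⊗ cst k T B)) ⊤,
      ∃ c : ι → k, p = ∑ j, fn (dt k X).x (c j) • gs (PicF.XTmap (st k X) z) (E ⊗ cst k T B) (e j))
    (he' : ∀ c : ι → k, ∑ j, fn (dt k X).x (c j) • gs (PicF.XTmap (st k X) z) (E ⊗ cst k T B) (e j) = 0 → c = 0)
    (hf : ∀ x : κ → k, ∑ l, fn (dt k X).x (x l) • gs (PicF.XTmap (st k X) z) (E ⊗ cst k T C) (f l) = 0 → x = 0)
    (hvers : ∀ x : Abelian.Ext.{w} (pl k X z E) (pl k X z E) 1,
      ∃ (v : Te k ⟶ T) (hv : iT k ≫ v = z), cls.{w} hv (K774.D1.isFinLocFree hE) = x)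
    (s : ι → k) (hs : s ≠ 0) (hsm : ∀ l, ∑ j, ev0 z (d l j) * s j = 0) (t : κ → k) :
    ∃ (v : Te k ⟶ T) (_ : iT k ≫ v = z) (c : ι → k),
      ∀ l, ∑ j, (evE v (d l j)).snd * s j = t l + ∑ j, ev0 z (d l j) * c j := by
  have i1 := isIntegral_X0 (k := k) (X := X)
  have i2 := isNoetherian_X0 (k := k) (X := X)
  have i3 := isSeparated_X0 (k := k) (X := X)
  have h1 : topologicalKrullDim (PicF.XT (st k X) (T0 k)) ≤ 1 := dim_X0.trans_le hdim
  have hA1 : FlatMod.IsFinLocFreeOfRank 1 A := Groth.Agent.Ega2.QCohLocal.isFinLocFreeOfRank_one_iff.2 hA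
  have hAf : FlatMod.IsFinLocFree A := K774.D1.isFinLocFree hA1
  have hA' : PicF.IsInvertible (pl k X z (cst k T A)) :=
    Groth.Agent.Ega2.QCohLocal.isFinLocFreeOfRank_one_iff.1
      (Groth.Agent.Vancyc.H878.Triv.isFinLocFreeOfRank_pullback _
        (Groth.Agent.Vancyc.H878.Triv.isFinLocFreeOfRank_pullback _ hA1))
  have hE' : FlatMod.IsFinLocFreeOfRank (n + 1) (pl k X z E) :=
    Groth.Agent.Vancyc.H878.Triv.isFinLocFreeOfRank_pullback _ hE
  refine onto_cls.{w} hS (K774.D1.isFinLocFree hE) hAf hB e f d hd he he' hf (fun σ hσ β => ?_) s hs hsm t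
  obtain ⟨G, f₀, g₀, w₀, h2, h3, h4⟩ := K774.D1.exists_ses h1 hE' hA' σ hσ β
  exact ⟨G, f₀, g₀, w₀, h2, h3, h4, hvers _⟩

end curve

section mat

variable {k : Type u} [Field k] {n : Type*} [Fintype n]

/-- A square matrix with a non-trivial kernel is not surjective: contradiction between `onto` and zero action. -/
theorem ker_eq_zero {V : Type*} (d0 : n → n → k) (d1 : V → n → n → k)
    (honto : ∀ s : n → k, s ≠ 0 → (∀ l, ∑ j, d0 l j * s j = 0) → ∀ t : n → k, ∃ (v : V) (c : n → k),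
      ∀ l, ∑ j, d1 v l j * s j = t l + ∑ j, d0 l j * c j)
    (hzero : ∀ v (s : n → k), (∀ l, ∑ j, d0 l j * s j = 0) → ∃ c : n → k, ∀ l, ∑ j, d1 v l j * s j = ∑ j, d0 l j * c j)
    (s : n → k) (hs : ∀ l, ∑ j, d0 l j * s j = 0) : s = 0 := by
  by_contra h0
  have h1 : Function.Surjective (Matrix.mulVec (Matrix.of d0)) := by
    intro t
    obtain ⟨v, c, hc⟩ := honto s h0 hs (t)
    obtain ⟨c', hc'⟩ := hzero v s hs
    refine ⟨c' - c, ?_⟩
    rw [Matrix.mulVec_sub]
    funext l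
    change ∑ j, d0 l j * c' j - ∑ j, d0 l j * c j = t l
    rw [← hc', hc]
    ring
  have h2 : Function.Injective (Matrix.mulVec (Matrix.of d0)) := by
    have h3 : Function.Surjective (Matrix.of d0).mulVecLin := h1
    exact LinearMap.injective_iff_surjective.2 h3
  exact h0 (h2 ((funext hs : Matrix.mulVec (Matrix.of d0) s = 0).trans (Matrix.mulVec_zero _).symm))

end mat

end K822.Vers
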